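import Mathlib
import Cfsg.Agent.Lib.ChevInv.Tits
import Cfsg.Agent.Lib.ChevInv.DataT
import Cfsg.Agent.Lib.AltCover.Pres

/-!
# Elements of order five of `²E₆(2)`: fusion, and the subgroup `A₈`
-/

set_option autoImplicit false
set_option Elab.async false

namespace CfsgLib.E62

open Cfsg.Lie CfsgLib.Chev CfsgLib.ChevInv CfsgLib.Twist CfsgLib.Stein

/-- the `n`-th power of a word -/
def rep (n : ℕ) (l : List ℕ) : List ℕ := (List.replicate n l).flatten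

theorem wd_rep {D : ChevalleyDatum} [Good D] {F : Type*} [Field F] (n : ℕ) (l : List ℕ) :
    wd D F (rep n l) = wd D F l ^ n := by
  induction n with
  | zero => rfl
  | succ n ih => rw [pow_succ', ← ih, ← wd_append]; rfl

theorem sameE {F : Type*} [Field F] [CharP F 2] {l l' : List ℕ} (h : same fastE6 l l' = true) :
    wd chevE6 F l = wd chevE6 F l' := eq_of_same matchE6.ofD_eq rfl h

/-- an element of order five -/
def wa : List ℕ := [0, 1, 24, 39, 71]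

/-- a second element of order five -/
def wb : List ℕ := [6, 65, 6, 2, 0, 1, 24, 39, 71, 2, 6, 65, 6]

/-- elements conjugating `wa` to `wa ^ i * wb ^ j` -/
def conjT : List (ℕ × ℕ × List ℕ) :=
  [(0, 1, [6, 65, 6, 2]), (0, 2, [69, 18, 53, 32, 18, 0]), (0, 3, [6, 65, 25, 32, 6, 0]), (0, 4, [6, 65, 24, 6, 2, 1]),
  (1, 0, []), (1, 1, [0, 47, 60, 53, 51, 2, 56, 36, 15, 35, 56, 36, 42, 37, 29, 34, 42, 37]),
  (1, 2, [71, 8, 65, 1, 69, 6, 42, 37, 29, 34, 42, 37]), (1, 3, [65, 32, 8, 69, 20, 0, 42, 37, 29, 34, 42, 37]),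
  (1, 4, [24, 6, 20, 71, 47, 0, 56, 36, 15, 35, 56, 36, 42, 37, 29, 34, 42, 37]), (2, 0, [32, 25, 2, 0]),
  (2, 1, [6, 39, 69, 63, 46, 0, 42, 37, 29, 34, 42, 37]),
  (2, 2, [11, 18, 71, 70, 24, 2, 56, 36, 15, 35, 56, 36, 42, 37, 29, 34, 42, 37]),
  (2, 3, [65, 24, 53, 2, 32, 47, 0, 56, 36, 15, 35, 56, 36, 42, 37, 29, 34, 42, 37]),
  (2, 4, [65, 8, 2, 1, 69, 42, 37, 29, 34, 42, 37]), (3, 0, [25, 2, 32, 0]),
  (3, 1, [18, 71, 1, 44, 47, 24, 42, 37, 29, 34, 42, 37]),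
  (3, 2, [65, 24, 46, 44, 47, 2, 1, 56, 36, 15, 35, 56, 36, 42, 37, 29, 34, 42, 37]),
  (3, 3, [25, 6, 71, 18, 47, 60, 0, 56, 36, 15, 35, 56, 36, 42, 37, 29, 34, 42, 37]),
  (3, 4, [69, 6, 63, 39, 51, 0, 42, 37, 29, 34, 42, 37]), (4, 0, [71, 39]),
  (4, 1, [0, 53, 51, 46, 60, 2, 56, 36, 15, 35, 56, 36, 42, 37, 29, 34, 42, 37]),
  (4, 2, [65, 32, 8, 69, 1, 42, 37, 29, 34, 42, 37]), (4, 3, [60, 1, 65, 8, 69, 6, 42, 37, 29, 34, 42, 37]),
  (4, 4, [20, 6, 1, 71, 47, 0, 56, 36, 15, 35, 56, 36, 42, 37, 29, 34, 42, 37])]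

theorem chk_conjT : conjT.all (fun t => okTw fastE6 rhoE6 t.2.2 &&
    same fastE6 (t.2.2 ++ wa ++ t.2.2.reverse) (rep t.1 wa ++ rep t.2.1 wb)) = true := by decide +kernel

theorem chk_ab : (okTw fastE6 rhoE6 wa && okTw fastE6 rhoE6 wb && same fastE6 (rep 5 wa) [] &&
    same fastE6 (rep 5 wb) [] && same fastE6 (wa ++ wb) (wb ++ wa) && !Nat.beq (rk fastE6 wa) 0) = true := by
  decide +kernel

theorem cover_conjT : ∀ i < 5, ∀ j < 5, i = 0 ∧ j = 0 ∨ ∃ t ∈ conjT, t.1 = i ∧ t.2.1 = j := by decide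

theorem conj_five {K : Type*} [Field K] [Fintype K] (hK : Fintype.card K = 4) :
    ∃ a : twistedE6 K 2, ∀ x : twistedE6 K 2, orderOf x = 5 → IsConj a x := by
  classical
  have : CharP K 2 := charP_of_card_eq_prime_pow (f := 2) hK
  have : Fact (Nat.Prime 5) := ⟨by norm_num⟩
  have hφ : ∀ t : K, frobenius K 2 t = t ^ 2 := fun _ => rfl
  have mem := memTE6 hφ (frob2 hφ hK)
  have h := chk_ab
  simp only [Bool.and_eq_true, Bool.not_eq_true'] at h
  obtain ⟨⟨⟨⟨⟨h1, h2⟩, h3⟩, h4⟩, h5⟩, h6⟩ := h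
  set a : twistedE6 K 2 := ⟨_, mem _ h1⟩
  set b : twistedE6 K 2 := ⟨_, mem _ h2⟩
  have a5 : a ^ 5 = 1 := Subtype.ext ((wd_rep 5 wa).symm.trans (sameE h3))
  have b5 : b ^ 5 = 1 := Subtype.ext ((wd_rep 5 wb).symm.trans (sameE h4))
  have ab : Commute a b := Subtype.ext ((wd_append _ _).symm.trans ((sameE h5).trans (wd_append _ _)))
  have a1 : a ≠ 1 := fun e => ne_one_of_rk (F := K) matchE6.ofD_eq rfl (Nat.ne_of_beq_eq_false h6) (congrArg Subtype.val e)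
  have key : ∀ i < 5, ∀ j < 5, i = 0 ∧ j = 0 ∨ IsConj a (a ^ i * b ^ j) := fun i hi j hj =>
    (cover_conjT i hi j hj).imp_right fun ⟨t, ht, e1, e2⟩ => by
      have h7 := List.all_eq_true.1 chk_conjT t ht
      rw [Bool.and_eq_true, e1, e2] at h7
      refine isConj_iff.2 ⟨⟨_, mem _ h7.1⟩, Subtype.ext ?_⟩
      have h8 := sameE (F := K) h7.2
      rwa [wd_append, wd_append, wd_append, wd_reverse, wd_rep, wd_rep] at h8
  have b1 : b ≠ 1 := fun e => a1 (by simpa [e] using key 0 (by omega) 1 (by omega))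
  have oa := orderOf_eq_prime a5 a1
  have ob := orderOf_eq_prime b5 b1
  let θ := (Subgroup.zpowers a).subtype.noncommCoprod (Subgroup.zpowers b).subtype fun x y => by
    obtain ⟨_, i, rfl⟩ := x
    obtain ⟨_, j, rfl⟩ := y
    exact ab.zpow_zpow i j
  have hθ : ∀ z, z = 1 ∨ IsConj a (θ z) := by
    rintro ⟨⟨x, hx⟩, ⟨y, hy⟩⟩
    obtain ⟨i, hi, rfl⟩ := Finset.mem_image.1 (mem_zpowers_iff_mem_range_orderOf.1 hx)
    obtain ⟨j, hj, rfl⟩ := Finset.mem_image.1 (mem_zpowers_iff_mem_range_orderOf.1 hy)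
    refine (key i (oa ▸ Finset.mem_range.1 hi) j (ob ▸ Finset.mem_range.1 hj)).imp_left ?_
    rintro ⟨rfl, rfl⟩
    simp
  have hi : Function.Injective θ := (injective_iff_map_eq_one θ).2 fun z e =>
    (hθ z).resolve_right fun h => a1 (by simpa [e] using h)
  have hc : Nat.card θ.range = 5 ^ (Nat.card (twistedE6 K 2)).factorization 5 := by
    have h9 : 3 * Nat.card (twistedE6 K 2) = 3 * (5 ^ 2 * 3061299187350994157568) := (cardE6 hφ hK).trans (by norm_num)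
    rw [← Nat.card_congr (MonoidHom.ofInjective hi).toEquiv, Nat.card_prod, Nat.card_zpowers, Nat.card_zpowers, oa, ob,
      show Nat.card (twistedE6 K 2) = 5 ^ 2 * 3061299187350994157568 by omega,
      Nat.factorization_mul (by norm_num) (by norm_num), Nat.Prime.factorization_pow (by norm_num), Finsupp.add_apply,
      Nat.factorization_eq_zero_of_not_dvd (n := 3061299187350994157568) (by norm_num)]
    simp
  refine ⟨a, fun x hx => ?_⟩
  obtain ⟨P, hP⟩ := (IsPGroup.of_card (p := 5) (n := 1) (by rw [Nat.card_zpowers, hx]; rfl) :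
    IsPGroup 5 (Subgroup.zpowers x)).exists_le_sylow
  obtain ⟨g, hg⟩ := MulAction.exists_smul_eq (twistedE6 K 2) (Sylow.ofCard θ.range hc) P
  have h10 := hP (Subgroup.mem_zpowers x)
  rw [← hg, Sylow.coe_subgroup_smul, Subgroup.mem_pointwise_smul_iff_inv_smul_mem] at h10
  obtain ⟨z, hz⟩ := h10
  have h11 : IsConj (θ z) x := isConj_iff.2 ⟨g, by rw [hz]; simp [mul_assoc]⟩
  refine ((hθ z).resolve_left fun e => ?_).trans h11
  rw [e, map_one, isConj_one_right] at h11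
  simp [h11] at hx

/-- the roots orthogonal to `α₁` and `α₆` -/
def psi : List ℕ := [0, 1, 2, 24, 25, 32, 39, 46, 47, 69, 70, 71]

/-- generators of `A₈` -/
def wy (i : ℕ) : List ℕ :=
  [[], [46, 25, 69, 2], [39, 71], [46, 32, 2, 0], [25, 69], [46, 2], [25, 39, 69, 71]].getD i []

/-- the root elements as words in the generators -/
def wx : List (ℕ × List ℕ) :=
  [(0, [4, 1, 2, 3, 2, 4, 5, 4, 3, 6, 5, 4, 3, 2, 1]), (1, [2, 3, 2, 4, 5, 4, 6, 5, 4, 3, 2]),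
  (2, [1, 3, 2, 1, 4, 3, 2, 5, 1, 4, 3, 2, 6, 1, 5, 4, 3]), (24, [2, 3, 2, 4, 3, 2, 5, 4, 3, 2, 6, 5, 4, 3, 2]),
  (25, [3, 2, 4, 1, 3, 2, 1, 5, 4, 3, 2, 6, 5, 4, 3]), (32, [1, 2, 3, 4, 3, 2, 5, 4, 6, 5, 4, 3, 2, 1, 4]),
  (39, [5, 1, 2, 4, 1, 6, 5]), (46, [3, 1, 2, 4, 1, 3, 2, 1, 5, 4, 3, 2, 1, 6, 5, 4, 3]), (47, [2, 4, 5, 4, 6, 5, 4]),
  (69, [3, 2, 1, 4, 3, 2, 5, 1, 4, 3, 2, 6, 5, 4, 3]), (70, [2, 4, 6]), (71, [1, 2, 5, 1, 4, 6, 5])]

theorem chk_wx : ∀ t ∈ wx, same fastE6 [t.1] (t.2.flatMap wy) = true ∧ ∀ i ∈ t.2, 1 ≤ i ∧ i < 7 := by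
  decide +kernel

theorem chk_moore : same fastE6 (rep 3 (wy 1)) [] = true ∧ (∀ i < 7, 2 ≤ i → same fastE6 (rep 2 (wy i)) [] = true) ∧
    (∀ i < 6, 1 ≤ i → same fastE6 (rep 3 (wy i ++ wy (i + 1))) [] = true) ∧
    ∀ j < 7, ∀ i < j - 1, 1 ≤ i → same fastE6 (rep 2 (wy i ++ wy j)) [] = true := by decide +kernel

/-- the subgroup generated by the `x_r(1)`, `r` orthogonal to `α₁` and `α₆` -/
def LL (F : Type*) [Field F] : Subgroup (GL chevE6.Idx F) := Subgroup.closure {g | ∃ r ∈ psi, g = xU chevE6 F r 1}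

theorem wd_mem_LL {F : Type*} [Field F] {l : List ℕ} (h : ∀ r ∈ l, r ∈ psi) : wd chevE6 F l ∈ LL F :=
  Subgroup.list_prod_mem _ fun g hg => by
    obtain ⟨r, hr, rfl⟩ := List.mem_map.1 hg
    exact Subgroup.subset_closure ⟨r, h r hr, rfl⟩

theorem exists_alt (F : Type*) [Field F] [CharP F 2] : Nonempty (alternatingGroup (Fin 8) ≃* LL F) := by
  obtain ⟨h1, h2, h3, h4⟩ := chk_moore
  obtain ⟨ψ, hψ⟩ := AltCover.Moore.exists_hom (m := 7) (y := fun i => wd chevE6 F (wy i))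
    ⟨fun _ => (wd_rep _ _).symm.trans (sameE h1), fun i hi hi' => (wd_rep _ _).symm.trans (sameE (h2 i hi' hi)),
      fun i hi hi' => by rw [← wd_append, ← wd_rep]; exact sameE (h3 i (by omega) hi),
      fun i j hi hij hj => by rw [← wd_append, ← wd_rep]; exact sameE (h4 j hj i (by omega) hi)⟩
  have hr : ψ.range = LL F := by
    refine le_antisymm ?_ ((Subgroup.closure_le _).2 ?_)
    · rintro _ ⟨g, rfl⟩
      refine (AltCover.eq_top_of_X ((LL F).comap ψ) fun i hi hi' => ?_).ge (Subgroup.mem_top g)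
      rw [Subgroup.mem_comap, hψ i hi hi']
      exact wd_mem_LL ((by decide : ∀ i < 7, ∀ r ∈ wy i, r ∈ psi) i hi')
    · rintro _ ⟨s, hs, rfl⟩
      obtain ⟨t, ht, rfl⟩ := (by decide : ∀ r ∈ psi, ∃ t ∈ wx, t.1 = r) s hs
      obtain ⟨h5, h6⟩ := chk_wx t ht
      have h7 := sameE (F := F) h5
      rw [wd_cons, wd_nil, mul_one] at h7
      rw [h7]
      generalize t.2 = l at h6
      induction l with
      | nil => exact one_mem _
      | cons i l ih =>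
        rw [List.flatMap_cons, wd_append]
        exact mul_mem ⟨_, hψ i (h6 i List.mem_cons_self).1 (h6 i List.mem_cons_self).2⟩
          (ih fun j hj => h6 j (List.mem_cons_of_mem _ hj))
  have : IsSimpleGroup (alternatingGroup (Fin 8)) := alternatingGroup.isSimpleGroup (by simp)
  refine ⟨(MonoidHom.ofInjective ((MonoidHom.ker_eq_bot_iff ψ).1 ((Subgroup.Normal.eq_bot_or_eq_top
    inferInstance).resolve_right fun e => ?_))).trans (MulEquiv.subgroupCongr hr)⟩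
  obtain ⟨g, hg⟩ := hr.ge (Subgroup.subset_closure ⟨0, by decide, rfl⟩)
  rw [show ψ g = 1 from e.ge (Subgroup.mem_top g), eq_comm, xU_eq_one_iff (by decide)] at hg
  exact one_ne_zero hg

end CfsgLib.E62
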