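import Mathlib
import Cfsg.Agent.Lib.E62.FiveA
import Cfsg.Agent.Lib.ChevFold.Classes
import Cfsg.Agent.Lib.RGD.BorelTits

/-!
# Elements of order five of `²E₆(2)`: the centralizer over the algebraic closure
-/

set_option autoImplicit false
set_option Elab.async false

namespace CfsgLib.E62

open scoped MatrixGroups
open Cfsg.Lie CfsgLib.Chev CfsgLib.ChevInv CfsgLib.Twist CfsgLib.Stein CfsgLib.RGD CfsgLib.Weyl CfsgLib.Lang

local notation "Φ" => rootSys rtOKE6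

/-- the exponents of the toral element -/
def yy : Fin chevE6.rank → ℤ := vecE6 ![2, 0, -1, 0, -2, 4]

/-- the exponent of the toral element on a root -/
def vv (r : Fin chevE6.nroots) : ℤ := (∑ i, (Φ).rt r i * yy i) % 5

theorem vv_zero : ∀ r, vv r = 0 ↔ r.1 ∈ psi := by decide +kernel

theorem vv_form : ∀ r, vv r = 0 → ∀ i ∈ [rtE6 56, rtE6 36], (Φ).form ((Φ).rt i) ((Φ).rt r) = 0 := by decide +kernel

theorem vv_eq : ∀ i ∈ [rtE6 56, rtE6 36], ∀ s, vv s = vv i →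
    (∀ r ∈ [rtE6 39, rtE6 46, rtE6 69], (Φ).form ((Φ).rt s) ((Φ).rt r) = 0) → s = i := by decide +kernel

/-- a word in the fundamental reflections -/
def dL : List (Fin chevE6.rank) := [4, 3, 2, 1, 3, 4, 5, 1, 3, 4, 2, 3, 1, 0].map ndE6

theorem dL_apply : (Φ).wprod dL (rtE6 71) = rtE6 56 ∧ (Φ).wprod dL (rtE6 60) = rtE6 36 := by decide +kernel

theorem lam_form : ∀ r, (Φ).d (ndE6 0) * ∑ j, vecE6 ![1, 1, 0, 0, 0, 1] j * (Φ).rt r j =
    2 * (Φ).form ((Φ).rt (rtE6 71)) ((Φ).rt r) + (Φ).form ((Φ).rt (rtE6 60)) ((Φ).rt r) := by decide +kernel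

theorem exists_word {w : Equiv.Perm (Fin chevE6.nroots)} (hw : w ∈ (Φ).W) (h : ∀ r, vv (w r) = vv r) :
    ∃ L : List (Fin chevE6.rank), (∀ i ∈ L, i ∈ [ndE6 2, ndE6 3, ndE6 4]) ∧
      w = (Φ).wprod dL * (Φ).wprod L * ((Φ).wprod dL)⁻¹ := by
  have h1 : ∀ i ∈ [rtE6 56, rtE6 36], w i = i := fun i hi => vv_eq i hi _ (h i) fun r hr => by
    rw [← w.apply_symm_apply r, (Φ).form_apply hw]
    refine vv_form _ ?_ i hi
    rw [← h, w.apply_symm_apply, vv_zero]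
    exact (by decide : ∀ r ∈ [rtE6 39, rtE6 46, rtE6 69], r.1 ∈ psi) r hr
  have hd := (Φ).wprod_mem_W dL
  set d := (Φ).wprod dL
  have hw1 : d⁻¹ * w * d ∈ (Φ).W := mul_mem (mul_mem (inv_mem hd) hw) hd
  have h2 : ∀ i j, d i = j → j ∈ [rtE6 56, rtE6 36] → ∀ r,
      (Φ).form ((Φ).rt i) ((Φ).rt ((d⁻¹ * w * d) r)) = (Φ).form ((Φ).rt i) ((Φ).rt r) := fun i j e hj r => by
    rw [← (Φ).form_apply hw1 i r]
    simp [e, h1 j hj, d.symm_apply_eq.2 e.symm]
  let c : Fin chevE6.rank → ℝ := fun j => (vecE6 ![1, 1, 0, 0, 0, 1] j : ℤ)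
  have hc : ∀ j, 0 ≤ c j := forall_ndE6.2 (by simp [c, vecE6_nd])
  obtain ⟨L, hL, e⟩ := (Φ).mem_WJ_iff.1 ((Φ).mem_WJ_of_lam_eq hc hc hw1 fun r => by
    have h3 := lam_form ((d⁻¹ * w * d) r)
    rw [h2 _ _ dL_apply.1 (by simp), h2 _ _ dL_apply.2 (by simp), ← lam_form] at h3
    simp only [RootSys.lam, c]
    exact_mod_cast mul_left_cancel₀ ((Φ).d_pos _).ne' h3).2
  refine ⟨L, fun i hi => ?_, by rw [← e]; group⟩
  have h4 : (vecE6 ![1, 1, 0, 0, 0, 1] i : ℤ) = 0 := by simpa [c] using hL i hi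
  exact (by decide +kernel : ∀ i, (vecE6 ![1, 1, 0, 0, 0, 1] i : ℤ) = 0 → i ∈ [ndE6 2, ndE6 3, ndE6 4]) i h4

/-- the word of `nprod` -/
def nw (L : List (Fin chevE6.rank)) : List ℕ :=
  L.flatMap fun i : Fin chevE6.rank => [chevE6.simple i, chevE6.neg (chevE6.simple i), chevE6.simple i]

variable {F : Type*} [Field F]

local notation "S" => stSys rtOKE6

theorem nprod_eq [CharP F 2] (L : List (Fin chevE6.rank)) : (S F).nprod L = wd chevE6 F (nw L) := by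
  induction L with
  | nil => rfl
  | cons i L ih =>
    rw [StSys.nprod_cons, ih, nw, nw, List.flatMap_cons, wd_append]
    simp only [wd_cons, wd_nil, mul_one, StSys.n, stSys_x, inv_one, CharTwo.neg_eq, mul_assoc]
    rfl

theorem chk_dL : ∀ t ∈ [(ndE6 2, [69, 2, 69]), (ndE6 3, [39, 32, 39]), (ndE6 4, [46, 25, 46])],
    same fastE6 (nw dL ++ nw [t.1] ++ (nw dL).reverse) t.2 = true ∧ ∀ r ∈ t.2, r ∈ psi := by decide +kernel

theorem exists_LL [CharP F 2] {n : GL chevE6.Idx F} (hn : n ∈ (S F).N) {w : Equiv.Perm (Fin chevE6.nroots)}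
    (ha : (S F).Acts n w) (h : ∀ r, vv (w r) = vv r) : ∃ e, ∃ l ∈ LL F, n = tau chevE6 F e * l := by
  have hS := stSys_nondeg (F := F) rtOKE6
  obtain ⟨L, hL, rfl⟩ := exists_word (hS.mem_W_of_acts hn ha) h
  have hd := (Φ).wprod_mem_W dL
  obtain ⟨e, he⟩ := (isTor_tau rtOKE6).H_le (hS.mul_inv_mem_H hn (mul_mem (mul_mem ((S F).nprod_mem_N dL)
    ((S F).nprod_mem_N L)) (inv_mem ((S F).nprod_mem_N dL))) ha
    ((((S F).acts_nprod dL).mul ((S F).acts_nprod L) ((Φ).wprod_mem_W L)).mul (((S F).acts_nprod dL).inv hd)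
      (inv_mem hd)))
  refine ⟨e, _, ?_, (eq_mul_inv_iff_mul_eq.1 he).symm⟩
  clear he ha h
  induction L with
  | nil => simp [StSys.nprod_nil]
  | cons i L ih =>
    obtain ⟨t, ht, rfl⟩ := (by decide : ∀ i ∈ [ndE6 2, ndE6 3, ndE6 4],
      ∃ t ∈ [(ndE6 2, [69, 2, 69]), (ndE6 3, [39, 32, 39]), (ndE6 4, [46, 25, 46])], t.1 = i) i (hL i List.mem_cons_self)
    have h1 := sameE (F := F) (chk_dL t ht).1
    rw [wd_append, wd_append, wd_reverse, ← nprod_eq, ← nprod_eq, StSys.nprod_singleton] at h1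
    rw [StSys.nprod_cons, ← conj_mul, h1]
    exact mul_mem (wd_mem_LL (chk_dL t ht).2) (ih fun j hj => hL j (List.mem_cons_of_mem _ hj))

/-- the roots orthogonal to `α₁` and `α₆` -/
def Psi : Set (Fin chevE6.nroots) := {r | r.1 ∈ psi}

theorem LL_le : LL F ≤ (S F).UU Psi := (Subgroup.closure_le _).2 <| by
  rintro _ ⟨r, hr, rfl⟩
  exact (S F).x_mem_UU (r := ⟨r, (by decide : ∀ r ∈ psi, r < 72) r hr⟩) hr 1

theorem sl_ind {p : SL(2, F) → Prop} (hX : ∀ t, p (slX t)) (hY : ∀ t, p (slY t))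
    (hm : ∀ a b, p a → p b → p (a * b)) (g : SL(2, F)) : p g := by
  have h0 : (slX 0 : SL(2, F)) = 1 := by ext i j; fin_cases i <;> fin_cases j <;> simp [slX_val]
  refine sl_induction (M := ⟨⟨{g | p g}, fun {a b} => hm a b⟩, h0 ▸ hX 0⟩) hX ?_ g
  rw [slW_eq]
  exact hm _ _ (hm _ _ (hX _) (hY _)) (hX _)

theorem map_slX {K : Type*} [Field K] (f : F →+* K) (t : F) :
    Matrix.SpecialLinearGroup.map f (slX t) = slX (f t) := by
  ext i j; fin_cases i <;> fin_cases j <;> simp [slX_val]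

theorem map_slY {K : Type*} [Field K] (f : F →+* K) (t : F) :
    Matrix.SpecialLinearGroup.map f (slY t) = slY (f t) := by
  ext i j; fin_cases i <;> fin_cases j <;> simp [slY_val]

/-- the fundamental `SL₂` of the first node -/
noncomputable def A1 (F : Type*) [Field F] : SL(2, F) →* GL chevE6.Idx F := sl2Hom F (r := 56) (by decide)

/-- the fundamental `SL₂` of the last node -/
noncomputable def A6 (F : Type*) [Field F] : SL(2, F) →* GL chevE6.Idx F := sl2Hom F (r := 36) (by decide)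

theorem A1_X (t : F) : A1 F (slX t) = xU chevE6 F 56 t := sl2Hom_slX _ t
theorem A1_Y (t : F) : A1 F (slY t) = xU chevE6 F 15 t := sl2Hom_slY _ t
theorem A6_X (t : F) : A6 F (slX t) = xU chevE6 F 36 t := sl2Hom_slX _ t
theorem A6_Y (t : F) : A6 F (slY t) = xU chevE6 F 35 t := sl2Hom_slY _ t

theorem A1_mem (M : SL(2, F)) : A1 F M ∈ (S F).grp := by
  rw [stSys_grp]
  exact sl_ind (p := fun M => A1 F M ∈ _) (fun t => A1_X t ▸ xU_mem_group _ _) (fun t => A1_Y t ▸ xU_mem_group _ _)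
    (fun a b ha hb => map_mul (A1 F) a b ▸ mul_mem ha hb) M

theorem A6_mem (M : SL(2, F)) : A6 F M ∈ (S F).grp := by
  rw [stSys_grp]
  exact sl_ind (p := fun M => A6 F M ∈ _) (fun t => A6_X t ▸ xU_mem_group _ _) (fun t => A6_Y t ▸ xU_mem_group _ _)
    (fun a b ha hb => map_mul (A6 F) a b ▸ mul_mem ha hb) M

theorem comm_A1 {g : GL chevE6.Idx F} (h : ∀ r ∈ [56, 15], ∀ t, Commute g (xU chevE6 F r t)) (M : SL(2, F)) :
    Commute g (A1 F M) :=
  sl_ind (p := fun M => Commute g (A1 F M)) (fun t => A1_X t ▸ h _ (by simp) _) (fun t => A1_Y t ▸ h _ (by simp) _)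
    (fun a b ha hb => map_mul (A1 F) a b ▸ ha.mul_right hb) M

theorem comm_A6 {g : GL chevE6.Idx F} (h : ∀ r ∈ [36, 35], ∀ t, Commute g (xU chevE6 F r t)) (M : SL(2, F)) :
    Commute g (A6 F M) :=
  sl_ind (p := fun M => Commute g (A6 F M)) (fun t => A6_X t ▸ h _ (by simp) _) (fun t => A6_Y t ▸ h _ (by simp) _)
    (fun a b ha hb => map_mul (A6 F) a b ▸ ha.mul_right hb) M

theorem comm_x {r s : ℕ} (h : r < 72 ∧ s < 72 ∧ s ≠ chevE6.neg r ∧ chevE6.commTerms r s = []) (t u : F) :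
    Commute (xU chevE6 F r t) (xU chevE6 F s u) :=
  commute_of_commTerms h.1 h.2.1 h.2.2.1 (by simp [h.2.2.2]) t u

theorem A1_A6 (M M' : SL(2, F)) : Commute (A1 F M) (A6 F M') :=
  comm_A6 (fun r hr t => (comm_A1 (fun s hs u => comm_x ((by decide +kernel : ∀ r ∈ [36, 35], ∀ s ∈ [56, 15],
    r < 72 ∧ s < 72 ∧ s ≠ chevE6.neg r ∧ chevE6.commTerms r s = []) r hr s hs) t u) M).symm) M'

theorem comm_Psi {u : GL chevE6.Idx F} (hu : u ∈ (S F).UU Psi) (M M' : SL(2, F)) :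
    Commute u (A1 F M) ∧ Commute u (A6 F M') := by
  have h := (by decide +kernel : ∀ r ∈ psi, ∀ s ∈ [56, 15, 36, 35],
    r < 72 ∧ s < 72 ∧ s ≠ chevE6.neg r ∧ chevE6.commTerms r s = [])
  refine (S F).UU_induction (p := fun u => Commute u (A1 F M) ∧ Commute u (A6 F M'))
    ⟨Commute.one_left _, Commute.one_left _⟩ (fun r hr t g _ hg => ?_) hu
  exact ⟨hg.1.mul_left (comm_A1 (fun s hs u => comm_x (h r hr s (by grind)) t u) M),
    hg.2.mul_left (comm_A6 (fun s hs u => comm_x (h r hr s (by grind)) t u) M')⟩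

theorem glm_A1 {K : Type*} [Field K] (f : F →+* K) (M : SL(2, F)) :
    glm chevE6 f (A1 F M) = A1 K (Matrix.SpecialLinearGroup.map f M) :=
  sl_ind (p := fun M => glm chevE6 f (A1 F M) = A1 K (Matrix.SpecialLinearGroup.map f M))
    (fun t => by rw [map_slX, A1_X, A1_X, glm_xU]) (fun t => by rw [map_slY, A1_Y, A1_Y, glm_xU])
    (fun a b ha hb => by simp only [map_mul, ha, hb]) M

theorem glm_A6 {K : Type*} [Field K] (f : F →+* K) (M : SL(2, F)) :
    glm chevE6 f (A6 F M) = A6 K (Matrix.SpecialLinearGroup.map f M) :=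
  sl_ind (p := fun M => glm chevE6 f (A6 F M) = A6 K (Matrix.SpecialLinearGroup.map f M))
    (fun t => by rw [map_slX, A6_X, A6_X, glm_xU]) (fun t => by rw [map_slY, A6_Y, A6_Y, glm_xU])
    (fun a b ha hb => by simp only [map_mul, ha, hb]) M

theorem map_LL {K : Type*} [Field K] (f : F →+* K) : (LL F).map (glm chevE6 f) = LL K := by
  rw [LL, MonoidHom.map_closure, LL]
  congr 1
  ext g
  constructor
  · rintro ⟨_, ⟨r, hr, rfl⟩, rfl⟩
    exact ⟨r, hr, by rw [glm_xU, map_one]⟩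
  · rintro ⟨r, hr, rfl⟩
    exact ⟨_, ⟨r, hr, rfl⟩, by rw [glm_xU, map_one]⟩

theorem tau_mem_H {c : Fin chevE6.rank → Fˣ} (hc : tau chevE6 F c ∈ (S F).grp) :
    tau chevE6 F c ∈ chevE6.diagonalSubgroup F := by
  have hS := stSys_nondeg (F := F) rtOKE6
  have hτ := isTor_tau (F := F) rtOKE6
  obtain ⟨u, hu, a, ha, e⟩ := (S F).mem_B_iff.1 (hS.mem_B_of_conj hc fun u hu => (S F).U_le_B ((hτ.df c).mem_UU hu))
  obtain ⟨d, rfl⟩ := hτ.H_le ha
  rw [← mul_inv_eq_iff_eq_mul, ← map_inv, ← map_mul] at e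
  obtain rfl : c = d := funext fun i => by
    have := hS.scoef_conj_U i hu (xp_mem i 1)
    rw [← e, hτ.conj, hS.scoef_x_self, hS.scoef_x_self, RootSys.chr_simple, mul_one, Units.val_eq_one] at this
    exact mul_inv_eq_one.1 this
  exact stSys_H rtOKE6 (F := F) ▸ ha

variable [CharP F 2] (φ : F →+* F)

theorem σ_x {r : ℕ} (hr : r < 72) (t : F) : (twE6 φ).σ (xU chevE6 F r t) = xU chevE6 F (rhoE6 r) (φ t) := by
  rw [twE6_σ_x φ hr, cast_oddB, if_pos ((by decide : ∀ r < 72, oddB (epsE6 r) = true) r hr), one_mul]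

theorem σ_A1 (M : SL(2, F)) : (twE6 φ).σ (A1 F M) = A6 F (Matrix.SpecialLinearGroup.map φ M) :=
  sl_ind (p := fun M => (twE6 φ).σ (A1 F M) = A6 F (Matrix.SpecialLinearGroup.map φ M))
    (fun t => by rw [map_slX, A1_X, A6_X, σ_x φ (by decide)]; rfl)
    (fun t => by rw [map_slY, A1_Y, A6_Y, σ_x φ (by decide)]; rfl)
    (fun a b ha hb => by simp only [map_mul, (twE6 φ).σ_mul _ (A1_mem a) _ (A1_mem b), ha, hb]) M

theorem σ_A6 (M : SL(2, F)) : (twE6 φ).σ (A6 F M) = A1 F (Matrix.SpecialLinearGroup.map φ M) :=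
  sl_ind (p := fun M => (twE6 φ).σ (A6 F M) = A1 F (Matrix.SpecialLinearGroup.map φ M))
    (fun t => by rw [map_slX, A1_X, A6_X, σ_x φ (by decide)]; rfl)
    (fun t => by rw [map_slY, A1_Y, A6_Y, σ_x φ (by decide)]; rfl)
    (fun a b ha hb => by simp only [map_mul, (twE6 φ).σ_mul _ (A6_mem a) _ (A6_mem b), ha, hb]) M

theorem σ_Psi {u : GL chevE6.Idx F} (hu : u ∈ (S F).UU Psi) : (twE6 φ).σ u = glm chevE6 φ u := by
  refine (S F).UU_induction (p := fun u => (twE6 φ).σ u = glm chevE6 φ u) ((twE6 φ).σ_one.trans (map_one _).symm)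
    (fun r hr t g hg e => ?_) hu
  rw [(twE6 φ).σ_mul _ ((S F).UU_le_grp _ hg) _ ((S F).x_mem_grp _ _), e, map_mul, stSys_x, σ_x φ r.2, glm_xU,
    (by decide : ∀ r ∈ psi, rhoE6 r = r) r hr]

omit [CharP F 2] in
theorem glm_LL {l : GL chevE6.Idx F} (hl : l ∈ LL F) : glm chevE6 φ l = l := by
  refine (Subgroup.closure_le ((glm chevE6 φ).eqLocus (MonoidHom.id _))).2 ?_ hl
  rintro _ ⟨r, -, rfl⟩
  exact (glm_xU φ r 1).trans (by rw [map_one]; rfl)

theorem σ_glm {K : Type*} [Field K] [CharP K 2] (ψ : K →+* K) (f : F →+* K) (h : ∀ t, ψ (f t) = f (φ t))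
    {g : GL chevE6.Idx F} (hg : g ∈ (S F).grp) : (twE6 ψ).σ (glm chevE6 f g) = glm chevE6 f ((twE6 φ).σ g) := by
  refine (S F).UU_induction (p := fun g => (twE6 ψ).σ (glm chevE6 f g) = glm chevE6 f ((twE6 φ).σ g))
    (by rw [map_one, Tw.σ_one, Tw.σ_one, map_one]) (fun r _ t g hg e => ?_) hg
  rw [map_mul, (twE6 φ).σ_mul _ hg _ ((S F).x_mem_grp _ _), stSys_x, glm_xU, ← stSys_x rtOKE6, (twE6 ψ).σ_mul _
    (stSys_grp rtOKE6 (F := K) ▸ glm_mem f (stSys_grp rtOKE6 (F := F) ▸ hg)) _ ((S K).x_mem_grp r _), e, map_mul,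
    stSys_x, σ_x ψ r.2, σ_x φ r.2, glm_xU, h]

theorem mem_LL_of_fix {Ψ : Set (Fin chevE6.nroots)} (h1 : (Φ).Closed Ψ) (h2 : ∀ r ∈ Ψ, (Φ).Pos r) (h3 : Ψ ⊆ Psi)
    {u : GL chevE6.Idx F} (hu : u ∈ (S F).UU Ψ) (e : glm chevE6 (frobenius F 2) u = u) : u ∈ LL F := by
  obtain ⟨L, hL, hm⟩ := StSys.exists_list Ψ
  obtain ⟨t, -, rfl⟩ := (S F).exists_xprod h1 h2 hL (fun r hr => (hm r).2 hr) hu
  have h4 := (df_glm rtOKE6 (frobenius F 2)).xprod_fix (stSys_nondeg rtOKE6) hL (fun r hr => h2 r ((hm r).1 hr)) e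
  refine Subgroup.list_prod_mem _ fun g hg => ?_
  obtain ⟨r, hr, rfl⟩ := List.mem_map.1 hg
  have h5 : t r * (t r - 1) = 0 := by
    have := h4 r hr
    rw [one_mul, frobenius_def] at this
    linear_combination this
  rcases mul_eq_zero.1 h5 with h6 | h6
  · rw [h6, StSys.x_zero]; exact one_mem _
  · rw [sub_eq_zero.1 h6]; exact Subgroup.subset_closure ⟨r, h3 ((hm r).1 hr), rfl⟩

end CfsgLib.E62
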