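import Mathlib
import Cfsg.Agent.Lib.LargeExtra.Setting
import Cfsg.Agent.Lib.CT.Hom
import Cfsg.Agent.Lib.BN.Parabolic

/-!
# Recognition of `²E₆(2)` from the centralizer `2^(1+20).U₆(2)`: the interfaces
-/

set_option autoImplicit false

namespace CfsgLib.E62

open Subgroup Module CfsgLib.LargeExtra

/-- Modules over the field with two elements of `L = U₆(2)` are large. -/
structure U6Mod (L : Type*) [Group L] : Prop where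
  simple : IsSimpleGroup L
  dim : ∀ {W : Type} [AddCommGroup W] [Module (ZMod 2) W] [Finite W] (ρ : L →* (W ≃ₗ[ZMod 2] W)), ρ ≠ 1 →
    18 ≤ finrank (ZMod 2) W
  big : ∀ α : MulAut L, α ≠ 1 → ∃ l, ∀ {W : Type} [AddCommGroup W] [Module (ZMod 2) W] [Finite W]
    (ρ : L →* (W ≃ₗ[ZMod 2] W)), ρ ≠ 1 →
    5 ≤ finrank (ZMod 2) (LinearMap.range ((ρ (α l * l⁻¹)).toLinearMap - 1))

/-- A Sylow `2`-subgroup `T` of `L = U₆(2)` and the parabolic subgroup `P = A : L₃(4)`, `A = 2⁹`. -/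
structure U6Loc {L : Type*} [Group L] (T A P : Subgroup L) : Prop where
  two : IsPGroup 2 T
  odd : Odd T.index
  le_T : A ≤ T
  le_P : T ≤ P
  norm : P ≤ normalizer (A : Set L)
  card : Nat.card A = 2 ^ 9
  ab : ∀ K ≤ T, (∀ x ∈ K, ∀ y ∈ K, x * y = y * x) → T ≤ normalizer (K : Set L) → 2 ^ 7 < Nat.card K → K ≤ A
  irr : ∀ K ≤ A, P ≤ normalizer (K : Set L) → K = ⊥ ∨ K = A
  perf : ⁅P, P⁆ = P

variable {G G' : Type*} [Group G] [Group G']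

/-- `C(z) = 2^(1+20).X` -/
structure Six {X : Type*} [Group X] (Q : Subgroup G) (z : G) (f : centralizer ({z} : Set G) →* X) : Prop where
  pre : Pre Q z
  card : Nat.card Q = 2 ^ 21
  surj : Function.Surjective f
  ker : ∀ g, f g = 1 ↔ (g : G) ∈ Q

/-- the centralizer of `⟨z, s⟩` -/
abbrev B0 (z s : G) : Subgroup G := centralizer {z} ⊓ centralizer {s}

/-- The local facts about a conjugate `s ∈ Q` of `z`. -/
structure Pin (Q Qs : Subgroup G) (z s : G) : Prop where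
  pair : Pair Q Qs z s
  cardQ : Nat.card Q = 2 ^ 21
  cardQs : Nat.card Qs = 2 ^ 21
  cardE : Nat.card (Q ⊓ Qs : Subgroup G) = 2 ^ 11
  zr : ∀ x ∈ Q, x * s = s * x →
    (∀ u ∈ Qs, u * z = z * u → u * x * u⁻¹ * x⁻¹ ∈ closure ({z, s} : Set G)) → x ∈ Qs
  fix : ∀ x ∈ Q, (∀ u ∈ Qs, u * z = z * u → u * x * u⁻¹ = x ∨ u * x * u⁻¹ = x * z) → x ∈ closure ({z, s} : Set G)
  irr : ∀ K : Subgroup G, Q ⊓ Qs ≤ K → K ≤ Qs ⊓ centralizer {z} → B0 z s ≤ normalizer (K : Set G) →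
    K = Q ⊓ Qs ∨ K = Qs ⊓ centralizer {z}
  perf : ∀ M : Subgroup G, M.relIndex (B0 z s) ≠ 2
  odd : Odd ((B0 z s ⊔ Q).relIndex (centralizer {z}))
  nfix : ∃ c, c * z = z * c ∧ c * s * c⁻¹ ≠ s ∧ c * s * c⁻¹ ≠ s * z

/-- `K` is the graph of an isomorphism from `A` onto `A'`. -/
structure Gr (K : Subgroup (G × G')) (A : Subgroup G) (A' : Subgroup G') : Prop where
  fst : ∀ p ∈ K, p.1 ∈ A
  snd : ∀ p ∈ K, p.2 ∈ A'
  ex : ∀ a ∈ A, ∃ a', (a, a') ∈ K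
  ex' : ∀ a' ∈ A', ∃ a, (a, a') ∈ K
  inj : ∀ a, (a, 1) ∈ K → a = 1
  inj' : ∀ a', (1, a') ∈ K → a' = 1

/-- An isomorphism `Q ≃ Q'` compatible with the actions of the centralizers of the central involutions. -/
structure Link (K : Subgroup (G × G')) (Q Qs : Subgroup G) (z s : G) (Q' Qs' : Subgroup G') (z' s' : G') : Prop where
  gr : Gr K Q Q'
  s_mem : (s, s') ∈ K
  lift : ∀ c, c * z = z * c → ∃ c', (c, c') ∈ normalizer (K : Set (G × G'))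
  lift' : ∀ c', c' * z' = z' * c' → ∃ c, (c, c') ∈ normalizer (K : Set (G × G'))
  two : ∀ u ∈ Qs, u * z = z * u → ∃ u' ∈ Qs', u' * z' = z' * u' ∧ ∃ x' ∈ Q', (u, u' * x') ∈ normalizer (K : Set (G × G'))
  two' : ∀ u' ∈ Qs', u' * z' = z' * u' → ∃ u ∈ Qs, u * z = z * u ∧ ∃ x ∈ Q, (u * x, u') ∈ normalizer (K : Set (G × G'))

/-- The facts used about the model `²E₆(2)`: `n 0, n 1` belong to the long simple roots `α₁, α₂` of `F₄`,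
`z = x_θ(1)`, `mᵢ = n_{αᵢ}(1)`, `xᵢ = x_{αᵢ}(1)`, and `U` is the unipotent radical of the parabolic subgroup of
type `{α₁, α₂}`. -/
structure Model {X : Type*} [Group X] (P : Cfsg.BNPair G) (n : Fin 4 → G) (Q U : Subgroup G) (z m₁ m₂ x₁ x₂ : G)
    (f : centralizer ({z} : Set G) →* X) : Prop where
  six : Six Q z f
  simple : IsSimpleGroup G
  card : 19 ∣ Nat.card G ∧ ¬ 125 ∣ Nat.card G
  S_eq : P.S = Set.range n
  odd : Odd P.B.index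
  cent : centralizer {z} = P.parabolic {n 1, n 2, n 3}
  s_mem : m₁ * z * m₁⁻¹ ∈ Q
  s_ne : m₁ * z * m₁⁻¹ ≠ z
  norm : P.parabolic {n 0, n 2, n 3} ≤ normalizer ((closure {z, m₁ * z * m₁⁻¹} : Subgroup G) : Set G)
  m₁_mem : m₁ ∈ P.N ∧ (n 0)⁻¹ * m₁ ∈ P.B
  m₂_mem : m₂ ∈ P.N ∧ (n 1)⁻¹ * m₂ ∈ P.B
  sq : m₁ * m₁ = 1 ∧ m₂ * m₂ = 1
  braid : m₁ * m₂ * m₁ = m₂ * m₁ * m₂
  x_mem : x₁ ∈ P.B ∧ m₂ * x₁ * m₂⁻¹ ∈ P.B ∧ x₂ ∈ P.B
  x_conj : m₁ * (m₂ * x₁ * m₂⁻¹) * m₁⁻¹ = x₂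
  cube : (m₁ * x₁) ^ 3 = 1
  U_le : U ≤ P.B
  z_mem : z ∈ U
  U_norm : m₁ ∈ normalizer (U : Set G) ∧ m₂ ∈ normalizer (U : Set G)
  U_idx : U.relIndex Q ≤ 4
  last : ∀ r ∈ Q, (∀ u ∈ Q ⊓ U, r * u = u * r) →
    r ∈ U ∧ (m₁ * m₂ * r = r * (m₁ * m₂) → (r * m₂ * x₂) ^ 3 = 1 → r = 1)
  invol : ∀ t : G, orderOf t = 2 → ∃ g, g * t * g⁻¹ ∈ Q

end CfsgLib.E62
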