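import Mathlib
import Cfsg.Agent.Lib.E62.RDefs
import Cfsg.Agent.Lib.Coprime.Action

/-!
# Elements of order three permuting the involutions of `⟨z, s⟩`
-/

set_option autoImplicit false

namespace CfsgLib.E62

open Subgroup CfsgLib.LargeExtra CfsgLib.ExtraTwo

variable {G : Type*} [Group G] [Finite G] {Q Qs : Subgroup G} {z s q ρ : G}

omit [Finite G] in
theorem mem_B0 {b : G} : b ∈ B0 z s ↔ b * z = z * b ∧ b * s = s * b := by
  rw [mem_inf, mem_cent, mem_cent]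

theorem mem_of_comm_of_card (h : ES Q z) {E : Subgroup G} (hE : E ≤ Q) (hz : z ∈ E)
    (hc : ∀ x ∈ E, ∀ y ∈ E, x * y = y * x) (hQ : Nat.card Q = 2 ^ 21) (hcard : Nat.card E = 2 ^ 11) {x : G}
    (hx : x ∈ Q) (h1 : ∀ e ∈ E, e * x = x * e) : x ∈ E := by
  have h2 := card_mul_card_centralizer h hE hz
  have h3 : E = Q ⊓ centralizer (E : Set G) :=
    eq_of_le_of_card_ge (le_inf hE fun x hx y hy => hc y hy x hx) (by rw [hQ, hcard] at h2; omega)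
  exact h3.ge ⟨hx, h1⟩

theorem exists_comm_iff_mem (h : ES Q z) {E K : Subgroup G} (hE : E ≤ Q) (hz : z ∈ K)
    (h2 : ∀ x ∈ E, ∀ y ∈ E, x ∉ K → y ∉ K → x * y ∈ K) : ∃ u ∈ Q, ∀ e ∈ E, (e ∈ K ↔ u * e = e * u) := by
  by_cases hK : E ≤ K
  · exact ⟨1, one_mem _, fun e he => by simp [hK he]⟩
  obtain ⟨c, hc, hcK⟩ := SetLike.not_le_iff_exists.1 hK
  obtain ⟨f, f1, f2, f3⟩ := exists_hom_of_sq_mem Q K
    (fun x hx => by rcases h.sq hx with e | e <;> rw [e]; exacts [one_mem _, hz])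
    (fun x hx y hy hy' => by rcases h.conj hy hx with e | e <;> rw [e]; exacts [hy', mul_mem hy' hz]) (hE hc) hcK
  obtain ⟨u, hu, h3⟩ := h.exists_comm_iff f f1
  refine ⟨u, hu, fun e he => Iff.trans ⟨f2 e (hE he), fun h4 => by_contra fun h5 => ?_⟩ (h3 e (hE he))⟩
  have := f2 _ (hE (mul_mem he hc)) (h2 e he c hc h5 hcK)
  rw [f1 e (hE he) c (hE hc), h4, f3] at this
  exact absurd this (by decide)

theorem Pin.mem_E (p : Pin Q Qs z s) {x : G} (hx : x ∈ Q) (h : ∀ e ∈ Q ⊓ Qs, e * x = x * e) : x ∈ Qs :=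
  (mem_of_comm_of_card p.pair.h0.es inf_le_left ⟨p.pair.h0.es.mem, p.pair.zQ1⟩ (fun _ a _ b => p.pair.E_comm a b)
    p.cardQ p.cardE hx h).2

theorem Pin.mem_E' (p : Pin Q Qs z s) {x : G} (hx : x ∈ Qs) (h : ∀ e ∈ Q ⊓ Qs, e * x = x * e) : x ∈ Q :=
  (mem_of_comm_of_card p.pair.h1.es inf_le_right ⟨p.pair.tQ, p.pair.h1.es.mem⟩ (fun _ a _ b => p.pair.E_comm a b)
    p.cardQs p.cardE hx h).1

omit [Finite G] in
theorem exists_q (p : Pair Q Qs z s) : ∃ q ∈ Q, q * q = 1 ∧ q * s * q⁻¹ = s * z := by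
  obtain ⟨a, ha, -, h⟩ := p.exists_a
  rcases p.h0.es.sq ha with e | e
  · exact ⟨a, ha, e, h⟩
  · refine ⟨a * s, mul_mem ha p.tQ, ?_, by rw [← h]; group⟩
    calc a * s * (a * s) = a * s * a⁻¹ * (a * a) * s := by group
      _ = 1 := by rw [h, e, p.h0.es.zz', p.h1.es.mul_self]

structure Rho (Q Qs : Subgroup G) (z s q ρ : G) : Prop where
  pair : Pair Q Qs z s
  q_mem : q ∈ Q
  q_sq : q * q = 1
  q_s : q * s * q⁻¹ = s * z
  mem : ρ ∈ Q ⊔ Qs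
  cube : ρ ^ 3 = 1
  ρ_z : ρ * z * ρ⁻¹ = s
  ρ_s : ρ * s * ρ⁻¹ = s * z
  inv : q * ρ * q⁻¹ = ρ⁻¹

theorem exists_rho (p : Pair Q Qs z s) (hq : q ∈ Q) (h1 : q * q = 1) (h2 : q * s * q⁻¹ = s * z) :
    ∃ ρ, Rho Q Qs z s q ρ := by
  obtain ⟨r, hr, r1, r2⟩ := exists_q p.symm
  have qz : q * z * q⁻¹ = z := conj_eq_of_comm (p.h0.es.comm_z q hq)
  have rs : r * s * r⁻¹ = s := conj_eq_of_comm (p.h1.es.comm_z r hr)
  have g1 : q * r * z * (q * r)⁻¹ = s := by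
    rw [show q * r * z * (q * r)⁻¹ = q * (r * z * r⁻¹) * q⁻¹ by group, r2, ← conj_mul, qz, h2, p.comm,
      p.h0.es.zz]
  have g2 : q * r * s * (q * r)⁻¹ = s * z := by
    rw [show q * r * s * (q * r)⁻¹ = q * (r * s * r⁻¹) * q⁻¹ by group, rs, h2]
  have g3 : q * r * (s * z) * (q * r)⁻¹ = z := by
    rw [← conj_mul, g1, g2, p.comm, p.h1.es.zz']
  have gm : q * r ∈ Q ⊔ Qs := mul_mem (mem_sup_left hq) (mem_sup_right hr)
  have gi : q * (q * r) * q⁻¹ = (q * r)⁻¹ := by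
    rw [← mul_assoc, h1, one_mul, mul_inv_rev, inv_eq_of_mul_eq_one_right r1]
  generalize q * r = g at g1 g2 g3 gm gi
  have c1 : g ^ 3 * z * (g ^ 3)⁻¹ = z := by
    rw [show g ^ 3 * z * (g ^ 3)⁻¹ = g * (g * (g * z * g⁻¹) * g⁻¹) * g⁻¹ by rw [pow_three]; group, g1, g2, g3]
  have c2 : g ^ 3 * s * (g ^ 3)⁻¹ = s := by
    rw [show g ^ 3 * s * (g ^ 3)⁻¹ = g * (g * (g * s * g⁻¹) * g⁻¹) * g⁻¹ by rw [pow_three]; group, g2, g3, g1]
  have c3 := p.E_sq (p.sq_RR (p.mem_RR_of_comm (pow_mem gm 3) (comm_of_conj_eq c1) (comm_of_conj_eq c2)))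
  refine ⟨g ^ 4, p, hq, h1, h2, pow_mem gm 4, by rw [← c3]; group, ?_, ?_, by rw [← conj_pow, gi, inv_pow]⟩
  · rw [show g ^ 4 * z * (g ^ 4)⁻¹ = g * (g ^ 3 * z * (g ^ 3)⁻¹) * g⁻¹ by group, c1, g1]
  · rw [show g ^ 4 * s * (g ^ 4)⁻¹ = g * (g ^ 3 * s * (g ^ 3)⁻¹) * g⁻¹ by group, c2, g2]

namespace Rho

variable (r : Rho Q Qs z s q ρ)
include r

omit [Finite G] in
theorem q_z : q * z * q⁻¹ = z := conj_eq_of_comm (r.pair.h0.es.comm_z q r.q_mem)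

omit [Finite G] in
theorem ρ_sz : ρ * (s * z) * ρ⁻¹ = z := by rw [← conj_mul, r.ρ_z, r.ρ_s, r.pair.comm, r.pair.h1.es.zz']

omit [Finite G] in
theorem eq_one {v : G} (hv : v ∈ closure ({z, s} : Set G)) (h : ρ * v = v * ρ) : v = 1 := by
  have h1 := conj_eq_of_comm h
  rcases r.pair.mem_V.1 hv with e | e | e | e <;> rw [e] at h1
  · exact e
  · exact absurd (r.ρ_z.symm.trans h1) r.pair.ne
  · exact absurd (mul_eq_left.1 (r.ρ_s.symm.trans h1)) r.pair.h0.es.ne_one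
  · exact absurd (mul_eq_right.1 (h1.symm.trans r.ρ_sz)) r.pair.h1.es.ne_one

theorem split {e : G} (he : e ∈ Q ⊓ Qs) :
    ∃ a ∈ Q ⊓ Qs, ρ * a = a * ρ ∧ ∃ v ∈ closure ({z, s} : Set G), e = a * v := by
  have p := r.pair
  have key : ∀ v ∈ closure ({z, s} : Set G), ρ * e * ρ⁻¹ * e⁻¹ * (ρ * v * ρ⁻¹) = v →
      ∃ a ∈ Q ⊓ Qs, ρ * a = a * ρ ∧ ∃ v ∈ closure ({z, s} : Set G), e = a * v := fun v hv h => by
    refine ⟨e * v, mul_mem he (p.V_le_E hv), comm_of_conj_eq ?_, v⁻¹, inv_mem hv, by group⟩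
    have h2 := p.E_comm he (p.V_le_E (p.commutator_X_E r.mem he))
    calc ρ * (e * v) * ρ⁻¹ = ρ * e * ρ⁻¹ * e⁻¹ * e * (ρ * v * ρ⁻¹) := by group
      _ = e * v := by rw [← h2, mul_assoc, h]
  rcases p.mem_V.1 (p.commutator_X_E r.mem he) with h | h | h | h
  · exact key 1 (one_mem _) (by rw [h]; group)
  · exact key s (p.mem_V.2 (by simp)) (by rw [h, r.ρ_s, p.comm, p.h0.es.zz])
  · exact key (s * z) (p.mem_V.2 (by simp)) (by rw [h, r.ρ_sz])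
  · exact key z (p.mem_V.2 (by simp)) (by rw [h, r.ρ_z, p.comm, p.h1.es.zz'])

omit [Finite G] in
theorem q_comm {e : G} (he : e ∈ Q) (h : ρ * e = e * ρ) : q * e = e * q := by
  rcases r.pair.h0.es.conj he r.q_mem with h1 | h1
  · exact comm_of_conj_eq h1
  have h2 : ρ * (e * z) * ρ⁻¹ = e * z := by
    have h3 : Commute (q * ρ * q⁻¹) (q * e * q⁻¹) := by rw [Commute, SemiconjBy, conj_mul, conj_mul, h]
    rw [r.inv, h1] at h3
    exact conj_eq_of_comm (Commute.inv_left_iff.1 h3)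
  rw [← conj_mul, conj_eq_of_comm h, r.ρ_z] at h2
  exact absurd (mul_left_cancel h2) r.pair.ne

omit [Finite G] in
theorem conj {u : G} (hu : u ∈ Q) (h1 : u * s = s * u) (h2 : u * q = q * u) : Rho Q Qs z s q (u * ρ * u⁻¹) := by
  have uz := conj_eq_of_comm (r.pair.h0.es.comm_z u hu)
  have us := conj_eq_of_comm h1
  refine ⟨r.pair, r.q_mem, r.q_sq, r.q_s, mul_mem (mul_mem (mem_sup_left hu) r.mem) (inv_mem (mem_sup_left hu)),
    by rw [conj_pow, r.cube]; group, ?_, ?_, ?_⟩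
  · calc _ = u * ρ * u⁻¹ * (u * z * u⁻¹) * (u * ρ * u⁻¹)⁻¹ := by rw [uz]
      _ = u * (ρ * z * ρ⁻¹) * u⁻¹ := by group
      _ = s := by rw [r.ρ_z, us]
  · calc _ = u * ρ * u⁻¹ * (u * s * u⁻¹) * (u * ρ * u⁻¹)⁻¹ := by rw [us]
      _ = u * (ρ * s * ρ⁻¹) * u⁻¹ := by group
      _ = s * z := by rw [r.ρ_s, ← conj_mul, us, uz]
  · calc _ = (u * q * u⁻¹) * (u * ρ * u⁻¹) * (u * q * u⁻¹)⁻¹ := by rw [conj_eq_of_comm h2]
      _ = u * (q * ρ * q⁻¹) * u⁻¹ := by group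
      _ = _ := by rw [r.inv, conj_inv]

theorem decomp {b : G} (hb : b ∈ B0 z s) : ∃ u ∈ Qs, u * z = z * u ∧ ∃ x ∈ Q, x * s = s * x ∧
    ∃ y ∈ B0 z s, ρ * y = y * ρ ∧ b = u * x * y := by
  have p := r.pair
  have : Fact (Nat.Prime 2) := ⟨Nat.prime_two⟩
  have : Fact (Nat.Prime 3) := ⟨Nat.prime_three⟩
  have h3 : IsPGroup 3 (zpowers ρ) := by
    rintro ⟨_, k, rfl⟩
    exact ⟨1, Subtype.ext (by
      show (ρ ^ k) ^ 3 ^ 1 = 1
      rw [pow_one, ← zpow_natCast, ← zpow_mul, mul_comm, zpow_mul, zpow_natCast, r.cube, one_zpow])⟩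
  obtain ⟨w, hw, y, ⟨hy, hy'⟩, e⟩ := CfsgLib.Coprime.exists_mul_centralizer_of_commutator_le (A := zpowers ρ)
    (fun x hx => mem_B0.2 (p.comm_of_mem_RR hx)) (commutator_comm (zpowers ρ) _ ▸ commutator_le.2 fun x hx c hc =>
      p.commutator_X ((zpowers_le.2 r.mem) hx) (mem_B0.1 hc).1 (mem_B0.1 hc).2)
    (IsPGroup.coprime_card_of_ne 3 2 (by decide) _ _ h3 p.isPGroup_RR) (Or.inl inferInstance) hb
  have h4 := coe_mul_of_left_le_normalizer_right (Qs ⊓ centralizer {z}) (Q ⊓ centralizer {s}) fun u hu =>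
    mem_normalizer_fintype fun x hx => ⟨p.h0.norm u (mem_cent.1 hu.2) x hx.1, mem_cent.2 (by
      have h5 := mem_cent.1 hx.2
      have h6 := p.h1.es.comm_z u hu.1
      calc u * x * u⁻¹ * s = u * x * (u⁻¹ * (s * u) * u⁻¹) := by group
        _ = s * (u * x * u⁻¹) := by rw [← h6, inv_mul_cancel_left, ← mul_assoc, mul_assoc u, h5, ← mul_assoc, h6]; group)⟩
  obtain ⟨u, hu, x, hx, rfl⟩ := h4.subset hw
  exact ⟨u, hu.1, mem_cent.1 hu.2, x, hx.1, mem_cent.1 hx.2, y, hy, hy' ρ (mem_zpowers ρ), e⟩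

/-- the normalizer of `C_E(ρ)` in `C(V)` is `V C(ρ)` -/
theorem norm (p : Pin Q Qs z s) {b : G} (hb : b ∈ B0 z s)
    (h : ∀ e ∈ Q ⊓ Qs, ρ * e = e * ρ → ρ * (b * e * b⁻¹) = b * e * b⁻¹ * ρ) :
    ∃ v ∈ closure ({z, s} : Set G), ∃ y ∈ B0 z s, ρ * y = y * ρ ∧ b = v * y := by
  obtain ⟨u, hu, uz, x, hx, xs, y, hy, hρ, rfl⟩ := r.decomp hb
  have p0 := r.pair
  have key : ∀ e ∈ Q ⊓ Qs, ρ * e = e * ρ → e * x = x * e ∧ e * u = u * e := fun e he h1 => by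
    have h2 := h (y⁻¹ * e * y⁻¹⁻¹) ⟨p0.h0.norm _ (mem_B0.1 (inv_mem hy)).1 _ he.1,
      p0.h1.norm _ (mem_B0.1 (inv_mem hy)).2 _ he.2⟩
      (((Commute.inv_right hρ).mul_right h1).mul_right (Commute.inv_right (Commute.inv_right hρ)))
    rw [show u * x * y * (y⁻¹ * e * y⁻¹⁻¹) * (u * x * y)⁻¹ = u * (x * e * x⁻¹) * u⁻¹ by group] at h2
    have h3 : ∀ v ∈ closure ({z, s} : Set G), u * (x * e * x⁻¹) * u⁻¹ = e * v → v = 1 := fun v hv e1 =>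
      r.eq_one hv (by rw [e1, ← mul_assoc, h1, mul_assoc, mul_assoc] at h2; exact mul_left_cancel h2)
    rcases p0.h0.es.conj he.1 hx with a | a <;> rcases p0.h1.es.conj he.2 hu with c | c
    · exact ⟨(comm_of_conj_eq a).symm, (comm_of_conj_eq c).symm⟩
    · exact absurd (h3 s (p0.mem_V.2 (by simp)) (by rw [a, c])) p0.h1.es.ne_one
    · exact absurd (h3 z (p0.mem_V.2 (by simp)) (by rw [a, ← conj_mul, c, conj_eq_of_comm uz])) p0.h0.es.ne_one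
    · exact absurd (h3 (s * z) (p0.mem_V.2 (by simp)) (by rw [a, ← conj_mul, c, conj_eq_of_comm uz, mul_assoc]))
        fun e1 => p0.ne (by rw [← p0.h0.es.zz' s, e1, one_mul])
  have hV : ∀ {w : G}, w * z = z * w → w * s = s * w → ∀ v ∈ closure ({z, s} : Set G), v * w = w * v :=
    fun h1 h2 v hv => Pair.mem_centralizer_V.2 ⟨h1, h2⟩ v hv
  have h5 : ∀ {w : G}, w * z = z * w → w * s = s * w → (∀ e ∈ Q ⊓ Qs, ρ * e = e * ρ → e * w = w * e) →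
      ∀ e ∈ Q ⊓ Qs, e * w = w * e := fun h1 h2 h3 e he => by
    obtain ⟨a, ha, a1, v, hv, rfl⟩ := r.split he
    exact Commute.mul_left (h3 a ha a1) (hV h1 h2 v hv)
  obtain ⟨a, ha, a1, v, hv, e⟩ := r.split (mul_mem
    ⟨p.mem_E' hu (h5 uz (p0.h1.es.comm_z u hu) fun e he h1 => (key e he h1).2), hu⟩
    ⟨hx, p.mem_E hx (h5 (p0.h0.es.comm_z x hx) xs fun e he h1 => (key e he h1).1)⟩)
  refine ⟨v, hv, a * y, mul_mem (mem_B0.2 ⟨p0.h0.es.comm_z a ha.1, p0.h1.es.comm_z a ha.2⟩) hy,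
    Commute.mul_right a1 hρ, ?_⟩
  rw [e, p0.E_comm ha (p0.V_le_E hv), mul_assoc]

end Rho

/-- every complement of `V` in `E` centralized by `q` is `C_E(ρ)` for a suitable `ρ` -/
theorem exists_rho_eq (p : Pair Q Qs z s) (hq : q ∈ Q) (h1 : q * q = 1) (h2 : q * s * q⁻¹ = s * z) {F : Subgroup G}
    (hF : F ≤ Q ⊓ Qs) (f1 : ∀ v ∈ closure ({z, s} : Set G), v ∈ F → v = 1)
    (f2 : ∀ e ∈ Q ⊓ Qs, ∃ a ∈ F, ∃ v ∈ closure ({z, s} : Set G), e = a * v) (f3 : ∀ a ∈ F, q * a = a * q) :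
    ∃ ρ, Rho Q Qs z s q ρ ∧ ∀ e ∈ Q ⊓ Qs, (e ∈ F ↔ ρ * e = e * ρ) := by
  obtain ⟨ρ, r⟩ := exists_rho p hq h1 h2
  have es := p.h0.es
  have hz : z ∈ closure ({z, s} : Set G) := p.mem_V.2 (by simp)
  have qs : q * s ≠ s * q := fun e => es.ne_one (mul_eq_left.1 (h2.symm.trans (conj_eq_of_comm e)))
  have k1 : ∀ a ∈ F, ρ * a = a * ρ ∨ ρ * (a * z) = a * z * ρ := fun a ha => by
    obtain ⟨b, hb, b1, w, hw, e⟩ := r.split (hF ha)
    have h3 : q * w = w * q := by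
      rw [show w = b⁻¹ * a by rw [e]; group]
      exact Commute.mul_right (Commute.inv_right (r.q_comm hb.1 b1)) (f3 a ha)
    rcases p.mem_V.1 hw with e1 | e1 | e1 | e1 <;> rw [e1] at e h3
    · exact Or.inl (by rw [e, mul_one, b1])
    · exact Or.inr (by rw [e, es.zz', b1])
    · exact absurd h3 qs
    · exact absurd (mul_right_cancel (by rw [mul_assoc, h3, mul_assoc, ← es.comm_z q hq, mul_assoc])) qs
  let K : Subgroup G := (F ⊓ centralizer {ρ}) ⊔ closure {z, s}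
  have hK : ∀ e ∈ K, ∃ a ∈ F, ρ * a = a * ρ ∧ ∃ v ∈ closure ({z, s} : Set G), e = a * v := fun e he => by
    obtain ⟨a, ha, v, hv, rfl⟩ := (coe_mul_of_left_le_normalizer_right (F ⊓ centralizer {ρ}) (closure {z, s})
      fun a ha => p.Q_le_normalizer (hF ha.1).1).subset he
    exact ⟨a, ha.1, (mem_cent.1 ha.2).symm, v, hv, rfl⟩
  have hK' : ∀ a ∈ F, ρ * a = a * ρ → ∀ v ∈ closure ({z, s} : Set G), a * v ∈ K := fun a ha e v hv =>
    mul_mem (mem_sup_left ⟨ha, mem_cent.2 e.symm⟩) (mem_sup_right hv)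
  obtain ⟨u, hu, hu'⟩ := exists_comm_iff_mem es (E := Q ⊓ Qs) (K := K) inf_le_left (mem_sup_right hz)
    fun x hx y hy hx' hy' => by
      obtain ⟨a, ha, v, hv, rfl⟩ := f2 x hx
      obtain ⟨b, hb, w, hw, rfl⟩ := f2 y hy
      have := Commute.mul_right ((k1 a ha).resolve_left fun e => hx' (hK' a ha e v hv))
        ((k1 b hb).resolve_left fun e => hy' (hK' b hb e w hw))
      rw [es.comm_z b (hF hb).1, ← mul_assoc, es.zz'] at this
      rw [mul_assoc, ← mul_assoc v, p.E_comm (p.V_le_E hv) (hF hb), mul_assoc, ← mul_assoc]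
      exact hK' _ (mul_mem ha hb) this _ (mul_mem hv hw)
  have us := (hu' s ⟨p.tQ, p.h1.es.mem⟩).1 (mem_sup_right (p.mem_V.2 (by simp)))
  obtain ⟨u, hu, us, uq, hu'⟩ : ∃ u ∈ Q, u * s = s * u ∧ u * q = q * u ∧ ∀ e ∈ Q ⊓ Qs, (e ∈ K ↔ u * e = e * u) := by
    by_cases uq : u * q = q * u
    · exact ⟨u, hu, us, uq, hu'⟩
    · refine ⟨u * s, mul_mem hu p.tQ, by rw [← mul_assoc, us], es.mul_comm_of_not_comm hq hu p.tQ uq qs.symm,
        fun e he => ?_⟩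
      rw [hu' e he, mul_assoc, ← p.h1.es.comm_z e he.2, ← mul_assoc, ← mul_assoc, mul_left_inj]
  have r' := r.conj hu us uq
  have k2 : ∀ a ∈ F, u * ρ * u⁻¹ * a = a * (u * ρ * u⁻¹) := fun a ha => by
    have h3 : ρ * (u⁻¹ * a * u⁻¹⁻¹) = u⁻¹ * a * u⁻¹⁻¹ * ρ := by
      by_cases h4 : ρ * a = a * ρ
      · rwa [conj_eq_of_comm (Commute.inv_left ((hu' a (hF ha)).1 (mul_one a ▸ hK' a ha h4 1 (one_mem _))))]
      · rw [es.conj_of_ne (hF ha).1 (inv_mem hu) fun e => ?_]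
        · exact (k1 a ha).resolve_left h4
        obtain ⟨b, hb, b1, v, hv, e1⟩ := hK a ((hu' a (hF ha)).2 (Commute.inv_left_iff.1 e))
        rw [f1 v hv (by rw [show v = b⁻¹ * a by rw [e1]; group]; exact mul_mem (inv_mem hb) ha), mul_one] at e1
        exact h4 (e1 ▸ b1)
    calc u * ρ * u⁻¹ * a = u * (ρ * (u⁻¹ * a * u⁻¹⁻¹)) * u⁻¹ := by group
      _ = _ := by rw [h3]; group
  refine ⟨_, r', fun e he => ⟨k2 e, fun h3 => ?_⟩⟩
  obtain ⟨a, ha, v, hv, rfl⟩ := f2 e he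
  rw [← mul_assoc, k2 a ha, mul_assoc, mul_assoc a v] at h3
  rwa [r'.eq_one hv (mul_left_cancel h3), mul_one]

end CfsgLib.E62
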