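import Mathlib
import Cfsg.Agent.Lib.E62.RAmalA
import Cfsg.Agent.Lib.Forms.Normal

/-!
# The normalizer of the graph of a link
-/

set_option autoImplicit false

namespace CfsgLib.E62

open Subgroup CfsgLib.LargeExtra CfsgLib.ExtraTwo

variable {G G' : Type*} [Group G] [Group G']

theorem card_of_alt [Finite G] {A N : Subgroup G} (hN : N ≤ A) (hsq : ∀ x ∈ A, x * x ∈ N)
    (hn : ∀ x ∈ A, ∀ y ∈ A, y ∈ N → x * y * x⁻¹ ∈ N) (β : G → G → ZMod 2)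
    (h1 : ∀ x ∈ A, ∀ y ∈ A, ∀ w ∈ A, β (x * y) w = β x w + β y w)
    (h2 : ∀ x ∈ A, ∀ y ∈ A, ∀ w ∈ A, β w (x * y) = β w x + β w y) (h3 : ∀ x ∈ A, β x x = 0)
    (h4 : ∀ x ∈ A, (∀ y ∈ A, β y x = 0) ↔ x ∈ N) : ∃ k, Nat.card A = 2 ^ (2 * k) * Nat.card N := by
  obtain ⟨n, π, p1, p2, p3⟩ := exists_coord_of_sq_mem A N hsq hn
  choose σ s1 s2 using p2
  have sy : ∀ x ∈ A, ∀ y ∈ A, β x y = β y x := fun x hx y hy => by
    have := h3 _ (mul_mem hx hy)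
    rw [h1 x hx y hy _ (mul_mem hx hy), h2 x hx y hy x hx, h2 x hx y hy y hy, h3 x hx, h3 y hy, zero_add,
      add_zero] at this
    exact add_eq_zero_zmod2.1 this
  have p4 : ∀ x ∈ A, ∀ y ∈ A, π x = π y → x⁻¹ * y ∈ N := fun x hx y hy e => by
    have := p1 x hx _ (mul_mem (inv_mem hx) hy)
    rw [mul_inv_cancel_left, e, left_eq_add] at this
    exact (p3 _ (mul_mem (inv_mem hx) hy)).1 this
  have inv : ∀ x ∈ A, ∀ y ∈ A, π x = π y → ∀ w ∈ A, β w y = β w x := fun x hx y hy e w hw => by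
    have := h2 x hx _ (mul_mem (inv_mem hx) hy) w hw
    rwa [mul_inv_cancel_left, (h4 _ (mul_mem (inv_mem hx) hy)).2 (p4 x hx y hy e) w hw, add_zero] at this
  have ad : ∀ w a b, β (σ w) (σ (a + b)) = β (σ w) (σ a) + β (σ w) (σ b) := fun w a b => by
    rw [← h2 _ (s1 a) _ (s1 b) _ (s1 w)]
    exact inv _ (mul_mem (s1 a) (s1 b)) _ (s1 _) (by rw [p1 _ (s1 a) _ (s1 b), s2, s2, s2]) _ (s1 w)
  let B : LinearMap.BilinForm (ZMod 2) (Fin n → ZMod 2) :=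
    linOfAdd (fun v => linOfAdd (fun w => β (σ v) (σ w)) (ad v)) fun a b => LinearMap.ext fun w => by
      simp only [linOfAdd_apply, LinearMap.add_apply]
      rw [sy _ (s1 _) _ (s1 w), ad, sy _ (s1 w) _ (s1 a), sy _ (s1 w) _ (s1 b)]
  have hB : ∀ v w, B v w = β (σ v) (σ w) := fun _ _ => rfl
  have r1 : ∀ w, (∀ v, B v w = 0) → w = 0 := fun w h => by
    rw [← s2 w]
    refine (p3 _ (s1 w)).2 ((h4 _ (s1 w)).1 fun y hy => ?_)
    rw [sy y hy _ (s1 w), inv _ (s1 (π y)) y hy (s2 _) _ (s1 w), sy _ (s1 w) _ (s1 _), ← hB, h]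
  obtain ⟨k, hk⟩ := Forms.even_finrank_of_alt B (fun v => h3 _ (s1 v))
    ⟨fun v h => r1 v fun w => by rw [hB, sy _ (s1 w) _ (s1 v), ← hB, h], r1⟩
  let φ : A →* Multiplicative (Fin n → ZMod 2) := MonoidHom.mk' (fun x => Multiplicative.ofAdd (π x))
    fun x y => by rw [coe_mul, p1 _ x.2 _ y.2, ofAdd_add]
  have hφ : φ.ker = N.subgroupOf A := by
    ext x
    exact p3 _ x.2
  have hr : φ.range = ⊤ := eq_top_iff.2 fun v _ => ⟨⟨σ v.toAdd, s1 _⟩, congrArg Multiplicative.ofAdd (s2 _)⟩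
  refine ⟨k, ?_⟩
  rw [← φ.ker.index_mul_card, index_ker, hr, hφ, card_top, Nat.card_congr (subgroupOfEquivOfLe hN).toEquiv,
    Nat.card_congr Multiplicative.toAdd, Nat.card_fun, Nat.card_zmod, Nat.card_fin]
  rw [Module.finrank_fin_fun] at hk
  rw [hk, two_mul]

/-- exchange of the two factors -/
def sw (K : Subgroup (G × G')) : Subgroup (G' × G) := K.comap (MulEquiv.prodComm : G' × G ≃* G × G').toMonoidHom

theorem mem_sw {K : Subgroup (G × G')} {a : G} {a' : G'} : (a', a) ∈ sw K ↔ (a, a') ∈ K := Iff.rfl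

theorem norm_sw {K : Subgroup (G × G')} {a : G} {a' : G'} :
    (a', a) ∈ normalizer (sw K : Set (G' × G)) ↔ (a, a') ∈ normalizer (K : Set (G × G')) :=
  ⟨fun h x => h (x.2, x.1), fun h x => h (x.2, x.1)⟩

theorem Gr.symm {K : Subgroup (G × G')} {A : Subgroup G} {A' : Subgroup G'} (h : Gr K A A') : Gr (sw K) A' A :=
  ⟨fun p hp => h.snd (p.2, p.1) hp, fun p hp => h.fst (p.2, p.1) hp, h.ex', h.ex, h.inj', h.inj⟩

theorem Gr.eq_snd {K : Subgroup (G × G')} {A : Subgroup G} {A' : Subgroup G'} (h : Gr K A A') {x : G} {a b : G'}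
    (h1 : (x, a) ∈ K) (h2 : (x, b) ∈ K) : a = b :=
  inv_mul_eq_one.1 (h.inj' _ (by simpa using mul_mem (inv_mem h1) h2))

theorem conj_pair {K : Subgroup (G × G')} {c x : G} {c' x' : G'} (hd : (c, c') ∈ normalizer (K : Set (G × G')))
    (hx : (x, x') ∈ K) : (c * x * c⁻¹, c' * x' * c'⁻¹) ∈ K := (hd (x, x')).1 hx

/-- a link between two pinned pairs -/
structure LP (K : Subgroup (G × G')) (Q Qs : Subgroup G) (z s : G) (Q' Qs' : Subgroup G') (z' s' : G') : Prop where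
  h : Link K Q Qs z s Q' Qs' z' s'
  p : Pin Q Qs z s
  p' : Pin Q' Qs' z' s'

namespace LP

variable {K : Subgroup (G × G')} {Q Qs : Subgroup G} {z s : G} {Q' Qs' : Subgroup G'} {z' s' : G'}
  (L : LP K Q Qs z s Q' Qs' z' s')
include L

theorem symm : LP (sw K) Q' Qs' z' s' Q Qs z s :=
  ⟨⟨L.h.gr.symm, L.h.s_mem, fun c hc => (L.h.lift' c hc).imp fun _ => norm_sw.2,
    fun c hc => (L.h.lift c hc).imp fun _ => norm_sw.2,
    fun u hu e => let ⟨a, b, c, d, f, g⟩ := L.h.two' u hu e; ⟨a, b, c, d, f, norm_sw.2 g⟩,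
    fun u hu e => let ⟨a, b, c, d, f, g⟩ := L.h.two u hu e; ⟨a, b, c, d, f, norm_sw.2 g⟩⟩, L.p', L.p⟩

theorem comm_snd {x y : G} {x' y' : G'} (hx : (x, x') ∈ K) (hy : (y, y') ∈ K) (e : x * y = y * x) :
    x' * y' = y' * x' := L.h.gr.eq_snd (mul_mem hx hy) (by rw [e]; exact mul_mem hy hx)

theorem z_mem : (z, z') ∈ K := by
  obtain ⟨a, ha⟩ := L.h.gr.ex z L.p.pair.h0.es.mem
  rcases L.p'.pair.h0.cent a (fun x' hx' => let ⟨x, hx⟩ := L.h.gr.ex' x' hx'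
    L.comm_snd hx ha (L.p.pair.h0.es.comm_z x (L.h.gr.fst _ hx))) with e | e <;> rw [e] at ha
  · exact absurd (L.h.gr.inj _ ha) L.p.pair.h0.es.ne_one
  · exact ha

theorem fst_C [Finite G] {c : G} {c' : G'} (hd : (c, c') ∈ normalizer (K : Set (G × G'))) : c * z = z * c :=
  L.p.pair.h0.comm_of_mem_normalizer (mem_normalizer_fintype fun x hx =>
    let ⟨_, h⟩ := L.h.gr.ex x hx; L.h.gr.fst _ (conj_pair hd h))

theorem snd_C [Finite G'] {c : G} {c' : G'} (hd : (c, c') ∈ normalizer (K : Set (G × G'))) : c' * z' = z' * c' :=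
  L.symm.fst_C (norm_sw.2 hd)

theorem D_inj' {c' : G'} (hd : (1, c') ∈ normalizer (K : Set (G × G'))) : c' = 1 ∨ c' = z' :=
  L.p'.pair.h0.cent c' fun x' hx' => by
    obtain ⟨x, h⟩ := L.h.gr.ex' x' hx'
    exact (comm_of_conj_eq (L.h.gr.eq_snd (by simpa using conj_pair hd h) h)).symm

theorem D_inj {c : G} (hd : (c, 1) ∈ normalizer (K : Set (G × G'))) : c = 1 ∨ c = z := L.symm.D_inj' (norm_sw.2 hd)

theorem D_snd {c : G} {a b : G'} (h1 : (c, a) ∈ normalizer (K : Set (G × G')))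
    (h2 : (c, b) ∈ normalizer (K : Set (G × G'))) : b = a ∨ b = a * z' := by
  rcases L.D_inj' (c' := a⁻¹ * b) (by simpa using mul_mem (inv_mem h1) h2) with e | e
  · exact Or.inl (inv_mul_eq_one.1 e).symm
  · exact Or.inr (by rw [← e, mul_inv_cancel_left])

theorem one_z : ((1 : G), z') ∈ normalizer (K : Set (G × G')) :=
  centralizer_le_normalizer _ fun x hx => Prod.ext (by simp) (L.p'.pair.h0.es.comm_z _ (L.h.gr.snd x hx))

theorem z_one : (z, (1 : G')) ∈ normalizer (K : Set (G × G')) := norm_sw.1 L.symm.one_z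

theorem V_ex {v : G} (hv : v ∈ closure ({z, s} : Set G)) : ∃ v' ∈ closure ({z', s'} : Set G'), (v, v') ∈ K := by
  rcases L.p.pair.mem_V.1 hv with e | e | e | e <;> rw [e]
  · exact ⟨1, one_mem _, one_mem _⟩
  · exact ⟨z', L.p'.pair.mem_V.2 (by simp), L.z_mem⟩
  · exact ⟨s', L.p'.pair.mem_V.2 (by simp), L.h.s_mem⟩
  · exact ⟨s' * z', L.p'.pair.mem_V.2 (by simp), mul_mem L.h.s_mem L.z_mem⟩

theorem V_snd {v : G} {v' : G'} (h : (v, v') ∈ K) (hv : v ∈ closure ({z, s} : Set G)) :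
    v' ∈ closure ({z', s'} : Set G') := by
  obtain ⟨w, hw, h1⟩ := L.V_ex hv
  rwa [L.h.gr.eq_snd h h1]

theorem comm_s {c : G} {c' : G'} (hd : (c, c') ∈ normalizer (K : Set (G × G'))) (hs : c * s = s * c) :
    c' * s' = s' * c' :=
  comm_of_conj_eq (L.h.gr.eq_snd (by simpa only [conj_eq_of_comm hs] using conj_pair hd L.h.s_mem) L.h.s_mem)

variable [Finite G] [Finite G']

omit [Finite G'] in
theorem E_snd {e : G} {e' : G'} (h : (e, e') ∈ K) (he : e ∈ Qs) : e' ∈ Qs' :=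
  L.p'.zr e' (L.h.gr.snd _ h) (L.comm_snd h L.h.s_mem (L.p.pair.h1.es.comm_z e he)) fun u' hu' e1 => by
    obtain ⟨u, hu, -, x, hx, hd⟩ := L.h.two' u' hu' e1
    exact L.V_snd (mul_mem (conj_pair hd h) (inv_mem h))
      (L.p.pair.commutator_X_E (mul_mem (mem_sup_right hu) (mem_sup_left hx)) ⟨L.h.gr.fst _ h, he⟩)

theorem Q2_snd {u : G} {w : G'} (hd : (u, w) ∈ normalizer (K : Set (G × G'))) (hu : u ∈ Qs) : w ∈ Qs' := by
  obtain ⟨u', hu', -, x', hx', hd'⟩ := L.h.two u hu (L.fst_C hd)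
  have p := L.p'.pair
  have h1 : x' ∈ Qs' := L.p'.mem_E hx' fun e' he' => by
    by_contra hne
    obtain ⟨e, he⟩ := L.h.gr.ex' e' he'.1
    have h2 := conj_pair hd' he
    rw [show u' * x' * e' * (u' * x')⁻¹ = u' * (x' * e' * x'⁻¹) * u'⁻¹ by group,
      p.h0.es.conj_of_ne he'.1 hx' (Ne.symm hne)] at h2
    have h3 := p.h1.es.conj (mul_mem he'.2 p.zQ1) hu'
    rcases L.p.pair.h1.es.conj (L.symm.E_snd he he'.2) hu with a | a <;> rw [a] at h2 <;>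
      rcases h3 with b | b <;> rw [b] at h2
    · exact p.h0.es.ne_one (mul_eq_left.1 (L.h.gr.eq_snd h2 he))
    · exact p.ne (by rw [← p.h0.es.zz s', mul_eq_left.1 ((mul_assoc _ _ _).symm.trans (L.h.gr.eq_snd h2 he)), mul_one])
    · exact p.ne (mul_left_cancel (L.h.gr.eq_snd (mul_mem he L.h.s_mem) h2))
    · exact p.h0.es.ne_one (mul_eq_left.1 (mul_right_cancel (L.h.gr.eq_snd h2 (mul_mem he L.h.s_mem))))
  rcases L.D_snd hd' hd with e | e <;> rw [e]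
  · exact mul_mem hu' h1
  · exact mul_mem (mul_mem hu' h1) p.zQ1

theorem exists_hat : ∃ q ρ q' ρ', Rho Q Qs z s q ρ ∧ Rho Q' Qs' z' s' q' ρ' ∧ (q, q') ∈ K ∧
    ∀ e e', (e, e') ∈ K → e ∈ Qs → (ρ * e = e * ρ ↔ ρ' * e' = e' * ρ') := by
  obtain ⟨q', hq', a1, a2⟩ := exists_q L.p'.pair
  obtain ⟨ρ', r'⟩ := exists_rho L.p'.pair hq' a1 a2
  obtain ⟨q, hq⟩ := L.h.gr.ex' q' hq'
  have g := L.h.gr.symm
  have hF : ∀ {a}, a ∈ (K ⊓ (Qs' ⊓ centralizer {ρ'}).comap (MonoidHom.snd G G')).map (MonoidHom.fst G G') ↔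
      ∃ a' ∈ Qs', ρ' * a' = a' * ρ' ∧ (a, a') ∈ K :=
    ⟨fun ⟨x, ⟨b1, b2, b3⟩, b4⟩ => ⟨x.2, b2, (mem_cent.1 b3).symm, b4 ▸ b1⟩,
      fun ⟨a', b1, b2, b3⟩ => ⟨_, ⟨b3, b1, mem_cent.2 b2.symm⟩, rfl⟩⟩
  obtain ⟨ρ, r, h⟩ := exists_rho_eq L.p.pair (L.h.gr.fst _ hq) (L.h.gr.inj _ (by rw [← a1]; exact mul_mem hq hq))
    (g.eq_snd (conj_pair (norm_sw.2 (le_normalizer hq)) L.h.s_mem) (by rw [a2]; exact mul_mem L.h.s_mem L.z_mem))
    (fun a ha => let ⟨_, b1, _, b3⟩ := hF.1 ha; ⟨L.h.gr.fst _ b3, L.symm.E_snd b3 b1⟩)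
    (fun v hv ha => by
      obtain ⟨a', -, b2, b3⟩ := hF.1 ha
      rw [r'.eq_one (L.V_snd b3 hv) b2] at b3
      exact L.h.gr.inj _ b3)
    (fun e he => by
      obtain ⟨e', b⟩ := L.h.gr.ex e he.1
      obtain ⟨a', b1, b2, v', hv', rfl⟩ := r'.split ⟨L.h.gr.snd _ b, L.E_snd b he.2⟩
      obtain ⟨v, hv, b3⟩ := L.symm.V_ex hv'
      exact ⟨e * v⁻¹, hF.2 ⟨a', b1.2, b2, by simpa using mul_mem b (inv_mem (mem_sw.1 b3))⟩, v, hv, by group⟩)
    (fun a ha => let ⟨_, _, b2, b3⟩ := hF.1 ha; L.symm.comm_snd hq b3 (r'.q_comm (L.h.gr.snd _ b3) b2))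
  refine ⟨q, ρ, q', ρ', r, r', hq, fun e e' b he => (h e ⟨L.h.gr.fst _ b, he⟩).symm.trans (hF.trans ?_)⟩
  exact ⟨fun ⟨a', _, b2, b3⟩ => L.h.gr.eq_snd b3 b ▸ b2, fun b2 => ⟨e', L.E_snd b he, b2, b⟩⟩

end LP

end CfsgLib.E62
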