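import Mathlib
import Cfsg.Agent.Lib.E62.RAmalB

/-!
# The graph over the centralizer of `⟨z, s⟩`
-/

set_option autoImplicit false

namespace CfsgLib.E62

open Subgroup CfsgLib.LargeExtra CfsgLib.ExtraTwo

variable {G G' : Type*} [Group G] [Group G']

/-- conjugate of a subgroup -/
abbrev cj {H : Type*} [Group H] (D : Subgroup H) (g : H) : Subgroup H := D.map (MulAut.conj g).toMonoidHom

theorem mem_cj {D : Subgroup (G × G')} {ρ c : G} {ρ' c' : G'} :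
    (c, c') ∈ cj D (ρ, ρ') ↔ (ρ⁻¹ * c * ρ, ρ'⁻¹ * c' * ρ') ∈ D := mem_map_conj

/-- compatible choices of `q` and `ρ` on both sides -/
structure Hat (K : Subgroup (G × G')) (Q Qs : Subgroup G) (z s q ρ : G) (Q' Qs' : Subgroup G') (z' s' q' ρ' : G') :
    Prop where
  L : LP K Q Qs z s Q' Qs' z' s'
  r : Rho Q Qs z s q ρ
  r' : Rho Q' Qs' z' s' q' ρ'
  qK : (q, q') ∈ K
  cE : ∀ e e', (e, e') ∈ K → e ∈ Qs → (ρ * e = e * ρ ↔ ρ' * e' = e' * ρ')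

theorem Rho.inv_s {Q Qs : Subgroup G} {z s q ρ : G} (r : Rho Q Qs z s q ρ) : ρ⁻¹ * s * ρ = z := by
  rw [← r.ρ_z]; group

theorem Rho.inv_z {Q Qs : Subgroup G} {z s q ρ : G} (r : Rho Q Qs z s q ρ) : ρ⁻¹ * z * ρ = s * z := by
  nth_rewrite 1 [← r.ρ_sz]; group

theorem Rho.inv_mem {Q Qs : Subgroup G} {z s q ρ : G} (r : Rho Q Qs z s q ρ) {u : G} (hu : u ∈ Qs) :
    ρ⁻¹ * u * ρ ∈ Q := by simpa using r.pair.conj' ρ⁻¹ (by simpa using r.inv_s) u hu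

theorem Rho.n_z {Q Qs : Subgroup G} {z s q ρ : G} (r : Rho Q Qs z s q ρ) : ρ * q * z * (ρ * q)⁻¹ = s := by
  rw [show ρ * q * z * (ρ * q)⁻¹ = ρ * (q * z * q⁻¹) * ρ⁻¹ by group, r.q_z, r.ρ_z]

theorem Rho.n_s {Q Qs : Subgroup G} {z s q ρ : G} (r : Rho Q Qs z s q ρ) : ρ * q * s * (ρ * q)⁻¹ = z := by
  rw [show ρ * q * s * (ρ * q)⁻¹ = ρ * (q * s * q⁻¹) * ρ⁻¹ by group, r.q_s, r.ρ_sz]

theorem Rho.n_sq {Q Qs : Subgroup G} {z s q ρ : G} (r : Rho Q Qs z s q ρ) : ρ * q * (ρ * q) = 1 := by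
  rw [show ρ * q * (ρ * q) = ρ * (q * ρ * q⁻¹) * (q * q) by group, r.inv, r.q_sq]; group

theorem conj_E {Q Qs : Subgroup G} {z s b e : G} (p : Pair Q Qs z s) (h1 : b * z = z * b) (h2 : b * s = s * b)
    (he : e ∈ Q ⊓ Qs) : b * e * b⁻¹ ∈ Q ⊓ Qs := ⟨p.h0.norm b h1 e he.1, p.h1.norm b h2 e he.2⟩

namespace Hat

variable [Finite G] [Finite G'] {K : Subgroup (G × G')} {Q Qs : Subgroup G} {z s q ρ : G} {Q' Qs' : Subgroup G'}
  {z' s' q' ρ' : G'} (H : Hat K Q Qs z s q ρ Q' Qs' z' s' q' ρ')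
include H

theorem norm_E : (ρ, ρ') ∈ normalizer ((K ⊓ Qs.comap (MonoidHom.fst G G') : Subgroup (G × G')) : Set (G × G')) := by
  refine mem_normalizer_fintype fun ⟨e, e'⟩ ⟨h, he⟩ => ⟨?_, ((H.r.pair.X_le_normalizer_E H.r.mem e).1 ⟨H.L.h.gr.fst _ h, he⟩).2⟩
  obtain ⟨a, ha, a1, v, hv, rfl⟩ := H.r.split ⟨H.L.h.gr.fst _ h, he⟩
  obtain ⟨a', ha'⟩ := H.L.h.gr.ex a ha.1
  have h1 : (v, a'⁻¹ * e') ∈ K := by simpa using mul_mem (inv_mem ha') h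
  have h2 : (ρ * v * ρ⁻¹, ρ' * (a'⁻¹ * e') * ρ'⁻¹) ∈ K := by
    rcases H.r.pair.mem_V.1 hv with b | b | b | b <;> rw [b] at h1 ⊢
    · rw [H.L.h.gr.inj' _ h1, mul_one, mul_one, mul_inv_cancel, mul_inv_cancel]; exact one_mem K
    · rw [H.L.h.gr.eq_snd h1 H.L.z_mem, H.r.ρ_z, H.r'.ρ_z]; exact H.L.h.s_mem
    · rw [H.L.h.gr.eq_snd h1 H.L.h.s_mem, H.r.ρ_s, H.r'.ρ_s]; exact mul_mem H.L.h.s_mem H.L.z_mem
    · rw [H.L.h.gr.eq_snd h1 (mul_mem H.L.h.s_mem H.L.z_mem), H.r.ρ_sz]; exact H.r'.ρ_sz.symm ▸ H.L.z_mem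
  have h3 := mul_mem ha' h2
  rw [← conj_eq_of_comm a1, ← conj_eq_of_comm ((H.cE a a' ha' ha.2).1 a1)] at h3
  have h4 : ρ' * e' * ρ'⁻¹ = ρ' * a' * ρ'⁻¹ * (ρ' * (a'⁻¹ * e') * ρ'⁻¹) := by group
  show (ρ * (a * v) * ρ⁻¹, ρ' * e' * ρ'⁻¹) ∈ K
  rw [h4, ← conj_mul]
  nth_rewrite 2 [conj_eq_of_comm ((H.cE a a' ha' ha.2).1 a1)] at h3
  exact h3

theorem cj_E {e : G} {e' : G'} (he : e ∈ Q ⊓ Qs) : (e, e') ∈ cj K (ρ, ρ') ↔ (e, e') ∈ K := by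
  have h := mem_normalizer_iff''.1 H.norm_E (e, e')
  exact mem_cj.trans ⟨fun a => (h.2 ⟨a, ((mem_normalizer_iff''.1 (H.r.pair.X_le_normalizer_E H.r.mem) e).1 he).2⟩).1,
    fun a => (h.1 ⟨a, he.2⟩).1⟩

omit [Finite G] [Finite G'] in
theorem gr2 : Gr (cj K (ρ, ρ')) Qs Qs' := by
  have g := H.L.h.gr
  refine ⟨fun ⟨a, a'⟩ h => ?_, fun ⟨a, a'⟩ h => ?_, fun a ha => ?_, fun a ha => ?_, fun a h => ?_, fun a h => ?_⟩
  · simpa [mul_assoc] using H.r.pair.conj ρ H.r.ρ_z _ (g.fst _ (mem_cj.1 h))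
  · simpa [mul_assoc] using H.r'.pair.conj ρ' H.r'.ρ_z _ (g.snd _ (mem_cj.1 h))
  · obtain ⟨x, hx⟩ := g.ex _ (H.r.inv_mem ha)
    exact ⟨ρ' * x * ρ'⁻¹, mem_cj.2 (by simpa [mul_assoc] using hx)⟩
  · obtain ⟨x, hx⟩ := g.ex' _ (H.r'.inv_mem ha)
    exact ⟨ρ * x * ρ⁻¹, mem_cj.2 (by simpa [mul_assoc] using hx)⟩
  · simpa [mul_assoc, inv_mul_eq_one] using g.inj (ρ⁻¹ * a * ρ) (by simpa using mem_cj.1 h)
  · simpa [mul_assoc, inv_mul_eq_one] using g.inj' (ρ'⁻¹ * a * ρ') (by simpa using mem_cj.1 h)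

omit [Finite G] [Finite G'] H in
theorem conj2 {c x : G} {c' x' : G'} (hd : (c, c') ∈ cj (normalizer (K : Set (G × G'))) (ρ, ρ'))
    (hx : (x, x') ∈ cj K (ρ, ρ')) : (c * x * c⁻¹, c' * x' * c'⁻¹) ∈ cj K (ρ, ρ') :=
  mem_cj.2 (by simpa [mul_assoc] using conj_pair (mem_cj.1 hd) (mem_cj.1 hx))

omit [Finite G] [Finite G'] in
theorem adj {b : G} {a v : G'} (h1 : (b, a) ∈ normalizer (K : Set (G × G')))
    (h2 : (b, a * v) ∈ cj (normalizer (K : Set (G × G'))) (ρ, ρ')) (hv : v ∈ closure ({z', s'} : Set G')) :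
    ∃ b', (b, b') ∈ normalizer (K : Set (G × G')) ⊓ cj (normalizer (K : Set (G × G'))) (ρ, ρ') := by
  have h3 : ((1 : G), s') ∈ cj (normalizer (K : Set (G × G'))) (ρ, ρ') :=
    mem_cj.2 (by simpa [H.r'.inv_s] using H.L.one_z)
  have h4 : (b, a * z') ∈ normalizer (K : Set (G × G')) := by simpa using mul_mem h1 H.L.one_z
  have h5 := mul_mem h2 h3
  rcases H.r'.pair.mem_V.1 hv with e | e | e | e <;> rw [e] at h2 h5
  · exact ⟨a, h1, by simpa using h2⟩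
  · exact ⟨_, h4, h2⟩
  · exact ⟨a, h1, by simpa [H.r'.pair.h1.es.zz'] using h5⟩
  · exact ⟨_, h4, by simpa [H.r'.pair.comm, ← mul_assoc, H.r'.pair.h1.es.zz'] using h5⟩

omit [Finite G] in
theorem ex_Y {y : G} (hy : y ∈ B0 z s) (h : ρ * y = y * ρ) :
    ∃ b', (y, b') ∈ normalizer (K : Set (G × G')) ⊓ cj (normalizer (K : Set (G × G'))) (ρ, ρ') := by
  obtain ⟨y', hd⟩ := H.L.h.lift y (mem_B0.1 hy).1
  obtain ⟨v, hv, w, hw, h1, e⟩ := H.r'.norm H.L.p' (mem_B0.2 ⟨H.L.snd_C hd, H.L.comm_s hd (mem_B0.1 hy).2⟩)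
    fun e' he' h1 => by
      obtain ⟨e, he⟩ := H.L.h.gr.ex' e' he'.1
      have h2 := H.L.symm.E_snd he he'.2
      exact (H.cE _ _ (conj_pair hd he) (H.r.pair.h1.norm y (mem_B0.1 hy).2 e h2)).1
        (((Commute.mul_right h ((H.cE _ _ he h2).2 h1))).mul_right (Commute.inv_right h))
  have hV := fun x hx => Pair.mem_centralizer_V.2 (mem_B0.1 hw) x hx
  have h2 := (H.r'.pair.X_le_normalizer H.r'.mem v).1 hv
  refine H.adj hd (mem_cj.2 ?_) (mul_mem (inv_mem hv) h2)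
  convert hd using 1
  refine Prod.ext (by simp [mul_assoc, ← h]) ?_
  show ρ'⁻¹ * (y' * (v⁻¹ * (ρ' * v * ρ'⁻¹))) * ρ' = y'
  rw [e, hV v hv, mul_assoc w, mul_inv_cancel_left, ← mul_assoc w, ← mul_assoc w, ← h1]
  group

theorem mem_E {u : G} {a b : G'} (hu : u ∈ Qs) (h1 : (u, a) ∈ normalizer (K : Set (G × G')))
    (h2 : (u, b) ∈ cj (normalizer (K : Set (G × G'))) (ρ, ρ')) : a⁻¹ * b ∈ Q' ⊓ Qs' := by
  have h3 : b ∈ Qs' := by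
    obtain ⟨x, hx⟩ := H.L.h.gr.ex _ (H.r.inv_mem hu)
    have h4 : ρ'⁻¹ * b * ρ' ∈ Q' := by
      rcases H.L.D_snd (le_normalizer hx) (mem_cj.1 h2) with e | e <;> rw [e]
      exacts [H.L.h.gr.snd _ hx, mul_mem (H.L.h.gr.snd _ hx) H.r'.pair.h0.es.mem]
    simpa [mul_assoc] using H.r'.pair.conj ρ' H.r'.ρ_z _ h4
  have h4 := mul_mem (inv_mem (H.L.Q2_snd h1 hu)) h3
  refine ⟨H.L.p'.mem_E' h4 fun e' he' => ?_, h4⟩
  obtain ⟨e, he⟩ := H.L.h.gr.ex' e' he'.1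
  have h5 : e ∈ Q ⊓ Qs := ⟨H.L.h.gr.fst _ he, H.L.symm.E_snd he he'.2⟩
  have h6 := H.L.h.gr.eq_snd (conj_pair h1 he) ((H.cj_E (conj_E H.r.pair (H.L.fst_C h1)
    (H.r.pair.h1.es.comm_z u hu) h5)).1 (conj2 h2 ((H.cj_E h5).2 he)))
  calc e' * (a⁻¹ * b) = a⁻¹ * (a * e' * a⁻¹) * b := by group
    _ = _ := by rw [h6]; group

omit [Finite G] [Finite G'] in
theorem swap1 {c : G} {c' : G'} (h : (c, c') ∈ normalizer (K : Set (G × G'))) :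
    (ρ * q * c * (ρ * q)⁻¹, ρ' * q' * c' * (ρ' * q')⁻¹) ∈ cj (normalizer (K : Set (G × G'))) (ρ, ρ') :=
  mem_cj.2 (by simpa [mul_assoc] using mul_mem (mul_mem (le_normalizer H.qK) h) (inv_mem (le_normalizer H.qK)))

omit [Finite G] [Finite G'] in
theorem swap2 {c : G} {c' : G'} (h : (c, c') ∈ cj (normalizer (K : Set (G × G'))) (ρ, ρ')) :
    (ρ * q * c * (ρ * q)⁻¹, ρ' * q' * c' * (ρ' * q')⁻¹) ∈ normalizer (K : Set (G × G')) := by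
  rw [inv_eq_of_mul_eq_one_right H.r.n_sq, inv_eq_of_mul_eq_one_right H.r'.n_sq]
  nth_rewrite 1 [← inv_eq_of_mul_eq_one_right H.r.n_sq, ← inv_eq_of_mul_eq_one_right H.r'.n_sq]
  simpa [mul_assoc] using mul_mem (mul_mem (inv_mem (le_normalizer H.qK)) (mem_cj.1 h)) (le_normalizer H.qK)

omit [Finite G] [Finite G'] in
theorem lift2 {c : G} (h : c * s = s * c) : ∃ c', (c, c') ∈ cj (normalizer (K : Set (G × G'))) (ρ, ρ') := by
  obtain ⟨c', hc⟩ := H.L.h.lift (ρ⁻¹ * c * ρ) (by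
    rw [← H.r.inv_s, show ρ⁻¹ * c * ρ * (ρ⁻¹ * s * ρ) = ρ⁻¹ * (c * s) * ρ by group, h]; group)
  exact ⟨ρ' * c' * ρ'⁻¹, mem_cj.2 (by simpa [mul_assoc] using hc)⟩

theorem ex_mod {b : G} (hb : b ∈ B0 z s) : ∃ a, ∃ e ∈ Q' ⊓ Qs', (b, a) ∈ normalizer (K : Set (G × G')) ∧
    (b, a * e) ∈ cj (normalizer (K : Set (G × G'))) (ρ, ρ') := by
  obtain ⟨u, hu, uz, x, hx, xs, y, hy, hρ, rfl⟩ := H.r.decomp hb
  obtain ⟨y', y1, y2⟩ := H.ex_Y hy hρ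
  obtain ⟨a, a1⟩ := H.L.h.lift u uz
  obtain ⟨b, b1⟩ := H.lift2 (H.r.pair.h1.es.comm_z u hu)
  obtain ⟨c, c1⟩ := H.L.h.lift x (H.r.pair.h0.es.comm_z x hx)
  obtain ⟨d, d1⟩ := H.lift2 xs
  have h1 := H.mem_E (H.r.pair.conj _ H.r.n_z x hx) (H.swap2 d1) (H.swap1 c1)
  have h2 : d⁻¹ * c ∈ Q' ⊓ Qs' := (H.r'.pair.X_le_normalizer_E (mul_mem H.r'.mem (mem_sup_left H.r'.q_mem)) _).2
    (by rw [← conj_mul, ← conj_inv]; exact h1)
  have h3 := inv_mem (mem_B0.2 ⟨H.L.snd_C c1, H.L.comm_s c1 xs⟩)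
  have h4 := inv_mem (mem_B0.2 ⟨H.L.snd_C y1, H.L.comm_s y1 (mem_B0.1 hy).2⟩)
  refine ⟨a * c * y', _, conj_E H.r'.pair (mem_B0.1 h4).1 (mem_B0.1 h4).2 (mul_mem (conj_E H.r'.pair
    (mem_B0.1 h3).1 (mem_B0.1 h3).2 (H.mem_E hu a1 b1)) (inv_mem h2)), mul_mem (mul_mem a1 c1) y1, ?_⟩
  convert mul_mem (mul_mem b1 d1) y2 using 1
  exact Prod.ext rfl (by simp [mul_assoc])

theorem ex_Q2 {u : G} (hu : u ∈ Qs) (uz : u * z = z * u) :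
    ∃ b', (u, b') ∈ normalizer (K : Set (G × G')) ⊓ cj (normalizer (K : Set (G × G'))) (ρ, ρ') := by
  classical
  let K0 := (normalizer (K : Set (G × G')) ⊓ cj (normalizer (K : Set (G × G'))) (ρ, ρ')).map (MonoidHom.fst G G') ⊓
    (Qs ⊓ centralizer {z})
  have p := H.r.pair
  have p' := H.r'.pair
  have es := p'.h1.es
  have hE : Q ⊓ Qs ≤ Qs ⊓ centralizer {z} := fun e he => ⟨he.2, mem_cent.2 (p.h0.es.comm_z e he.1)⟩
  rcases H.L.p.irr K0 (fun e he => let ⟨e', h⟩ := H.L.h.gr.ex e he.1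
      ⟨⟨(e, e'), ⟨le_normalizer h, map_mono le_normalizer ((H.cj_E he).2 h)⟩, rfl⟩, hE he⟩) inf_le_right
    (fun b hb => mem_normalizer_fintype fun u ⟨⟨⟨_, w⟩, ⟨w1, w2⟩, rfl⟩, u1, u2⟩ => by
      obtain ⟨a, e, he, a1, a2⟩ := H.ex_mod hb
      have h1 := mul_mem (mul_mem a1 w1) (inv_mem a1)
      have h2 := mul_mem (mul_mem a2 w2) (inv_mem a2)
      simp only [Prod.mk_mul_mk, Prod.inv_mk] at h1 h2
      rw [show a * e * w * (a * e)⁻¹ = a * (e * w * e⁻¹) * a⁻¹ by group] at h2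
      refine ⟨?_, p.h1.norm b (mem_B0.1 hb).2 _ u1, (centralizer {z}).mul_mem ((centralizer {z}).mul_mem hb.1 u2)
        ((centralizer {z}).inv_mem hb.1)⟩
      rcases es.conj (H.L.Q2_snd w1 u1) he.2 with c | c <;> rw [c] at h2
      · exact ⟨_, ⟨h1, h2⟩, rfl⟩
      · rw [← conj_mul, conj_eq_of_comm (H.L.comm_s a1 (mem_B0.1 hb).2)] at h2
        obtain ⟨b', h3⟩ := H.adj h1 h2 (p'.mem_V.2 (by simp))
        exact ⟨_, h3, rfl⟩) with h0 | h0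
  swap
  · obtain ⟨⟨⟨_, w⟩, h, rfl⟩, -⟩ := h0.ge ⟨hu, mem_cent.2 uz⟩
    exact ⟨w, h⟩
  exfalso
  choose! α hα using H.gr2.ex
  choose! θ hθ using H.L.h.lift
  have z2 : (z, z') ∈ cj K (ρ, ρ') := (H.cj_E ⟨p.h0.es.mem, p.zQ1⟩).2 H.L.z_mem
  have α1 : ∀ x ∈ Qs ⊓ centralizer {z}, α x ∈ Qs' := fun x hx => H.gr2.snd _ (hα x hx.1)
  have α2 : ∀ x ∈ Qs ⊓ centralizer {z}, α x * z' = z' * α x := fun x hx => H.gr2.eq_snd (mul_mem (hα x hx.1) z2)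
    (by rw [mem_cent.1 hx.2]; exact mul_mem z2 (hα x hx.1))
  have α3 : ∀ x ∈ Qs ⊓ centralizer {z}, ∀ y ∈ Qs ⊓ centralizer {z}, α (x * y) = α x * α y := fun x hx y hy =>
    H.gr2.eq_snd (hα _ (mul_mem hx.1 hy.1)) (mul_mem (hα x hx.1) (hα y hy.1))
  have θ1 : ∀ x ∈ Qs ⊓ centralizer {z}, (x, θ x) ∈ normalizer (K : Set (G × G')) := fun x hx => hθ x (mem_cent.1 hx.2)
  have δ1 : ∀ x ∈ Qs ⊓ centralizer {z}, (θ x)⁻¹ * α x ∈ Q' ⊓ Qs' := fun x hx =>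
    H.mem_E hx.1 (θ1 x hx) (map_mono le_normalizer (hα x hx.1))
  have hV : ∀ w ∈ Qs ⊓ centralizer {z}, ∀ v ∈ closure ({z', s'} : Set G'), ∀ d,
      (d * v * α w = α w * (d * v) ↔ d * α w = α w * d) := fun w hw v hv d => by
    rw [mul_assoc, Pair.mem_centralizer_V.2 ⟨α2 w hw, es.comm_z _ (α1 w hw)⟩ v hv, ← mul_assoc, ← mul_assoc,
      mul_left_inj]
  obtain ⟨k, hk⟩ := card_of_alt hE (fun x hx => p.sq_RR (Pair.mem_RR_left hx.1 (mem_cent.1 hx.2)))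
    (fun x hx y _ hy => conj_E p (mem_cent.1 hx.2) (p.h1.es.comm_z x hx.1) hy)
    (fun x y => if (θ y)⁻¹ * α y * α x = α x * ((θ y)⁻¹ * α y) then 0 else 1)
    (fun x hx y hy w hw => by
      simp only [α3 x hx y hy, eq_comm (a := (θ w)⁻¹ * α w * _)]
      exact es.beta_mul (α1 x hx) (α1 y hy) (δ1 w hw).2)
    (fun x hx y hy w hw => by
      rw [← es.beta_mul (δ1 x hx).2 (δ1 y hy).2 (α1 w hw)]
      have h1 : ∃ v ∈ closure ({z', s'} : Set G'), (θ x * θ y)⁻¹ * (α x * α y) = (θ x)⁻¹ * α x * ((θ y)⁻¹ * α y) * v := by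
        rw [show (θ x * θ y)⁻¹ * (α x * α y) = (θ y)⁻¹ * ((θ x)⁻¹ * α x) * (θ y)⁻¹⁻¹ * ((θ y)⁻¹ * α y) by group]
        rcases es.conj (δ1 x hx).2 (inv_mem (H.L.Q2_snd (θ1 y hy) hy.1)) with c | c <;> rw [c]
        · exact ⟨1, one_mem _, (mul_one _).symm⟩
        · exact ⟨s', p'.mem_V.2 (by simp), by rw [mul_assoc _ s', ← es.comm_z _ (δ1 y hy).2, ← mul_assoc]⟩
      obtain ⟨v, hv, h1⟩ := h1
      rw [α3 x hx y hy]
      rcases H.L.D_snd (c := x * y) (a := θ x * θ y) (mul_mem (θ1 x hx) (θ1 y hy)) (θ1 _ (mul_mem hx hy)) with c | c <;> rw [c]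
      · simp only [h1, hV w hw v hv]
      · have h2 := p'.h0.es.comm_z _ (mul_mem (mul_mem (δ1 x hx).1 (δ1 y hy).1) (p'.V_le_E hv).1)
        simp only [mul_inv_rev (θ x * θ y), p'.h0.es.inv_eq, mul_assoc z', h1, ← h2,
          hV w hw z' (p'.mem_V.2 (by simp)), hV w hw v hv])
    (fun x hx => if_pos (by
      have h1 : θ x * θ x = α x * α x := by
        have h2 := (H.cj_E (p.sq_RR (Pair.mem_RR_left hx.1 (mem_cent.1 hx.2)))).1 (mul_mem (hα x hx.1) (hα x hx.1))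
        refine (H.L.D_snd (c := x * x) (a := α x * α x) (b := θ x * θ x) (le_normalizer h2) (mul_mem (θ1 x hx) (θ1 x hx))).resolve_right fun c => ?_
        rcases es.sq (H.L.Q2_snd (θ1 x hx) hx.1) with c1 | c1 <;> rcases es.sq (α1 x hx) with c2 | c2 <;>
          rw [c1, c2] at c
        · exact p'.h0.es.ne_one (by simpa using c.symm)
        · exact p'.ne (by rw [← p'.h0.es.zz' s', ← c, one_mul])
        · exact p'.ne (by simpa using c)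
        · exact p'.h0.es.ne_one (mul_eq_left.1 c.symm)
      have h2 := p'.E_sq (δ1 x hx)
      calc (θ x)⁻¹ * α x * α x = θ x := by rw [mul_assoc, ← h1, inv_mul_cancel_left]
        _ = α x * ((θ x)⁻¹ * α x)⁻¹ := by group
        _ = _ := by rw [inv_eq_of_mul_eq_one_right h2]))
    (fun x hx => ⟨fun h => h0.le ⟨by
      obtain ⟨b', h3⟩ := H.adj (θ1 x hx) (v := (θ x)⁻¹ * α x) (by simpa using map_mono le_normalizer (hα x hx.1))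
        ((Pair.V_comm (z := z') (t := s')).ge <| p'.symm.mem_V.2 (double_cent es p'.zQ1 (δ1 x hx).2 fun y' hy' c => by
          obtain ⟨y, hy⟩ := H.gr2.ex' y' hy'
          have h1 : y ∈ Qs ⊓ centralizer {z} := ⟨H.gr2.fst _ hy, mem_cent.2 (H.gr2.symm.eq_snd (mul_mem hy z2)
            (by rw [c]; exact mul_mem z2 hy))⟩
          rw [H.gr2.eq_snd hy (hα y h1.1)]
          by_contra c1
          simpa [Ne.symm c1] using h y h1))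
      exact ⟨_, h3, rfl⟩, hx⟩, fun h y hy => if_pos (by
        rcases H.L.D_snd (θ1 x hx) (le_normalizer ((H.cj_E h).1 (hα x hx.1))) with c | c <;> rw [c]
        · simp
        · rw [inv_mul_cancel_left, α2 y hy])⟩)
  have h1 := p.card_Q1
  rw [H.L.p.cardQs, hk, H.L.p.cardE, ← pow_add, ← pow_succ'] at h1
  have := Nat.pow_right_injective (le_refl 2) h1
  omega

theorem gr1 : Gr (normalizer (K : Set (G × G')) ⊓ cj (normalizer (K : Set (G × G'))) (ρ, ρ')) (B0 z s) (B0 z' s') := by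
  have f1 : ∀ c c', (c, c') ∈ cj (normalizer (K : Set (G × G'))) (ρ, ρ') → c * s = s * c := fun c c' h => by
    have := H.L.fst_C (mem_cj.1 h)
    rw [← H.r.inv_s] at this
    exact mul_right_cancel (b := ρ) (by simpa [mul_assoc] using this)
  have ex : ∀ b ∈ B0 z s, ∃ b', (b, b') ∈ normalizer (K : Set (G × G')) ⊓ cj (normalizer (K : Set (G × G'))) (ρ, ρ') :=
    fun b hb => by
      obtain ⟨u, hu, uz, x, hx, xs, y, hy, hρ, rfl⟩ := H.r.decomp hb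
      obtain ⟨y', y1⟩ := H.ex_Y hy hρ
      obtain ⟨u', u1⟩ := H.ex_Q2 hu uz
      obtain ⟨x', x1, x2⟩ := H.ex_Q2 (H.r.pair.conj _ H.r.n_z x hx) (by
        rw [← H.r.n_s, conj_mul, conj_mul, xs])
      have h1 : ρ * q * (ρ * q * x * (ρ * q)⁻¹) * (ρ * q)⁻¹ = x := by
        rw [show ρ * q * (ρ * q * x * (ρ * q)⁻¹) * (ρ * q)⁻¹ = ρ * q * (ρ * q) * x * (ρ * q * (ρ * q))⁻¹ by group,
          H.r.n_sq]; group
      exact ⟨_, mul_mem (mul_mem u1 ⟨h1 ▸ H.swap2 x2, h1 ▸ H.swap1 x1⟩) y1⟩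
  refine ⟨fun ⟨c, c'⟩ h => mem_B0.2 ⟨H.L.fst_C h.1, f1 _ _ h.2⟩,
    fun ⟨c, c'⟩ h => mem_B0.2 ⟨H.L.snd_C h.1, H.L.comm_s h.1 (f1 _ _ h.2)⟩, ex, fun b' hb' => ?_,
    fun a h => ?_, fun a h => ?_⟩
  · obtain ⟨c, hc⟩ := H.L.h.lift' b' (mem_B0.1 hb').1
    obtain ⟨a, ha⟩ := ex c (mem_B0.2 ⟨H.L.fst_C hc, H.L.symm.comm_s (norm_sw.2 hc) (mem_B0.1 hb').2⟩)
    rcases H.L.D_snd ha.1 hc with e | e <;> rw [e]
    · exact ⟨c, ha⟩
    · exact ⟨c * z, mul_mem ha ⟨le_normalizer H.L.z_mem, map_mono le_normalizer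
        ((H.cj_E ⟨H.r.pair.h0.es.mem, H.r.pair.zQ1⟩).2 H.L.z_mem)⟩⟩
  · refine (H.L.D_inj h.1).resolve_right fun e => ?_
    have h2 := mem_cj.1 h.2
    rw [e, H.r.inv_z, mul_one, inv_mul_cancel] at h2
    rcases H.L.D_inj h2 with c | c
    · exact H.r.pair.ne (by rw [← H.r.pair.h0.es.zz' s, c, one_mul])
    · exact H.r.pair.h1.es.ne_one (mul_eq_right.1 c)
  · refine (H.L.D_inj' h.1).resolve_right fun e => ?_
    have h2 := mem_cj.1 h.2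
    rw [e, H.r'.inv_z, mul_one, inv_mul_cancel] at h2
    rcases H.L.D_inj' h2 with c | c
    · exact H.r'.pair.ne (by rw [← H.r'.pair.h0.es.zz' s', c, one_mul])
    · exact H.r'.pair.h1.es.ne_one (mul_eq_right.1 c)

end Hat

end CfsgLib.E62
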