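import Mathlib
import Cfsg.Agent.Lib.E62.RAmalC
import Cfsg.Agent.Lib.Transfer.Thompson

/-!
# The amalgam of `C(z)` and `N(⟨z, s⟩)` is unique
-/

set_option autoImplicit false

namespace CfsgLib.E62

open Subgroup CfsgLib.LargeExtra CfsgLib.ExtraTwo CfsgLib.CT

variable {G G' : Type*} [Group G] [Group G']

theorem Gr.le_of_perf {A M : Subgroup (G × G')} {B : Subgroup G} {B' : Subgroup G'} (g : Gr A B B')
    (hB : ∀ M : Subgroup G, M.relIndex B ≠ 2) (h : ∀ a ∈ A, ∀ b ∈ A, a ∉ M → b ∉ M → a * b ∈ M) : A ≤ M := by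
  intro ⟨a, a'⟩ ha
  by_contra hM
  refine hB ((A ⊓ M).map (MonoidHom.fst G G')) (relIndex_eq_two_iff_exists_notMem_and.2 ⟨a, g.fst _ ha, ?_, fun b hb => ?_⟩)
  · rintro ⟨⟨_, b⟩, ⟨h1, h2⟩, rfl⟩
    exact hM (g.eq_snd h1 ha ▸ h2)
  · obtain ⟨b', h1⟩ := g.ex b hb
    by_cases h2 : (b, b') ∈ M
    · exact Or.inr ⟨_, ⟨h1, h2⟩, rfl⟩
    · exact Or.inl ⟨_, ⟨mul_mem h1 ha, h _ h1 _ ha h2 hM⟩, rfl⟩

theorem Pair.conj_s_cases {Q Qs : Subgroup G} {z s c : G} (p : Pair Q Qs z s) (hz : c * z = z * c)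
    (hc : c ∈ normalizer ((closure {z, s} : Subgroup G) : Set G)) : c * s * c⁻¹ = s ∨ c * s * c⁻¹ = s * z := by
  rcases p.mem_V.1 ((hc s).1 (p.mem_V.2 (by simp))) with e | e | e | e
  · exact absurd (by simpa using e) p.h1.es.ne_one
  · exact absurd (conj_injective (e.trans (conj_eq_of_comm hz).symm)) p.ne
  · exact Or.inl e
  · exact Or.inr e

theorem conj_mul' (a b x : G) : a * b * x * (a * b)⁻¹ = a * (b * x * b⁻¹) * a⁻¹ := by group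

theorem Rho.braid {Q Qs : Subgroup G} {z s q ρ : G} (r : Rho Q Qs z s q ρ) : q * (ρ * q) * q = ρ * q * q * (ρ * q) := by
  rw [mul_assoc q, mul_assoc ρ q, r.q_sq, mul_one, ← mul_assoc, eq_mul_of_mul_inv_eq r.inv,
    inv_eq_of_mul_eq_one_right ((pow_three ρ).symm.trans r.cube)]

theorem Rho.q_mul_mem {Q Qs : Subgroup G} {z s q ρ c : G} (r : Rho Q Qs z s q ρ) (h1 : c * z = z * c)
    (h2 : c * s * c⁻¹ = s * z) : q * c ∈ B0 z s := mem_B0.2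
  ⟨Commute.mul_left (r.pair.h0.es.comm_z q r.q_mem) h1, comm_of_conj_eq (by
    rw [conj_mul', h2, ← conj_mul, r.q_s, r.q_z, r.pair.h0.es.zz'])⟩

namespace Hat

variable [Finite G] [Finite G'] {K : Subgroup (G × G')} {Q Qs : Subgroup G} {z s q ρ : G} {Q' Qs' : Subgroup G'}
  {z' s' q' ρ' : G'} (H : Hat K Q Qs z s q ρ Q' Qs' z' s' q' ρ')
include H

theorem exists_N {D1 : Subgroup (G × G')}
    (hD : D1 = normalizer (K : Set (G × G')) ⊓ cj (normalizer (K : Set (G × G'))) (ρ, ρ')) :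
    ∃ Γ : Subgroup (G × G'), D1 ≤ Γ ∧ (q, q') ∈ Γ ∧ (ρ, ρ') ∈ Γ ∧
      (∀ g g', (g, g') ∈ Γ → g ∈ B0 z s ∨ g' ∈ B0 z' s' → (g, g') ∈ D1) ∧
      ∀ g g', (g, g') ∈ Γ → g' * z' = z' * g' → (g, g') ∈ D1 ∨ (q * g, q' * g') ∈ D1 := by
  have g : Gr D1 (B0 z s) (B0 z' s') := hD ▸ H.gr1
  have hq : (q, q') ∈ normalizer (K : Set (G × G')) := le_normalizer H.qK
  have hle : D1 ≤ normalizer (K : Set (G × G')) := hD ▸ inf_le_left
  have p := H.r.pair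
  have p' := H.r'.pair
  have q1 : (q, q') ∈ normalizer (D1 : Set (G × G')) := by
    have key : ∀ b ∈ B0 z s, ∀ b', (b, b') ∈ D1 → (b, b') ∉ cj D1 (q, q') → (b, b' * z') ∈ cj D1 (q, q') :=
      fun b hb b' h1 h2 => by
        obtain ⟨a, ha⟩ := g.ex (q⁻¹ * b * q) (by
          have qz : Commute q z := p.h0.es.comm_z q H.r.q_mem
          have bz : Commute b z := (mem_B0.1 hb).1
          refine mem_B0.2 ⟨(qz.inv_left.mul_left bz).mul_left qz, ?_⟩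
          have h3 : Commute b (q * s * q⁻¹) := H.r.q_s ▸ Commute.mul_right (mem_B0.1 hb).2 bz
          calc q⁻¹ * b * q * s = q⁻¹ * (b * (q * s * q⁻¹)) * q := by group
            _ = _ := by rw [h3]; group)
        have h3 : (b, q' * a * q'⁻¹) ∈ cj D1 (q, q') := mem_cj.2 (by simpa [mul_assoc] using ha)
        have h4 : (b, q' * a * q'⁻¹) ∈ normalizer (K : Set (G × G')) := by
          simpa [mul_assoc] using mul_mem (mul_mem hq (hle ha)) (inv_mem hq)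
        rcases H.L.D_snd (hle h1) h4 with e | e <;> rw [e] at h3
        exacts [absurd h3 h2, h3]
    have h1 := g.le_of_perf (M := cj D1 (q, q')) H.L.p.perf fun ⟨a, a'⟩ ha ⟨b, b'⟩ hb h1 h2 => by
      have := mul_mem (key a (g.fst _ ha) a' ha h1) (key b (g.fst _ hb) b' hb h2)
      rwa [Prod.mk_mul_mk, mul_assoc a', ← mul_assoc z', ← H.L.snd_C (hle hb), p'.h0.es.zz'] at this
    exact inv_mem_iff.1 (mem_normalizer_fintype fun x hx => by simpa using mem_map_conj.1 (h1 hx))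
  have n1 : (ρ * q, ρ' * q') ∈ normalizer (D1 : Set (G × G')) :=
    mem_normalizer_fintype fun ⟨x, x'⟩ hx => by rw [hD] at hx ⊢; exact ⟨H.swap2 hx.2, H.swap1 hx.1⟩
  have six : ∀ g g', (g, g') ∈ closure ({(q, q'), (ρ * q, ρ' * q')} : Set (G × G')) ⊔ D1 →
      (g, g') ∈ D1 ∨ (g * z * g⁻¹ = z ∧ g' * z' * g'⁻¹ = z' ∧ g * s * g⁻¹ = s * z ∧ g' * s' * g'⁻¹ = s' * z') ∨
      (g * z * g⁻¹ = s ∧ g' * z' * g'⁻¹ = s') ∨ (g * z * g⁻¹ = s * z ∧ g' * z' * g'⁻¹ = s' * z') := fun c c' h => by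
    obtain ⟨⟨w, w'⟩, hw, ⟨d, d'⟩, hd, e⟩ := (coe_mul_of_left_le_normalizer_right _ D1
      ((closure_le _).2 (by rintro _ (rfl | rfl); exacts [q1, n1]))).subset h
    obtain ⟨rfl, rfl⟩ := Prod.mk.inj e
    have a1 : ∀ x, d * x = x * d → w * d * x * (w * d)⁻¹ = w * x * w⁻¹ := fun x h => by
      rw [mul_assoc w, h]; group
    have a2 : ∀ x, d' * x = x * d' → w' * d' * x * (w' * d')⁻¹ = w' * x * w'⁻¹ := fun x h => by
      rw [mul_assoc w', h]; group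
    rw [a1 z (mem_B0.1 (g.fst _ hd)).1, a1 s (mem_B0.1 (g.fst _ hd)).2, a2 z' (mem_B0.1 (g.snd _ hd)).1,
      a2 s' (mem_B0.1 (g.snd _ hd)).2]
    rcases mem_six (a := (q, q')) (b := (ρ * q, ρ' * q')) (Prod.ext H.r.q_sq H.r'.q_sq) (Prod.ext H.r.n_sq H.r'.n_sq)
      (Prod.ext H.r.braid H.r'.braid) hw with c | c | c | c | c | c <;> (try simp only [Prod.mk_mul_mk] at c) <;>
      obtain ⟨rfl, rfl⟩ := Prod.mk.inj c
    · exact Or.inl (by simpa using hd)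
    · exact Or.inr (Or.inl ⟨H.r.q_z, H.r'.q_z, H.r.q_s, H.r'.q_s⟩)
    · exact Or.inr (Or.inr (Or.inl ⟨H.r.n_z, H.r'.n_z⟩))
    · exact Or.inr (Or.inr (Or.inr ⟨by rw [conj_mul', H.r.n_z, H.r.q_s], by rw [conj_mul', H.r'.n_z, H.r'.q_s]⟩))
    · exact Or.inr (Or.inr (Or.inl ⟨by rw [conj_mul', H.r.q_z, H.r.n_z], by rw [conj_mul', H.r'.q_z, H.r'.n_z]⟩))
    · exact Or.inr (Or.inr (Or.inr ⟨by rw [conj_mul', H.r.q_z, conj_mul', H.r.n_z, H.r.q_s],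
        by rw [conj_mul', H.r'.q_z, conj_mul', H.r'.n_z, H.r'.q_s]⟩))
  have m1 : (q, q') ∈ closure ({(q, q'), (ρ * q, ρ' * q')} : Set (G × G')) ⊔ D1 :=
    mem_sup_left (subset_closure (by simp))
  have m2 : (ρ * q, ρ' * q') ∈ closure ({(q, q'), (ρ * q, ρ' * q')} : Set (G × G')) ⊔ D1 :=
    mem_sup_left (subset_closure (by simp))
  have n2 : s * z ≠ z := fun e => p.h1.es.ne_one (mul_eq_right.1 e)
  have n3 : s' * z' ≠ z' := fun e => p'.h1.es.ne_one (mul_eq_right.1 e)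
  have G2 : ∀ c c', (c, c') ∈ closure ({(q, q'), (ρ * q, ρ' * q')} : Set (G × G')) ⊔ D1 →
      c ∈ B0 z s ∨ c' ∈ B0 z' s' → (c, c') ∈ D1 := fun c c' h h1 => by
    rcases six c c' h with e | e | e | e <;> rcases h1 with h1 | h1 <;> obtain ⟨h1, h2⟩ := mem_B0.1 h1 <;>
      (try simp only [conj_eq_of_comm h1, conj_eq_of_comm h2] at e)
    exacts [e, e, absurd (left_eq_mul.1 e.2.2.1) p.h0.es.ne_one, absurd (left_eq_mul.1 e.2.2.2) p'.h0.es.ne_one,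
      absurd e.1.symm p.ne, absurd e.2.symm p'.ne, absurd e.1.symm n2, absurd e.2.symm n3]
  refine ⟨_, le_sup_right, m1, by simpa using mul_mem m2 (inv_mem m1), G2, fun c c' h h1 => ?_⟩
  rcases six c c' h with e | e | e | e
  · exact Or.inl e
  · exact Or.inr (G2 _ _ (mul_mem m1 h) (Or.inr (H.r'.q_mul_mem h1 e.2.2.2)))
  · exact absurd (e.2.symm.trans (conj_eq_of_comm h1)) p'.ne
  · exact absurd (e.2.symm.trans (conj_eq_of_comm h1)) n3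

end Hat

theorem Link.exists_map {G G' : Type*} [Group G] [Finite G] [Group G'] [Finite G'] {Q Qs : Subgroup G} {z s : G}
    {Q' Qs' : Subgroup G'} {z' s' : G'} {K : Subgroup (G × G')} (h : Link K Q Qs z s Q' Qs' z' s')
    (p : Pin Q Qs z s) (p' : Pin Q' Qs' z' s') :
    ∃ F : G' → G, MulOn (centralizer {z'}) F ∧ MulOn (normalizer ((closure {z', s'} : Subgroup G') : Set G')) F ∧
      (∀ c, c * z = z * c → ∃ c', c' * z' = z' * c' ∧ F c' = c) ∧ (∀ c', c' * z' = z' * c' → F c' = 1 → c' = 1) ∧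
      F z' = z ∧ F s' = s ∧ ∀ x' ∈ Q', F x' ∈ Q := by
  have L : LP K Q Qs z s Q' Qs' z' s' := ⟨h, p, p'⟩
  obtain ⟨q, ρ, q', ρ', r, r', hq, hE⟩ := L.exists_hat
  have H : Hat K Q Qs z s q ρ Q' Qs' z' s' q' ρ' := ⟨L, r, r', hq, hE⟩
  obtain ⟨D1, hD⟩ : ∃ D1, D1 = normalizer (K : Set (G × G')) ⊓ cj (normalizer (K : Set (G × G'))) (ρ, ρ') := ⟨_, rfl⟩
  obtain ⟨Γ, Γ1, Γq, Γρ, Γ2, Γ3⟩ := H.exists_N hD
  have g : Gr D1 (B0 z s) (B0 z' s') := hD ▸ H.gr1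
  have hle : D1 ≤ normalizer (K : Set (G × G')) := hD ▸ inf_le_left
  have es := p.pair.h0.es
  have es' := p'.pair.h0.es
  have zD : (z, z') ∈ D1 := hD ▸ ⟨le_normalizer L.z_mem, map_mono le_normalizer ((H.cj_E ⟨es.mem, p.pair.zQ1⟩).2 L.z_mem)⟩
  have uΓ : (z, (1 : G')) ∉ Γ := fun h1 => es.ne_one (g.inj z (Γ2 _ _ h1 (Or.inr (one_mem _))))
  have BN : B0 z s ⊔ Q ≤ normalizer ((closure {z, s} : Subgroup G) : Set G) := sup_le
    (fun b hb => centralizer_le_normalizer _ (Pair.mem_centralizer_V.2 (mem_B0.1 hb))) p.pair.Q_le_normalizer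
  have k1 : ∀ c c', (c, c') ∈ normalizer (K : Set (G × G')) → c ∈ B0 z s → (c, c') * (z, 1) ∈ Γ ∨ (c, c') ∈ Γ :=
    fun c c' h1 h2 => by
      obtain ⟨a, ha⟩ := g.ex c h2
      rcases L.D_snd (hle ha) h1 with e | e <;> rw [e]
      · exact Or.inr (Γ1 ha)
      · exact Or.inl (by simpa using Γ1 (mul_mem ha zD))
  have idx : (Γ.subgroupOf (normalizer (K : Set (G × G')))).relIndex
      (((B0 z s ⊔ Q).comap (MonoidHom.fst G G')).subgroupOf (normalizer (K : Set (G × G')))) = 2 :=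
    relIndex_eq_two_iff_exists_notMem_and.2 ⟨⟨_, L.z_one⟩, mem_sup_right es.mem, uΓ, fun ⟨⟨c, c'⟩, h1⟩ h2 => by
      rcases Pair.conj_s_cases p.pair (L.fst_C h1) (BN h2) with e | e
      · exact k1 c c' h1 (mem_B0.2 ⟨L.fst_C h1, comm_of_conj_eq e⟩)
      · exact (k1 _ _ (mul_mem (le_normalizer hq) h1) (r.q_mul_mem (L.fst_C h1) e)).imp
          (fun h3 => (Γ.mul_mem_cancel_left Γq).1 ((mul_assoc (q, q') (c, c') (z, 1)) ▸ h3))
          fun h3 => (Γ.mul_mem_cancel_left Γq).1 h3⟩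
  have hC : (normalizer (K : Set (G × G'))).map (MonoidHom.fst G G') = centralizer {z} :=
    le_antisymm (fun _ ⟨⟨_, _⟩, h1, e⟩ => e ▸ mem_cent.2 (L.fst_C h1))
      fun c hc => let ⟨c', h1⟩ := h.lift c (mem_cent.1 hc); ⟨_, h1, rfl⟩
  have u2 : (⟨_, L.z_one⟩ : normalizer (K : Set (G × G'))) * ⟨_, L.z_one⟩ = 1 :=
    Subtype.ext (Prod.ext es.mul_self (mul_one _))
  rcases Transfer.thompson_transfer (by
      rw [← relIndex, relIndex_comap, hC]; exact p.odd.not_two_dvd_nat) idx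
    (orderOf_eq_two (fun e => es.ne_one (congrArg (·.1.1) e)) u2) with ⟨M₀, hn, hi, hu⟩ | ⟨⟨⟨c, c'⟩, h1⟩, h2⟩
  swap
  · refine absurd ?_ uΓ
    simpa [mem_subgroupOf, conj_eq_of_comm (L.fst_C h1)] using h2
  obtain ⟨M, hM⟩ : ∃ M : Subgroup (G × G'), ∀ x, x ∈ M ↔ ∃ h : x ∈ normalizer (K : Set (G × G')), ⟨x, h⟩ ∈ M₀ :=
    ⟨M₀.map (Subgroup.subtype _), fun x => ⟨fun ⟨y, h1, e⟩ => e ▸ ⟨y.2, h1⟩, fun ⟨h1, h2⟩ => ⟨_, h2, rfl⟩⟩⟩
  have M1 : ∀ a ∈ normalizer (K : Set (G × G')), ∀ b ∈ normalizer (K : Set (G × G')), a ∉ M → b ∉ M → a * b ∈ M :=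
    fun a ha b hb h1 h2 => (hM _).2 ⟨mul_mem ha hb, (mul_mem_iff_of_index_two hi (a := ⟨a, ha⟩) (b := ⟨b, hb⟩)).2
      (iff_of_false (fun h3 => h1 ((hM _).2 ⟨ha, h3⟩)) fun h3 => h2 ((hM _).2 ⟨hb, h3⟩))⟩
  have M2 : (z, (1 : G')) ∉ M := fun h1 => hu ((hM _).1 h1).2
  have M3 : D1 ≤ M := g.le_of_perf p.perf fun a ha b hb => M1 a (hle ha) b (hle hb)
  have M4 : ∀ a ∈ normalizer (K : Set (G × G')), ∀ b ∈ M, a * b * a⁻¹ ∈ M := fun a ha b hb =>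
    let ⟨h1, h2⟩ := (hM _).1 hb; (hM _).2 ⟨mul_mem (mul_mem ha h1) (inv_mem ha), hn.conj_mem _ h2 ⟨a, ha⟩⟩
  have M5 : K ≤ M := by
    have hm : ∀ x x', (x, x') ∈ K → (x ∈ (K ⊓ M).map (MonoidHom.fst G G') ↔ (x, x') ∈ M) := fun x x' h1 =>
      ⟨fun ⟨⟨_, a⟩, ⟨h2, h3⟩, e⟩ => by cases e; exact h.gr.eq_snd h2 h1 ▸ h3, fun h2 => ⟨_, ⟨h1, h2⟩, rfl⟩⟩
    obtain ⟨u, hu, hu'⟩ := exists_comm_iff_mem es le_rfl ((hm _ _ L.z_mem).2 (M3 zD)) fun x hx y hy h1 h2 => by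
      obtain ⟨x', a⟩ := h.gr.ex x hx
      obtain ⟨y', b⟩ := h.gr.ex y hy
      exact (hm _ _ (mul_mem a b)).2 (M1 _ (le_normalizer a) _ (le_normalizer b) (mt (hm _ _ a).2 h1) (mt (hm _ _ b).2 h2))
    have h1 : ∀ c, c * z = z * c → c * u * c⁻¹ = u ∨ c * u * c⁻¹ = u * z := fun c hc => by
      have h2 : ∀ c, c * z = z * c → ∀ x ∈ Q, u * x = x * u → u * (c * x * c⁻¹) = c * x * c⁻¹ * u := fun c hc x hx e => by
        obtain ⟨c', a⟩ := h.lift c hc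
        obtain ⟨x', b⟩ := h.gr.ex x hx
        exact (hu' _ (p.pair.h0.norm c hc x hx)).1 ((hm _ _ (conj_pair a b)).2 (M4 _ a _ ((hm _ _ b).1 ((hu' x hx).2 e))))
      have h3 := p.pair.h0.norm c hc u hu
      have h4 : ∀ x ∈ Q, (c * u * c⁻¹ * x = x * (c * u * c⁻¹) ↔ u * x = x * u) := fun x hx => by
        refine ⟨fun e => ?_, fun e => ?_⟩
        · simpa [mul_assoc] using h2 c hc _ (p.pair.h0.norm c⁻¹ (Commute.inv_left hc) x hx) (by
            calc u * (c⁻¹ * x * c⁻¹⁻¹) = c⁻¹ * (c * u * c⁻¹ * x) * c := by group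
              _ = _ := by rw [e]; group)
        · calc c * u * c⁻¹ * x = c * (u * (c⁻¹ * x * c⁻¹⁻¹)) * c⁻¹ := by group
            _ = _ := by rw [h2 c⁻¹ (Commute.inv_left hc) x hx e]; group
      rcases p.pair.h0.cent (u⁻¹ * (c * u * c⁻¹)) (fun x hx => by
        by_cases e : u * x = x * u
        · exact (Commute.mul_left (Commute.inv_left e) ((h4 x hx).2 e)).symm
        · exact (es.mul_comm_of_not_comm hx (inv_mem hu) h3 (fun e1 => e (Commute.inv_left_iff.1 e1))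
            (mt (h4 x hx).1 e)).symm) with e | e
      · exact Or.inl (inv_mul_eq_one.1 e).symm
      · exact Or.inr (by rw [← e, mul_inv_cancel_left])
    obtain ⟨c, c1, c2, c3⟩ := p.nfix
    have h2 : ∀ x ∈ Q, u * x = x * u := by
      rcases p.pair.mem_V.1 (p.fix u hu fun v _ hv => h1 v hv) with e | e | e | e <;> rw [e] at h1 ⊢
      · simp
      · exact fun x hx => (es.comm_z x hx).symm
      · exact absurd (h1 c c1) (not_or.2 ⟨c2, c3⟩)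
      · have h3 := h1 c c1
        rw [← conj_mul, conj_eq_of_comm c1, mul_left_inj, mul_left_inj] at h3
        exact absurd h3 (not_or.2 ⟨c2, c3⟩)
    exact fun ⟨x, x'⟩ hx => (hm _ _ hx).1 ((hu' x (h.gr.fst _ hx)).2 (h2 x (h.gr.fst _ hx)))
  have M6 : M ≤ normalizer (K : Set (G × G')) := fun x hx => ((hM x).1 hx).1
  have ΓM : ∀ c c', (c, c') ∈ Γ → c' * z' = z' * c' → (c, c') ∈ M := fun c c' h1 h2 =>
    (Γ3 c c' h1 h2).elim (fun h3 => M3 h3) fun h3 => (M.mul_mem_cancel_left (M5 hq)).1 (M3 h3)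
  have M7 : ∀ c c', (c, c') ∈ normalizer (K : Set (G × G')) → (c, c') ∈ M ∨ (c * z, c') ∈ M := fun c c' h1 =>
    or_iff_not_imp_left.2 fun h2 => by simpa using M1 _ h1 _ L.z_one h2 M2
  have i1 : ∀ a b c', (a, c') ∈ M → (b, c') ∈ M → a = b := fun a b c' h1 h2 => by
    have h3 : (a⁻¹ * b, (1 : G')) ∈ M := by simpa using mul_mem (inv_mem h1) h2
    exact inv_mul_eq_one.1 ((L.D_inj (M6 h3)).resolve_right fun e => M2 (e ▸ h3))
  have uq : ∀ a b c', (a, c') ∈ M ∨ (a, c') ∈ Γ → (b, c') ∈ M ∨ (b, c') ∈ Γ → a = b := by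
    rintro a b c' (h1 | h1) (h2 | h2)
    · exact i1 a b c' h1 h2
    · exact i1 a b c' h1 (ΓM _ _ h2 (L.snd_C (M6 h1)))
    · exact i1 a b c' (ΓM _ _ h1 (L.snd_C (M6 h2))) h2
    · exact inv_mul_eq_one.1 (g.inj _ (Γ2 _ _ (by simpa using mul_mem (inv_mem h1) h2) (Or.inr (one_mem _))))
  obtain ⟨F, hF⟩ : ∃ F : G' → G, ∀ a c', (a, c') ∈ M ∨ (a, c') ∈ Γ → F c' = a := by
    classical
    exact ⟨fun c' => if h : ∃ a, (a, c') ∈ M ∨ (a, c') ∈ Γ then h.choose else 1, fun a c' h1 => by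
      beta_reduce
      rw [dif_pos ⟨a, h1⟩]; exact uq _ _ _ (Exists.choose_spec (⟨a, h1⟩ : ∃ a, (a, c') ∈ M ∨ (a, c') ∈ Γ)) h1⟩
  have e1 : ∀ c', c' * z' = z' * c' → (F c', c') ∈ M := fun c' hc => by
    obtain ⟨c, h1⟩ := h.lift' c' hc
    rcases M7 c c' h1 with h2 | h2 <;> rwa [hF _ _ (Or.inl h2)]
  have e2 : ∀ c' ∈ normalizer ((closure {z', s'} : Subgroup G') : Set G'), ∃ c, (c, c') ∈ Γ := by
    have h1 : ∀ c' ∈ normalizer ((closure {z', s'} : Subgroup G') : Set G'), c' * z' = z' * c' → ∃ c, (c, c') ∈ Γ :=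
      fun c' hc e => by
        rcases Pair.conj_s_cases p'.pair e hc with e1 | e1
        · exact (g.ex' c' (mem_B0.2 ⟨e, comm_of_conj_eq e1⟩)).imp fun _ h => Γ1 h
        · obtain ⟨c, h2⟩ := g.ex' _ (r'.q_mul_mem e e1)
          exact ⟨q⁻¹ * c, by simpa using mul_mem (inv_mem Γq) (Γ1 h2)⟩
    have h2 := p'.pair.X_le_normalizer r'.mem
    intro c' hc
    rcases p'.pair.mem_V.1 ((hc z').1 (p'.pair.mem_V.2 (by simp))) with e | e | e | e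
    · exact absurd (by simpa using e) es'.ne_one
    · exact h1 c' hc (comm_of_conj_eq e)
    · obtain ⟨c, h3⟩ := h1 _ (mul_mem (inv_mem h2) hc) (comm_of_conj_eq (by rw [conj_mul', e, inv_inv, r'.inv_s]))
      exact ⟨ρ * c, by simpa using mul_mem Γρ h3⟩
    · obtain ⟨c, h3⟩ := h1 _ (mul_mem h2 hc) (comm_of_conj_eq (by rw [conj_mul', e, r'.ρ_sz]))
      exact ⟨ρ⁻¹ * c, by simpa using mul_mem (inv_mem Γρ) h3⟩
  refine ⟨F, fun a ha b hb => hF _ _ (Or.inl (mul_mem (e1 a (mem_cent.1 ha)) (e1 b (mem_cent.1 hb)))),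
    fun a ha b hb => ?_, fun c hc => ?_, fun c' hc e => ?_, hF _ _ (Or.inl (M5 L.z_mem)),
    hF _ _ (Or.inl (M5 h.s_mem)), fun x' hx => ?_⟩
  · obtain ⟨x, hx⟩ := e2 a ha
    obtain ⟨y, hy⟩ := e2 b hb
    rw [hF _ _ (Or.inr hx), hF _ _ (Or.inr hy), hF (x * y) (a * b) (Or.inr (mul_mem hx hy))]
  · obtain ⟨c', h1⟩ := h.lift c hc
    rcases M7 c c' h1 with h2 | h2
    · exact ⟨c', L.snd_C h1, hF _ _ (Or.inl h2)⟩
    · exact ⟨c' * z', L.snd_C (mul_mem h1 L.one_z), hF _ _ (Or.inl (by simpa [es.zz'] using mul_mem h2 (M5 L.z_mem)))⟩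
  · have h1 := e1 c' hc
    rw [e] at h1
    refine (L.D_inj' (M6 h1)).resolve_right fun e1 => M2 ?_
    simpa [e1] using mul_mem (M5 L.z_mem) (inv_mem h1)
  · obtain ⟨x, h1⟩ := h.gr.ex' x' hx
    rw [hF _ _ (Or.inl (M5 h1))]
    exact h.gr.fst _ h1

end CfsgLib.E62
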