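import Mathlib
import Cfsg.Agent.Lib.BN.Steinberg

/-!
# Modules in characteristic two of a group with a (B,N)-pair are determined by the stabilizer of the vector fixed by `B`
-/

set_option autoImplicit false

namespace CfsgLib.E62

open CfsgLib.BN

/-- the (B,N)-pair of a parabolic subgroup -/
theorem exists_bn_parabolic {G : Type*} [Group G] (P : Cfsg.BNPair G) {J : Set G} (hJ : J ⊆ P.S) :
    ∃ P' : Cfsg.BNPair (P.parabolic J), P'.B = P.B.subgroupOf (P.parabolic J) := by
  have hcl : ∀ n ∈ Subgroup.closure J, ∃ h : n ∈ P.parabolic J,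
      (⟨n, h⟩ : P.parabolic J) ∈ Subgroup.closure {x : P.parabolic J | x.1 ∈ J} := by
    intro n hn
    induction hn using Subgroup.closure_induction with
    | mem x hx => exact ⟨mem_parabolic_of_mem hx, Subgroup.subset_closure hx⟩
    | one => exact ⟨one_mem _, one_mem _⟩
    | mul x y _ _ hx hy => exact ⟨mul_mem hx.1 hy.1, mul_mem hx.2 hy.2⟩
    | inv x _ hx => exact ⟨inv_mem hx.1, inv_mem hx.2⟩
  refine ⟨⟨P.B.subgroupOf _, P.N.subgroupOf _, {x | x.1 ∈ J}, ?_, ?_, ?_, ?_, ?_, ?_, ?_, ?_⟩, rfl⟩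
  · apply Subgroup.map_injective (P.parabolic J).subtype_injective
    rw [Subgroup.map_sup, Subgroup.subgroupOf_map_subtype, Subgroup.subgroupOf_map_subtype,
      ← MonoidHom.range_eq_map, Subgroup.range_subtype]
    refine le_antisymm (sup_le inf_le_right inf_le_right) (parabolic_le ?_ fun s hs => ?_)
    · exact le_sup_of_le_left (le_inf le_rfl (B_le_parabolic _))
    · exact Subgroup.mem_sup_right ⟨P.subset (hJ hs), mem_parabolic_of_mem hs⟩
  · exact fun n hn t ht => P.conj_mem n hn t ht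
  · exact fun s hs => P.subset (hJ hs)
  · exact fun s hs => P.sq_mem s (hJ hs)
  · exact fun s hs s' hs' h => Subtype.ext (P.inj s (hJ hs) s' (hJ hs') h)
  · refine le_antisymm (sup_le ((Subgroup.closure_le _).2 fun s hs => P.subset (hJ hs)) inf_le_right) ?_
    rintro ⟨n, hnJ⟩ hn
    have hn' : n ∈ P.N := hn
    have e := image_preimage_of_subset hJ
    obtain ⟨n', hn'N, hc, he⟩ := exists_rep_of_mem_par
      (mem_par_of_mem_parabolic (J := Subtype.val ⁻¹' J) (e.symm ▸ hnJ) (self_mem_cell P hn'))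
    rw [e] at hc
    obtain ⟨h1, h2⟩ := hcl n' hc
    have h3 : (⟨n', h1⟩ : P.parabolic J)⁻¹ * ⟨n, hnJ⟩ ∈ P.B.subgroupOf (P.parabolic J) ⊓ P.N.subgroupOf _ :=
      ⟨(cls_eq_iff P _ _).1 he, P.N.mul_mem (P.N.inv_mem hn'N) hn'⟩
    have := Subgroup.mul_mem_sup h2 h3
    rwa [mul_inv_cancel_left] at this
  · intro s hs n hn b hb
    rcases P.mul_mem_union s (hJ hs) n hn b hb with h | h
    · obtain ⟨x, hx, y, hy, e⟩ := DoubleCoset.mem_doubleCoset.1 h
      exact Or.inl (DoubleCoset.mem_doubleCoset.2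
        ⟨⟨x, B_le_parabolic _ hx⟩, hx, ⟨y, B_le_parabolic _ hy⟩, hy, Subtype.ext e⟩)
    · obtain ⟨x, hx, y, hy, e⟩ := DoubleCoset.mem_doubleCoset.1 h
      exact Or.inr (DoubleCoset.mem_doubleCoset.2
        ⟨⟨x, B_le_parabolic _ hx⟩, hx, ⟨y, B_le_parabolic _ hy⟩, hy, Subtype.ext e⟩)
  · intro s hs h
    refine P.conj_ne s (hJ hs) (Set.Subset.antisymm ?_ fun b hb => ?_)
    · rintro _ ⟨b, hb, rfl⟩
      have : s * ⟨b, B_le_parabolic _ hb⟩ * s ∈ (P.B.subgroupOf (P.parabolic J) : Set (P.parabolic J)) :=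
        h ▸ ⟨_, hb, rfl⟩
      exact this
    · have : (⟨b, B_le_parabolic _ hb⟩ : P.parabolic J) ∈ (fun b => s * b * s) ''
          (P.B.subgroupOf (P.parabolic J) : Set (P.parabolic J)) := h.symm ▸ hb
      obtain ⟨c, hc, e⟩ := this
      exact ⟨c, hc, congrArg Subtype.val e⟩

namespace HW

variable {M : Type*} [Group M] {P : Cfsg.BNPair M}

/-- the recursion satisfied by the matrix coefficient -/
structure Good (P : Cfsg.BNPair M) (St : M → Prop) (f : M → ZMod 2) : Prop where
  cst : ∀ w, ∀ x ∈ cell P w, ∀ y ∈ cell P w, f x = f y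
  pos : ∀ (s : P.S) x, St s → f (x * s) = f x
  neg : ∀ (s : P.S) w, (exch P).len w < (exch P).len (w * sW P s) → ¬ St s → ∀ x ∈ cell P w, f x = 0

theorem Good.ext [Finite M] {St : M → Prop} {f f' : M → ZMod 2} (h : Good P St f) (h' : Good P St f')
    (h0 : ∀ w, (∀ s, ¬ (exch P).len w < (exch P).len (w * sW P s)) → ∀ x ∈ cell P w, f x = f' x) : f = f' := by
  have wf : WellFounded fun a b : W P => (exch P).len b < (exch P).len a := by
    haveI : IsTrans (W P) fun a b : W P => (exch P).len b < (exch P).len a := ⟨fun _ _ _ h1 h2 => h2.trans h1⟩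
    haveI : Std.Irrefl fun a b : W P => (exch P).len b < (exch P).len a := ⟨fun _ => lt_irrefl _⟩
    exact Finite.wellFounded_of_trans_of_irrefl _
  have : ∀ w, ∀ x ∈ cell P w, f x = f' x := by
    intro w
    induction w using wf.induction with
    | _ w ih =>
      by_cases hw : ∃ s, (exch P).len w < (exch P).len (w * sW P s)
      · obtain ⟨s, hs⟩ := hw
        intro x hx
        by_cases hS : St s
        · rw [← h.pos s x hS, ← h'.pos s x hS]
          exact ih _ hs _ (cell_mul_s_of_lt hs hx (S_mem_cell s))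
        · rw [h.neg s w hs hS x hx, h'.neg s w hs hS x hx]
      · exact h0 w (not_exists.1 hw)
  funext x
  obtain ⟨w, hw⟩ := exists_mem_cell P x
  exact this w x hw

theorem good_zero (St : M → Prop) : Good P St 0 := ⟨fun _ _ _ _ _ => rfl, fun _ _ _ => rfl, fun _ _ _ _ _ _ => rfl⟩

theorem Good.eq_one [Finite M] {St : M → Prop} {f : M → ZMod 2} (h : Good P St f) (hf : f ≠ 0) {w : W P}
    (hw : ∀ s, ¬ (exch P).len w < (exch P).len (w * sW P s)) {x : M} (hx : x ∈ cell P w) : f x = 1 := by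
  by_contra h1
  have h0 : f x = 0 := by
    generalize f x = a at h1
    revert a; decide
  refine hf (h.ext (good_zero St) fun w' hw' y hy => ?_)
  have : w'⁻¹ = w⁻¹ := ExchSys.longest_unique (E := exch P)
    (fun s hs => hw' s (by simpa only [inv_inv, exch_s] using ExchSys.P_iff_inv.1 hs))
    (fun s hs => hw s (by simpa only [inv_inv, exch_s] using ExchSys.P_iff_inv.1 hs))
  rw [inv_inj] at this
  subst this
  rw [h.cst _ y hy x hx, h0]; rfl

theorem good [Finite M] (hodd : Odd P.B.index) {V : Type*} [AddCommGroup V] [Module (ZMod 2) V]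
    (ρ : M →* (V ≃ₗ[ZMod 2] V)) (β : LinearMap.BilinForm (ZMod 2) V) (hβ : ∀ g v w, β (ρ g v) (ρ g w) = β v w)
    {m : V} (hB : ∀ b ∈ P.B, ρ b m = m) (fix : ∀ v, (∀ b ∈ P.B, ρ b v = v) → v = 0 ∨ v = m) :
    Good P (fun g => ρ g m = m) fun g => β m (ρ g m) := by
  have cst : ∀ w, ∀ x ∈ cell P w, ∀ y ∈ cell P w, β m (ρ x m) = β m (ρ y m) := by
    intro w x hx y hy
    obtain ⟨b, hb, b', hb', rfl⟩ := exists_of_mem_cell hx hy
    rw [map_mul, map_mul, LinearEquiv.mul_apply, LinearEquiv.mul_apply, hB b' hb', ← hβ b m, hB b hb]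
  refine ⟨cst, fun s x hs => by rw [map_mul, LinearEquiv.mul_apply, hs], fun s w hw hs x hx => ?_⟩
  classical
  let K := P.parabolic {(s : M)}
  let B' := P.B.subgroupOf K
  haveI := Fintype.ofFinite (K ⧸ B')
  let v : K ⧸ B' → V := fun c => Quotient.liftOn' c (fun k => ρ k m) fun a b hab => by
    have : (a : M)⁻¹ * b ∈ P.B := (QuotientGroup.leftRel_apply (s := B')).1 hab
    have e : (b : M) = a * ((a : M)⁻¹ * b) := by group
    rw [e, map_mul, LinearEquiv.mul_apply, hB _ this]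
  have hv : ∀ k : K, v k = ρ k m := fun k => rfl
  have inv : ∀ k : K, ρ k (∑ c, v c) = ∑ c, v c := by
    intro k
    rw [map_sum]
    refine Fintype.sum_equiv (MulAction.toPerm k) _ _ fun c => ?_
    induction c using QuotientGroup.induction_on with
    | H a =>
      rw [hv, MulAction.toPerm_apply, MulAction.Quotient.smul_mk, hv, smul_eq_mul, Subgroup.coe_mul, map_mul,
        LinearEquiv.mul_apply]
  have hS : ∑ c, v c = 0 := by
    refine (fix _ fun b hb => inv ⟨b, B_le_parabolic _ hb⟩).resolve_right fun e => hs ?_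
    have := inv ⟨s, mem_parabolic_of_mem rfl⟩
    rwa [e] at this
  have h1 : ∑ c, β m (ρ x (v c)) = 0 := by rw [← map_sum, ← map_sum, hS, map_zero, map_zero]
  have h2 : ∀ c ∈ Finset.univ.erase ((1 : K) : K ⧸ B'), β m (ρ x (v c)) = β m (ρ (x * s) m) := by
    intro c hc
    induction c using QuotientGroup.induction_on with
    | H a =>
      rw [hv, ← LinearEquiv.mul_apply, ← map_mul]
      refine cst _ _ (cell_mul_s_of_lt hw hx ?_) _ (cell_mul_s_of_lt hw hx (S_mem_cell s))
      refine (mem_parabolic_singleton.1 a.2).resolve_left fun ha => (Finset.mem_erase.1 hc).1 ?_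
      rw [QuotientGroup.eq, mul_one]
      exact B'.inv_mem ha
  rw [← Finset.add_sum_erase _ _ (Finset.mem_univ ((1 : K) : K ⧸ B')), Finset.sum_congr rfl h2, Finset.sum_const,
    Finset.card_erase_of_mem (Finset.mem_univ _), Finset.card_univ, hv] at h1
  have h3 : Odd (Fintype.card (K ⧸ B')) := by
    rw [← Nat.card_eq_fintype_card]
    exact Odd.of_dvd_nat hodd (Subgroup.relIndex_dvd_index_of_le (B_le_parabolic _))
  obtain ⟨k, hk⟩ := h3
  rw [hk, Nat.add_sub_cancel, nsmul_eq_mul, Nat.cast_mul, show ((2 : ℕ) : ZMod 2) = 0 from rfl, zero_mul, zero_mul,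
    add_zero] at h1
  simpa using h1

end HW

open HW in
theorem exists_equiv_of_bn {M : Type*} [Group M] [Finite M] (P : Cfsg.BNPair M) (hodd : Odd P.B.index)
    {W W' : Type*} [AddCommGroup W] [Module (ZMod 2) W] [AddCommGroup W'] [Module (ZMod 2) W']
    (ρ : M →* (W ≃ₗ[ZMod 2] W)) (ρ' : M →* (W' ≃ₗ[ZMod 2] W'))
    (β : LinearMap.BilinForm (ZMod 2) W) (β' : LinearMap.BilinForm (ZMod 2) W')
    (hβ : ∀ g v w, β (ρ g v) (ρ g w) = β v w) (hβ' : ∀ g v w, β' (ρ' g v) (ρ' g w) = β' v w)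
    (nd : ∀ v, (∀ w, β v w = 0) → v = 0) (nd' : ∀ v, (∀ w, β' v w = 0) → v = 0)
    {m : W} {m' : W'} (hm : m ≠ 0) (hm' : m' ≠ 0) (hB : ∀ b ∈ P.B, ρ b m = m) (hst : ∀ g, ρ g m = m ↔ ρ' g m' = m')
    (fix : ∀ v, (∀ b ∈ P.B, ρ b v = v) → v = 0 ∨ v = m) (fix' : ∀ v, (∀ b ∈ P.B, ρ' b v = v) → v = 0 ∨ v = m')
    (sp : Submodule.span (ZMod 2) (Set.range fun g => ρ g m) = ⊤)
    (sp' : Submodule.span (ZMod 2) (Set.range fun g => ρ' g m') = ⊤) :
    ∃ e : W ≃ₗ[ZMod 2] W', e m = m' ∧ (∀ g v, e (ρ g v) = ρ' g (e v)) ∧ ∀ v w, β' (e v) (e w) = β v w := by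
  have g1 := good hodd ρ β hβ hB fix
  have g2 := good hodd ρ' β' hβ' (fun b hb => (hst b).1 (hB b hb)) fix'
  rw [← funext fun g => propext (hst g)] at g2
  have n1 : (fun g => β m (ρ g m)) ≠ 0 := fun h => hm (nd m fun w => by
    have : β m = 0 := LinearMap.ext_on_range sp fun g => congrFun h g
    rw [this]; rfl)
  have n2 : (fun g => β' m' (ρ' g m')) ≠ 0 := fun h => hm' (nd' m' fun w => by
    have : β' m' = 0 := LinearMap.ext_on_range sp' fun g => congrFun h g
    rw [this]; rfl)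
  have eq := g1.ext g2 fun w hw x hx => (g1.eq_one n1 hw hx).trans (g2.eq_one n2 hw hx).symm
  have eq' : ∀ g h, β (ρ g m) (ρ h m) = β' (ρ' g m') (ρ' h m') := by
    intro g h
    have e : h = g * (g⁻¹ * h) := by group
    rw [e, map_mul ρ g, map_mul ρ' g, LinearEquiv.mul_apply, LinearEquiv.mul_apply, hβ, hβ']
    exact congrFun eq _
  let L := Finsupp.linearCombination (ZMod 2) fun g => ρ g m
  let L' := Finsupp.linearCombination (ZMod 2) fun g => ρ' g m'
  have s1 : Function.Surjective L := by rw [← LinearMap.range_eq_top, Finsupp.range_linearCombination, sp]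
  have s2 : Function.Surjective L' := by rw [← LinearMap.range_eq_top, Finsupp.range_linearCombination, sp']
  have eq2 : ∀ c d, β (L c) (L d) = β' (L' c) (L' d) := by
    intro c d
    have : β.compl₁₂ L L = β'.compl₁₂ L' L' := by
      ext g h
      simpa [L, L'] using eq' g h
    exact LinearMap.congr_fun₂ this c d
  have ker : LinearMap.ker L = LinearMap.ker L' := by
    ext c
    rw [LinearMap.mem_ker, LinearMap.mem_ker]
    constructor
    · intro h
      refine nd' _ fun w => ?_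
      obtain ⟨d, rfl⟩ := s2 w
      rw [← eq2, h, map_zero, LinearMap.zero_apply]
    · intro h
      refine nd _ fun w => ?_
      obtain ⟨d, rfl⟩ := s1 w
      rw [eq2, h, map_zero, LinearMap.zero_apply]
  let e : W ≃ₗ[ZMod 2] W' := (L.quotKerEquivOfSurjective s1).symm ≪≫ₗ Submodule.quotEquivOfEq _ _ ker ≪≫ₗ
    L'.quotKerEquivOfSurjective s2
  have he : ∀ c, e (L c) = L' c := by
    intro c
    have : (L.quotKerEquivOfSurjective s1).symm (L c) = Submodule.Quotient.mk c :=
      (LinearEquiv.symm_apply_eq _).2 rfl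
    simp only [e, LinearEquiv.trans_apply, this]
    rfl
  have he' : ∀ g, e (ρ g m) = ρ' g m' := fun g => by simpa [L, L'] using he (Finsupp.single g 1)
  refine ⟨e, by simpa using he' 1, fun g v => ?_, fun v w => ?_⟩
  · have : e.toLinearMap ∘ₗ (ρ g).toLinearMap = (ρ' g).toLinearMap ∘ₗ e.toLinearMap :=
      LinearMap.ext_on_range sp fun h => by
        simp only [LinearMap.comp_apply, LinearEquiv.coe_coe]
        rw [he', ← LinearEquiv.mul_apply, ← LinearEquiv.mul_apply, ← map_mul, ← map_mul, he']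
    exact LinearMap.congr_fun this v
  · obtain ⟨c, rfl⟩ := s1 v
    obtain ⟨d, rfl⟩ := s1 w
    rw [he, he, eq2]

end CfsgLib.E62
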