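import Mathlib
import Cfsg.Agent.Lib.E62.RDefs
import Cfsg.Agent.Lib.Fgs.SymSolv
import Cfsg.Agent.Lib.Fus2.Base
import Cfsg.Agent.Lib.Tech.SylowIn
import Cfsg.Agent.Lib.Core.Basic

/-!
# The position of a conjugate of `z` in `Q`
-/

set_option autoImplicit false
set_option linter.unusedSectionVars false

namespace CfsgLib.E62

open Subgroup Module CfsgLib.LargeExtra CfsgLib.ExtraTwo CfsgLib.Tech
open scoped commutatorElement

theorem smul_eq_of_perfect {H α : Type*} [Group H] [MulAction H α] (hp : _root_.commutator H = ⊤) {x a b c d : α}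
    (h : MulAction.orbit H x ⊆ {a, b, c, d}) (g : H) : g • x = x := by
  have hf : ({a, b, c, d} : Set α).Finite := Set.toFinite _
  have : Finite (MulAction.orbit H x) := hf.subset h
  have := Fgs.isSolvable_perm_of_card_le_four (MulAction.orbit H x) ((Set.ncard_le_ncard h hf).trans
    ((Set.ncard_insert_le _ _).trans (Nat.succ_le_succ ((Set.ncard_insert_le _ _).trans (Nat.succ_le_succ
      ((Set.ncard_insert_le _ _).trans (by simp)))))))
  have e : (MulAction.toPermHom H (MulAction.orbit H x)).range = ⊥ := by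
    by_contra hne
    refine (Group.IsSolvable.commutator_lt_of_ne_bot hne).ne ?_
    rw [MonoidHom.range_eq_map, ← map_commutator, ← _root_.commutator_def, hp]
  have e2 : MulAction.toPermHom H (MulAction.orbit H x) g = 1 := mem_bot.1 (e ▸ MonoidHom.mem_range.2 ⟨g, rfl⟩)
  exact congrArg Subtype.val (Equiv.congr_fun e2 ⟨x, MulAction.mem_orbit_self x⟩)

theorem finrank_comm_le {K W : Type*} [Field K] [AddCommGroup W] [Module K W] [Module.Finite K W] (a l : W ≃ₗ[K] W) :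
    finrank K (LinearMap.range ((a * l * a⁻¹ * l⁻¹).toLinearMap - 1)) ≤
      2 * finrank K (LinearMap.range (a.toLinearMap - 1)) := by
  have : LinearMap.range ((a * l * a⁻¹ * l⁻¹).toLinearMap - 1) ≤ LinearMap.range (a.toLinearMap - 1) ⊔
      (LinearMap.range (a.toLinearMap - 1)).map l.toLinearMap := by
    rintro _ ⟨v, rfl⟩
    refine Submodule.mem_sup.2 ⟨_, ⟨l (a⁻¹ (l⁻¹ v)), rfl⟩, _, ⟨_, ⟨-a⁻¹ (l⁻¹ v), rfl⟩, rfl⟩, ?_⟩
    simp
    abel
  refine (Submodule.finrank_mono this).trans ((Submodule.finrank_add_le_finrank_add_finrank _ _).trans ?_)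
  have := Submodule.finrank_map_le l.toLinearMap (LinearMap.range (a.toLinearMap - 1))
  omega

variable {G L X : Type*} [Group G] [Finite G] [Group L] [Group X] {T A P : Subgroup L} {Q Qs : Subgroup G} {z s : G}

theorem U6Loc.conj (h : U6Loc T A P) (l : L) : U6Loc (cj l T) (cj l A) (cj l P) where
  two := isPGroup_cj l h.two
  odd := by rw [← relIndex_top_right, ← cj_top l, relIndex_cj, relIndex_top_right]; exact h.odd
  le_T := cj_mono l h.le_T
  le_P := cj_mono l h.le_P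
  norm := cj_normalizer l A ▸ cj_mono l h.norm
  card := (card_cj l A).trans h.card
  ab K h1 h2 h3 h4 := by
    rw [← cj_cj_inv l K] at h1 h3 h4 ⊢
    rw [← cj_normalizer, cj_le_cj_iff] at h3
    exact cj_mono l (h.ab _ ((cj_le_cj_iff l).1 h1) (fun x hx y hy => mul_left_cancel (a := l) (by
      simpa [← mul_assoc] using h2 _ (mem_cj.1 hx) _ (mem_cj.1 hy))) h3 (card_cj l _ ▸ h4))
  irr K h1 h2 := by
    rw [← cj_cj_inv l K] at h1 h2 ⊢
    rw [← cj_normalizer, cj_le_cj_iff] at h2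
    exact (h.irr _ ((cj_le_cj_iff l).1 h1) h2).imp (fun e => by rw [e, cj_bot]) fun e => by rw [e]
  perf := by rw [← cj_commutator, h.perf]

theorem U6Loc.not_comm (h : U6Loc T A P) : ¬ ∀ x ∈ P, ∀ y ∈ P, x * y = y * x := fun H => by
  have e : P = ⊥ := by
    rw [← h.perf, commutator_eq_bot_iff_le_centralizer]
    exact fun x hx y hy => H y hy x hx
  have := h.card
  rw [le_bot_iff.1 ((h.le_T.trans h.le_P).trans e.le), card_bot] at this
  omega

theorem U6Loc.eq_one (hM : U6Mod L) (h : U6Loc T A P) {a : L} (ha : ∀ l, Commute a l) : a = 1 := by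
  have := hM.simple
  rcases this.eq_bot_or_eq_top_of_normal (center L) inferInstance with e | e
  · exact mem_bot.1 (e ▸ mem_center_iff.2 fun l => (ha l).eq.symm)
  · exact absurd (fun x _ y _ => mem_center_iff.1 (e ▸ mem_top y) x) h.not_comm

theorem card_le_two_mul_comap [Finite X] {ι : L →* X} (hι : Function.Injective ι) (hi : ι.range.index ≤ 2)
    (B : Subgroup X) : Nat.card (B.comap ι) ≤ Nat.card B ∧ Nat.card B ≤ 2 * Nat.card (B.comap ι) := by
  have e : Nat.card (B.comap ι) = Nat.card (ι.range ⊓ B : Subgroup X) := by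
    rw [← map_comap_eq, card_map_of_injective hι]
  have h1 := card_mul_relIndex' (inf_le_right : ι.range ⊓ B ≤ B)
  rw [inf_relIndex_right] at h1
  have h2 := relIndex_le_of_le_right (H := ι.range) (le_top : B ≤ ⊤) (by simpa using index_ne_zero_of_finite)
  rw [relIndex_top_right] at h2
  rw [e]
  exact ⟨card_le_of_le inf_le_right, h1 ▸ (mul_comm 2 _ ▸ Nat.mul_le_mul_left _ (h2.trans hi))⟩

/-- `C(z)/Q` contains `L` with index at most two -/
structure Ov (ι : L →* X) : Prop where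
  inj : Function.Injective ι
  idx : ι.range.index ≤ 2
  cen : ∀ a : X, (∀ l, Commute a (ι l)) → a * a = 1 → a = 1

theorem ov_id (hM : U6Mod L) (hL : U6Loc T A P) : Ov (MonoidHom.id L) :=
  ⟨Function.injective_id, by rw [MonoidHom.range_eq_top.2 Function.surjective_id, index_top]; omega, fun _ ha _ => hL.eq_one hM ha⟩

theorem Ov.two [Finite X] {ι : L →* X} (o : Ov ι) {a : X} (ha : a ∉ ι.range) : ι.range.index = 2 := by
  have := o.idx
  have := index_ne_zero_of_finite (H := ι.range)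
  have : ι.range.index ≠ 1 := fun e => ha (index_eq_one.1 e ▸ mem_top a)
  omega

theorem Ov.normal [Finite X] {ι : L →* X} (o : Ov ι) : ι.range.Normal := by
  by_cases H : ∃ a, a ∉ ι.range
  · exact normal_of_index_eq_two (o.two H.choose_spec)
  · exact ⟨fun _ _ _ => not_not.1 fun h => H ⟨_, h⟩⟩

theorem small (hM : U6Mod L) [Finite X] {ι : L →* X} (o : Ov ι) {W : Type} [AddCommGroup W] [Module (ZMod 2) W]
    [Finite W] (ρ : X →* (W ≃ₗ[ZMod 2] W)) (hρ : Function.Injective ρ) {a : X}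
    (ha : finrank (ZMod 2) (LinearMap.range ((ρ a).toLinearMap - 1)) ≤ 2) (l : L) : Commute a (ι l) := by
  have hn := o.normal
  let e := MonoidHom.ofInjective o.inj
  let α : MulAut L := e.trans ((MulAut.conjNormal a).trans e.symm)
  have hα : ∀ l, ι (α l) = a * ι l * a⁻¹ := fun l => MonoidHom.apply_ofInjective_symm o.inj _
  by_cases h1 : α = 1
  · exact mul_inv_eq_iff_eq_mul.1 (by rw [← hα, h1]; rfl)
  obtain ⟨l, hl⟩ := hM.big α h1
  have := hM.simple
  have h2 := hl (ρ.comp ι) fun e => by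
    obtain ⟨x, hx⟩ := exists_ne (1 : L)
    exact hx (o.inj (hρ (by simpa using DFunLike.congr_fun e x)))
  rw [MonoidHom.comp_apply, map_mul, hα, map_inv, map_mul, map_mul, map_mul, map_inv, map_inv] at h2
  have := finrank_comm_le (ρ a) (ρ (ι l))
  omega

omit [Finite G] in
theorem Pair.exists_swap (p : Pair Q Qs z s) : ∃ n, n * z * n⁻¹ = s ∧ n * s * n⁻¹ = z := by
  obtain ⟨a, -, a1, a2⟩ := p.exists_a
  obtain ⟨b, -, b1, b2⟩ := p.symm.exists_a
  have h1 : ∀ x y, a * (x * y) * a⁻¹ = a * x * a⁻¹ * (a * y * a⁻¹) := fun x y => by group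
  have h2 : b * (s * z) * b⁻¹ = z := by
    rw [← conj_mul, b1, b2, ← p.comm, ← mul_assoc, p.h1.es.mul_self, one_mul]
  refine ⟨a * b * a, ?_, ?_⟩
  · calc _ = a * (b * (a * z * a⁻¹) * b⁻¹) * a⁻¹ := by group
      _ = s := by rw [a1, b2, h1, a1, a2, p.comm, p.h0.es.zz]
  · calc _ = a * (b * (a * s * a⁻¹) * b⁻¹) * a⁻¹ := by group
      _ = z := by rw [a2, h2, a1]

omit [Finite G] in
theorem Pair.E_comm (p : Pair Q Qs z s) {x y : G} (hx : x ∈ Q ⊓ Qs) (hy : y ∈ Q ⊓ Qs) : x * y = y * x := by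
  by_contra hne
  exact p.ne (mul_right_cancel ((p.h1.es.comm_of_ne hx.2 hy.2 hne).symm.trans (p.h0.es.comm_of_ne hx.1 hy.1 hne)))

theorem Pair.card_eq (p : Pair Q Qs z s) : Nat.card Qs = Nat.card Q := by
  obtain ⟨n, h1, h2⟩ := Pair.exists_swap p
  exact le_antisymm (card_cj n Qs ▸ card_le_of_le (cj_le_iff.2 (p.conj' n h2)))
    (card_cj n Q ▸ card_le_of_le (cj_le_iff.2 (p.conj n h1)))

omit [Finite G] in
theorem Pair.norm_E (p : Pair Q Qs z s) {g : G} (hg : g ∈ B0 z s) : g ∈ normalizer ((Q ⊓ Qs : Subgroup G) : Set G) := by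
  rw [mem_normalizer_iff_cj, cj_inf, mem_normalizer_iff_cj.1 (p.h0.mem_normalizer (mem_cent.1 hg.1)),
    mem_normalizer_iff_cj.1 (p.h1.mem_normalizer (mem_cent.1 hg.2))]

omit [Finite G] in
theorem Pair.norm_cent (p : Pair Q Qs z s) {K : Subgroup G} {g : G} (hg : g ∈ B0 z s) (hK : g ∈ normalizer (K : Set G)) :
    g ∈ normalizer ((Qs ⊓ centralizer (K : Set G) : Subgroup G) : Set G) := by
  rw [mem_normalizer_iff_cj, cj_inf, cj_centralizer, mem_normalizer_iff_cj.1 hK,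
    mem_normalizer_iff_cj.1 (p.h1.mem_normalizer (mem_cent.1 hg.2))]

omit [Finite G] in
theorem Pair.E_le (p : Pair Q Qs z s) {K : Subgroup G} (hK : K ≤ Q ⊓ Qs) : Q ⊓ Qs ≤ Qs ⊓ centralizer (K : Set G) :=
  fun _ hx => ⟨hx.2, fun _ hy => Pair.E_comm p (hK hy) hx⟩

namespace Six

variable {f : centralizer ({z} : Set G) →* X} (h : Six Q z f)
include h

theorem finite : Finite X := Finite.of_surjective f h.surj

theorem exists_rho : ∃ (n : ℕ) (q : QuadraticForm (ZMod 2) (Fin n → ZMod 2)) (π : G → Fin n → ZMod 2)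
    (ρ : X →* ((Fin n → ZMod 2) ≃ₗ[ZMod 2] (Fin n → ZMod 2))), Coord Q z q π ∧ Function.Injective ρ ∧
    ∀ g, ∀ x ∈ Q, ρ (f g) (π x) = π (g * x * (g : G)⁻¹) := by
  obtain ⟨n, q, π, c⟩ := h.pre.es.exists_coord
  obtain ⟨ρ, h1, -, h2⟩ := h.pre.exists_act c
  refine ⟨n, q, π, f.liftOfSurjective h.surj ⟨ρ, fun g hg => (h2 g).2 ((h.ker g).1 hg)⟩, c,
    (injective_iff_map_eq_one _).2 fun a ha => ?_, fun g x hx => by simpa using h1 g x hx⟩
  obtain ⟨g, rfl⟩ := h.surj a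
  exact (h.ker g).2 ((h2 g).1 (by simpa using ha))

theorem zr (hM : U6Mod L) {ι : L →* X} (o : Ov ι) (p : Pair Q Qs z s) {x : G} (hx : x ∈ Q) (hs : x * s = s * x)
    (hu : ∀ u ∈ Qs, u * z = z * u → u * x * u⁻¹ * x⁻¹ ∈ closure ({z, s} : Set G)) : x ∈ Qs := by
  classical
  have := h.finite
  obtain ⟨k, q, π, ρ, c, hρ, act⟩ := h.exists_rho
  obtain ⟨n, n1, n2⟩ := Pair.exists_swap p
  obtain ⟨a, ha, -, a2⟩ := p.exists_a
  have n1' : n⁻¹ * z * n⁻¹⁻¹ = s := by rw [← n2]; group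
  have hy : n * x * n⁻¹ * z = z * (n * x * n⁻¹) := by rw [← n2, conj_mul, conj_mul, hs]
  let y : centralizer ({z} : Set G) := ⟨_, mem_cent.2 hy⟩
  let S := Submodule.span (ZMod 2) {π s, ((ρ (f y)).toLinearMap - 1) (π a)}
  have key : ∀ w ∈ Q, w * s = s * w → π w ∈ S.comap ((ρ (f y)).toLinearMap - 1) := by
    intro w hw hws
    have h1 := p.mem_V.1 (hu _ (p.conj _ n1' w hw) (by
      rw [← n1] at hws; simpa [mul_assoc] using congrArg (fun g => n⁻¹ * g * n) hws))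
    have e : n * x * n⁻¹ * w * (n * x * n⁻¹)⁻¹ * w⁻¹ =
      n * (n⁻¹ * w * n⁻¹⁻¹ * x * (n⁻¹ * w * n⁻¹⁻¹)⁻¹ * x⁻¹)⁻¹ * n⁻¹ := by group
    have e2 : ((ρ (f y)).toLinearMap - 1) (π w) = π (n * x * n⁻¹ * w * (n * x * n⁻¹)⁻¹ * w⁻¹) := by
      rw [c.map_mul _ (p.h0.norm _ hy w hw) _ (Q.inv_mem hw), c.map_inv hw, ← sub_zmod2]
      exact congrArg (· - π w) (act y w hw)
    have hs' : π s ∈ S := Submodule.subset_span (by simp)
    rw [Submodule.mem_comap, e2, e]
    rcases h1 with h1 | h1 | h1 | h1 <;> rw [h1]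
    · simp [c.map_one]
    · rwa [p.h0.es.inv_eq, n1]
    · simp [p.h1.es.inv_eq, n2, c.map_z]
    · rwa [mul_inv_rev, p.h0.es.inv_eq, p.h1.es.inv_eq, ← conj_mul, n1, n2, c.map_mul_z p.tQ]
  have hr : LinearMap.range ((ρ (f y)).toLinearMap - 1) ≤ S := by
    rintro _ ⟨v, rfl⟩
    obtain ⟨w, hw, rfl⟩ := c.surj v
    by_cases hws : w * s = s * w
    · exact key w hw hws
    have := Submodule.add_mem _ (key _ (Q.mul_mem hw ha) (p.h0.es.mul_comm_of_not_comm p.tQ hw ha hws fun e => by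
      rw [e, mul_inv_cancel_right, left_eq_mul] at a2; exact p.h0.es.ne_one a2))
      (Submodule.subset_span (by simp) : π a ∈ S.comap ((ρ (f y)).toLinearMap - 1))
    rwa [c.map_mul _ hw _ ha, add_assoc, add_self_zmod2, add_zero] at this
  have h3 := (h.ker y).1 (o.cen _ (small hM o ρ hρ ((Submodule.finrank_mono hr).trans
    ((finrank_span_le_card _).trans (by simpa using Finset.card_le_two))))
    (p.map_mul_self f h.ker ⟨y, p.conj n n1 x hx, rfl⟩))
  simpa [y, mul_assoc] using p.conj _ n1' _ h3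

theorem fix (hM : U6Mod L) {ι : L →* X} (o : Ov ι) (p : Pair Q Qs z s) {x : G} (hx : x ∈ Q)
    (hu : ∀ u ∈ Qs, u * z = z * u → u * x * u⁻¹ = x ∨ u * x * u⁻¹ = x * z) : x ∈ closure ({z, s} : Set G) := by
  have hs : x * s = s * x := by
    obtain ⟨u, hu1, w, hw1, hu2, hw2, hne⟩ := exists_not_comm_cent p.h1.es (by
      rw [Pair.card_eq p, h.card]; norm_num) p.zQ1
    have e := (p.h1.es.commutator hu1 hw1).resolve_left fun e => hne (commutatorElement_eq_one_iff_mul_comm.1 e)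
    have key : ∀ u ∈ Qs, u * z = z * u → ∃ v, (∀ g, g * z = z * g → Commute v g) ∧ v * z = z * v ∧
        x⁻¹ * u * x = v * u := fun u h1 h2 => by
      rcases hu u h1 h2 with e | e
      · exact ⟨1, fun _ _ => Commute.one_left _, by simp, by rw [mul_assoc, comm_of_conj_eq e]; simp⟩
      · exact ⟨z, fun _ hg => hg.symm, rfl, by rw [mul_assoc, mul_inv_eq_iff_eq_mul.1 e]; group⟩
    obtain ⟨v, v1, v2, v3⟩ := key u hu1 hu2
    obtain ⟨v', v1', v2', v3'⟩ := key w hw1 hw2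
    have : x⁻¹ * s * x = s := by
      calc _ = x⁻¹ * u * x * (x⁻¹ * w * x) * (x⁻¹ * u * x)⁻¹ * (x⁻¹ * w * x)⁻¹ := by rw [← e]; group
        _ = v * (u * (v' * w) * u⁻¹) * v⁻¹ * (v' * w)⁻¹ := by rw [v3, v3']; group
        _ = v' * s * v'⁻¹ := by
          rw [(((v1 u hu2).mul_right ((v1 v' v2').mul_right (v1 w hw2))).mul_right (v1 u hu2).inv_right).eq,
            mul_inv_cancel_right, ← mul_assoc, ← (v1' u hu2).eq, ← e]; group
        _ = s := by rw [(v1' s p.comm).eq, mul_inv_cancel_right]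
    rw [mul_assoc, inv_mul_eq_iff_eq_mul] at this
    exact this.symm
  have hE := h.zr hM o p hx hs fun u h1 h2 => p.mem_V.2 (by
    rcases hu u h1 h2 with e | e <;> rw [e]
    · simp
    · rw [p.h0.es.comm_z x hx]; simp)
  rw [Pair.V_comm, p.symm.mem_V]
  refine double_cent p.h1.es p.zQ1 hE fun u h1 h2 => ?_
  rcases hu u h1 h2 with e | e
  · exact comm_of_conj_eq e
  · by_contra hne
    exact p.ne (mul_left_cancel ((p.h1.es.conj_of_ne hE h1 hne).symm.trans e))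

theorem lift (p : Pair Q Qs z s) (g : centralizer ({z} : Set G))
    (hg : (g : G) * s * (g : G)⁻¹ = s ∨ (g : G) * s * (g : G)⁻¹ = s * z) :
    ∃ b : centralizer ({z} : Set G), (b : G) * s = s * b ∧ f b = f g := by
  obtain ⟨a, ha, -, h2⟩ := p.exists_conj_mem (mem_cent.1 g.2) hg
  exact ⟨⟨a, h.pre.le_cent ha⟩ * g, h2, by rw [map_mul, (h.ker _).2 ha, one_mul]⟩

theorem card_img {K : Subgroup G} (h1 : Q ⊓ Qs ≤ K) (h2 : K ≤ Qs ⊓ centralizer {z}) :
    Nat.card ((K.subgroupOf _).map f) * Nat.card (Q ⊓ Qs : Subgroup G) = Nat.card K := by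
  have e : K.subgroupOf _ ⊓ f.ker = (Q ⊓ Qs).subgroupOf _ := Subgroup.ext fun g =>
    ⟨fun hg => ⟨(h.ker g).1 hg.2, (h2 hg.1).1⟩, fun hg => ⟨h1 hg, (h.ker g).2 hg.1⟩⟩
  rw [← Nat.card_congr (subgroupOfEquivOfLe (h2.trans inf_le_right)).toEquiv,
    ← Nat.card_congr (subgroupOfEquivOfLe (h1.trans (h2.trans inf_le_right))).toEquiv, ← e]
  exact Core.card_map_mul_card_inf_ker _ _

theorem core (hM : U6Mod L) (hL : U6Loc T A P) {ι : L →* X} (o : Ov ι) (p : Pair Q Qs z s) :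
    ∃ l : L, (Qs.subgroupOf _).map f = (cj l A).map ι ∧
      ∀ a ∈ cj l P, ∃ b : centralizer ({z} : Set G), (b : G) * s = s * b ∧ f b = ι a := by
  have := h.finite
  have := Finite.of_injective ι o.inj
  obtain ⟨k, q, π, ρ, c, hρ, act⟩ := h.exists_rho
  have cs := (Pair.card_eq p).trans h.card
  have e1 := p.card_E_sq_le
  have e2 := p.card_E_mul_card_map f h.ker
  have sq := fun r => p.map_mul_self f h.ker (r := r)
  have hp := p.isPGroup_map f
  have nA := fun g hg r => p.map_conj_mem f h.ker g hg (r := r)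
  have vec : ∀ v, (∀ a ∈ (Qs.subgroupOf _).map f, ρ a v = v) → v = 0 ∨ v = π s := fun v hv => by
    obtain ⟨x, hx, rfl⟩ := c.surj v
    rcases p.mem_V.1 (h.fix hM o p hx fun u h1 h2 => (c.eq_iff hx (p.h0.norm u h2 x hx)).1
      ((hv _ ⟨⟨u, mem_cent.2 h2⟩, h1, rfl⟩).symm.trans (act _ x hx))) with e | e | e | e <;> rw [e]
    exacts [.inl c.map_one, .inl c.map_z, .inr rfl, .inr (c.map_mul_z p.tQ)]
  have sub : ∀ K ≤ Qs ⊓ centralizer {z}, (K.subgroupOf _).map f ≤ (Qs.subgroupOf _).map f := fun K hK =>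
    map_mono fun _ hg => (hK hg).1
  generalize hA : (Qs.subgroupOf _).map f = A₁ at *
  rw [h.card] at e1
  rw [cs] at e2
  have ab : ∀ x ∈ A₁, ∀ y ∈ A₁, x * y = y * x := fun x hx y hy => by
    rw [← inv_eq_of_mul_eq_one_right (sq _ (A₁.mul_mem hx hy)), mul_inv_rev, inv_eq_of_mul_eq_one_right (sq _ hx),
      inv_eq_of_mul_eq_one_right (sq _ hy)]
  have s0 : π s ≠ 0 := fun e => ((c.ker s p.tQ).1 e).elim p.t_ne_one p.ne
  have lift : ∀ a, ρ a (π s) = π s → ∃ b : centralizer ({z} : Set G), (b : G) * s = s * b ∧ f b = a := fun a ha => by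
    obtain ⟨g, rfl⟩ := h.surj a
    exact h.lift p g ((c.eq_iff p.tQ (p.h0.norm _ (mem_cent.1 g.2) s p.tQ)).1 (ha.symm.trans (act g s p.tQ)))
  have e3 : 2 ^ 9 ≤ Nat.card A₁ := by
    have : Nat.card (Q ⊓ Qs : Subgroup G) ≤ 2 ^ 11 := Nat.mul_self_le_mul_self_iff.1 (e1.trans (by norm_num))
    nlinarith
  obtain ⟨T₁, hT, hAT⟩ := exists_isSylowIn_ge hp le_top
  have fT : ∀ a ∈ T₁, ρ a (π s) = π s := by
    let _ := MulAction.compHom (Fin k → ZMod 2) (ρ.comp T₁.subtype)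
    obtain ⟨v, hv, h0⟩ := hT.pgroup.exists_fixed_point_of_prime_dvd_card_of_fixed_point (Fin k → ZMod 2)
      (by have := c.card_eq; rw [h.card] at this; omega) (a := 0) fun a => map_zero (ρ a)
    exact (vec v fun a ha => hv ⟨a, hAT ha⟩).resolve_left h0.symm ▸ fun a ha => hv ⟨a, ha⟩
  obtain ⟨l, -, hl⟩ := IsSylowIn.exists_cj_eq (p := 2) (T := T) (T' := T₁.comap ι) (H := ⊤)
    ⟨le_top, hL.two, by rw [relIndex_top_right]; exact hL.odd.not_two_dvd_nat⟩
    ⟨le_top, hT.pgroup.comap_of_injective _ o.inj, by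
      have := (hT.inf_of_le_normalizer (N := ι.range) (by rw [normalizer_eq_top_iff.2 o.normal])).not_dvd
      rwa [top_inf_eq, inf_relIndex_right, ← index_comap, ← relIndex_top_right] at this⟩
  refine ⟨l, ?_⟩
  replace hL := hL.conj l
  rw [hl] at hL
  generalize cj l A = A, cj l P = P at hL ⊢
  have nK : ∀ {K : Subgroup X} {a : L}, (∀ r ∈ K, ι a * r * (ι a)⁻¹ ∈ K) → a ∈ normalizer (K.comap ι : Set L) :=
    fun H => mem_normalizer_of_forall fun x hx => by simpa using H _ hx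
  obtain ⟨e4, e5⟩ := card_le_two_mul_comap o.inj o.idx A₁
  have hA0 : A₁.comap ι ≤ A := hL.ab _ (comap_mono hAT) (fun x hx y hy => o.inj (by simpa using ab _ hx _ hy))
    (fun a ha => nK (by
      obtain ⟨b, h1, h2⟩ := lift _ (fT _ ha)
      exact h2 ▸ nA b (.inl (conj_eq_of_comm h1)))) (by omega)
  have fP : ∀ a ∈ P, ρ (ι a) (π s) = π s := by
    let _ := MulAction.compHom (Fin k → ZMod 2) ((ρ.comp ι).comp P.subtype)
    have h0 : ∀ v ∈ MulAction.orbit P (π s), ∀ a ∈ A₁.comap ι, ρ (ι a) v = v := by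
      rintro _ ⟨g, rfl⟩ a ha
      have := congrArg (ρ (ι g)) (fT _ (hL.le_T (conj_mem_of_mem_normalizer' (hL.norm g.2) (hA0 ha))))
      rwa [← LinearEquiv.mul_apply, ← map_mul, ← map_mul, ← mul_assoc, mul_inv_cancel_left, map_mul, map_mul] at this
    obtain ⟨a, ha, h1⟩ : ∃ a ∈ A₁, ∀ v, (∀ b ∈ A₁.comap ι, ρ (ι b) v = v) → ρ a v = v → v = 0 ∨ v = π s := by
      by_cases H : A₁ ≤ ι.range
      · exact ⟨1, one_mem _, fun v hv _ => vec v fun a ha => by obtain ⟨b, rfl⟩ := H ha; exact hv b ha⟩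
      obtain ⟨a, ha, hn⟩ := SetLike.not_le_iff_exists.1 H
      refine ⟨a, ha, fun v hv h1 => vec v fun b hb => ?_⟩
      by_cases hb' : b ∈ ι.range
      · obtain ⟨b, rfl⟩ := hb'; exact hv b hb
      obtain ⟨d, hd⟩ := (mul_mem_iff_of_index_two (o.two hn)).2 (iff_of_false hb' hn)
      rw [← h1, ← LinearEquiv.mul_apply, ← map_mul, ← hd, h1]
      exact hv d (show ι d ∈ A₁ from hd ▸ A₁.mul_mem hb ha)
    have h2 : ∀ v ∈ MulAction.orbit P (π s), ρ a v + v = 0 ∨ ρ a v + v = π s := fun v hv => h1 _ (fun b hb => by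
      rw [map_add, h0 v hv b hb, ← LinearEquiv.mul_apply, ← map_mul, ab _ hb _ ha, map_mul, LinearEquiv.mul_apply,
        h0 v hv b hb]) (by rw [map_add, ← LinearEquiv.mul_apply, ← map_mul, sq a ha, map_one, add_comm]; rfl)
    obtain ⟨w, hw⟩ : ∃ w, MulAction.orbit P (π s) ⊆ {0, π s, w, w + π s} := by
      by_cases H : ∃ w ∈ MulAction.orbit P (π s), ρ a w + w = π s
      · obtain ⟨w, hw, e⟩ := H
        refine ⟨w, fun v hv => ?_⟩
        rcases h2 v hv with e' | e'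
        · rcases h1 v (h0 v hv) (add_eq_zero_zmod2.1 e') with e' | e' <;> simp [e']
        · rcases h1 (v + w) (fun b hb => by rw [map_add, h0 v hv b hb, h0 w hw b hb]) (by
            rw [map_add, ← add_eq_zero_zmod2, add_add_add_comm, e, e', add_self_zmod2]) with e' | e'
          · simp [add_eq_zero_zmod2.1 e']
          · simp [← e', add_comm v, ← add_assoc, add_self_zmod2]
      · refine ⟨0, fun v hv => ?_⟩
        rcases h1 v (h0 v hv) (add_eq_zero_zmod2.1 ((h2 v hv).resolve_right fun e => H ⟨v, hv, e⟩)) with e | e <;>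
          simp [e]
    exact fun a ha => smul_eq_of_perfect (map_injective P.subtype_injective (by
      rw [_root_.commutator_def, map_commutator, ← MonoidHom.range_eq_map, range_subtype, hL.perf])) hw (⟨a, ha⟩ : P)
  refine ⟨?_, fun a ha => lift _ (fP a ha)⟩
  have e6 : A₁.comap ι = A := (hL.irr _ hA0 fun a ha => nK (by
    obtain ⟨b, h1, h2⟩ := lift _ (fP _ ha)
    exact h2 ▸ nA b (.inl (conj_eq_of_comm h1)))).resolve_left fun e => by rw [e, card_bot] at e5; omega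
  rw [← e6]
  refine (eq_of_le_of_card_ge (map_comap_le _ _) ?_).symm
  rw [card_map_of_injective o.inj]
  by_contra hlt
  obtain ⟨j, hj⟩ := card_dvd_of_le (map_comap_le ι A₁)
  rw [card_map_of_injective o.inj] at hj
  rw [e6, hL.card] at e5 hj hlt
  have e7 : Nat.card (Q ⊓ Qs : Subgroup G) = 2 ^ 10 := by
    obtain rfl : j = 2 := by omega
    rw [hj] at e2
    omega
  have e8 := card_mul_card_centralizer p.h1.es (inf_le_right : Q ⊓ Qs ≤ Qs) ⟨p.tQ, p.h1.es.mem⟩
  have hK : Qs ⊓ centralizer ((Q ⊓ Qs : Subgroup G) : Set G) ≤ Qs ⊓ centralizer {z} :=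
    inf_le_inf_left _ (centralizer_le (Set.singleton_subset_iff.2 ⟨p.h0.es.mem, p.zQ1⟩))
  have e9 := h.card_img (Pair.E_le p le_rfl) hK
  obtain ⟨e10, e11⟩ := card_le_two_mul_comap o.inj o.idx
    (((Qs ⊓ centralizer ((Q ⊓ Qs : Subgroup G) : Set G)).subgroupOf _).map f)
  rw [e7] at e8 e9
  rcases hL.irr _ ((comap_mono (sub _ hK)).trans hA0) fun a ha => nK (by
    obtain ⟨b, h1, h2⟩ := lift _ (fP _ ha)
    rintro _ ⟨u, hu, rfl⟩
    exact ⟨b * u * b⁻¹, conj_mem_of_mem_normalizer (x := (u : G)) (Pair.norm_cent p ⟨b.2, mem_cent.2 h1⟩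
      (Pair.norm_E p ⟨b.2, mem_cent.2 h1⟩)) hu, by
      rw [← h2, map_mul, map_mul, map_inv]⟩) with e | e
  · rw [e, card_bot] at e11; omega
  · rw [e, hL.card] at e10; omega

end Six

/-- an element of `C(z)` centralizing a subgroup of index at most four of `Q` lies in `Q` -/
theorem Six.mem_of_comm (hM : U6Mod L) (hL : U6Loc T A P) {f : centralizer ({z} : Set G) →* L} (h : Six Q z f)
    {U : Subgroup G} (hU : U.relIndex Q ≤ 4) {r : G} (hr : r * z = z * r) (hc : ∀ u ∈ Q ⊓ U, r * u = u * r) :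
    r ∈ Q := by
  have := h.finite
  obtain ⟨k, q, π, ρ, c, hρ, act⟩ := h.exists_rho
  refine (h.ker ⟨r, mem_cent.2 hr⟩).1 (hL.eq_one hM (small hM (ov_id hM hL) ρ hρ ?_))
  have e1 := LinearMap.finrank_range_add_finrank_ker ((ρ (f ⟨r, mem_cent.2 hr⟩)).toLinearMap - 1)
  have e2 := card_le_of_le (show U ⊓ Q ≤ c.sub (LinearMap.ker ((ρ (f ⟨r, mem_cent.2 hr⟩)).toLinearMap - 1)) from
    fun u hu => ⟨hu.2, sub_eq_zero.2 ((act _ u hu.2).trans (congrArg π (conj_eq_of_comm (hc u ⟨hu.2, hu.1⟩))))⟩)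
  have e3 := card_mul_relIndex' (inf_le_right : U ⊓ Q ≤ Q)
  rw [c.card_sub, Module.natCard_eq_pow_finrank (K := ZMod 2) (V := LinearMap.ker _), Nat.card_zmod] at e2
  rw [c.finrank_eq h.card] at e1
  rw [inf_relIndex_right, h.card] at e3
  have e4 : 2 ^ 18 ≤ 2 ^ finrank (ZMod 2) (LinearMap.ker ((ρ (f ⟨r, mem_cent.2 hr⟩)).toLinearMap - 1)) := by
    nlinarith
  have := (Nat.pow_le_pow_iff_right (by norm_num)).1 e4
  omega

/-- general form: `C(z)/Q` contains `L` with index at most two -/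
theorem Six.map_eq (hM : U6Mod L) (hL : U6Loc T A P) {f : centralizer ({z} : Set G) →* X} (h : Six Q z f)
    (ι : L →* X) (hι : Function.Injective ι) (hi : ι.range.index ≤ 2)
    (hO : ∀ a : X, (∀ l, Commute a (ι l)) → a * a = 1 → a = 1) (p : Pair Q Qs z s) :
    ∃ l : L, (Qs.subgroupOf _).map f = (A.map (MulAut.conj l).toMonoidHom).map ι :=
  (h.core hM hL ⟨hι, hi, hO⟩ p).imp fun _ H => H.1

theorem Six.pin (hM : U6Mod L) (hL : U6Loc T A P) {f : centralizer ({z} : Set G) →* L} (h : Six Q z f)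
    (p : Pair Q Qs z s) : Pin Q Qs z s := by
  have := h.finite
  have o := ov_id hM hL
  obtain ⟨l, hA, hP⟩ := h.core hM hL o p
  replace hL := hL.conj l
  rw [map_id] at hA
  generalize cj l A = A, cj l P = P, cj l T = T at hL hA hP
  have cs := (Pair.card_eq p).trans h.card
  have cE : Nat.card (Q ⊓ Qs : Subgroup G) = 2 ^ 11 := by
    have := p.card_E_mul_card_map f h.ker
    rw [hA, hL.card, cs] at this
    omega
  have c2 : Nat.card (Qs ⊓ centralizer {z} : Subgroup G) = 2 ^ 20 := by have := p.card_Q1; omega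
  have irr : ∀ K : Subgroup G, Q ⊓ Qs ≤ K → K ≤ Qs ⊓ centralizer {z} → B0 z s ≤ normalizer (K : Set G) →
      K = Q ⊓ Qs ∨ K = Qs ⊓ centralizer {z} := fun K h1 h2 h3 => by
    have e := h.card_img h1 h2
    refine (hL.irr ((K.subgroupOf _).map f) (hA ▸ map_mono fun _ hg => (h2 hg).1) fun a ha =>
      mem_normalizer_of_forall ?_).imp (fun e' => (eq_of_le_of_card_ge h1 ?_).symm) fun e' =>
      eq_of_le_of_card_ge h2 ?_
    · obtain ⟨b, b1, b2⟩ := hP a ha
      rintro _ ⟨u, hu, rfl⟩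
      exact ⟨b * u * b⁻¹, conj_mem_of_mem_normalizer (x := (u : G)) (h3 ⟨b.2, mem_cent.2 b1⟩) hu, by
        rw [map_mul, map_mul, map_inv, b2]; rfl⟩
    · rw [e', card_bot] at e; omega
    · rw [e', hL.card] at e; omega
  have hT : (T.comap f).map (centralizer {z}).subtype ≤ B0 z s ⊔ Q := by
    rintro _ ⟨g, hg, rfl⟩
    obtain ⟨b, b1, b2⟩ := hP _ (hL.le_P hg)
    simpa using mul_mem_sup (show (b : G) ∈ B0 z s from ⟨b.2, mem_cent.2 b1⟩)
      ((h.ker (b⁻¹ * g)).1 (by rw [map_mul, map_inv, b2]; simp))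
  refine ⟨p, h.card, cs, cE, fun x => h.zr hM o p, fun x => h.fix hM o p, irr, fun M hM2 => ?_, ?_, ?_⟩
  · have cm : ∀ {M : Subgroup G}, M.relIndex (B0 z s) = 2 → ∀ x ∈ B0 z s, ∀ y ∈ B0 z s, x * y * x⁻¹ * y⁻¹ ∈ M :=
      fun {M} hM2 x hx y hy => by
        change (⟨x, hx⟩ * ⟨y, hy⟩ * ⟨x, hx⟩⁻¹ * ⟨y, hy⟩⁻¹ : B0 z s) ∈ M.subgroupOf _
        simp only [mul_mem_iff_of_index_two hM2, inv_mem_iff]
        tauto
    have two : ∀ {M : Subgroup G}, M.relIndex (B0 z s) = 2 → Qs ⊓ centralizer {z} ≤ M := fun {M} hM2 => by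
      have hB : Qs ⊓ centralizer {z} ≤ B0 z s := fun x hx => ⟨hx.2, p.h1.le_cent hx.1⟩
      have hEle : Q ⊓ Qs ≤ Qs ⊓ centralizer {z} := fun x hx => ⟨hx.2, p.h0.le_cent hx.1⟩
      have nM : ∀ K ≤ B0 z s, B0 z s ≤ normalizer (K : Set G) → B0 z s ≤ normalizer ((K ⊓ M : Subgroup G) : Set G) :=
        fun K hK hn g hg => mem_normalizer_of_forall fun x hx => ⟨conj_mem_of_mem_normalizer (hn hg) hx.1, by
          simpa using M.mul_mem (cm hM2 g hg x (hK hx.1)) hx.2⟩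
      have ci : ∀ K ≤ B0 z s, Nat.card K ≤ Nat.card (K ⊓ M : Subgroup G) * 2 := fun K hK => by
        rw [← card_mul_relIndex' (inf_le_left : K ⊓ M ≤ K), inf_relIndex_left]
        exact Nat.mul_le_mul_left _ (hM2 ▸ relIndex_le_of_le_right hK (by omega))
      have hz : z ∈ M := by
        obtain ⟨x, hx, y, hy, h1, h2, hne⟩ := exists_not_comm_cent p.h0.es (by rw [h.card]; norm_num) p.tQ
        exact (p.h0.es.commutator hx hy).resolve_left (fun e => hne (commutatorElement_eq_one_iff_mul_comm.1 e)) ▸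
          cm hM2 x ⟨p.h0.le_cent hx, mem_cent.2 h1⟩ y ⟨p.h0.le_cent hy, mem_cent.2 h2⟩
      have hs : s ∈ M := by
        obtain ⟨x, hx, y, hy, h1, h2, hne⟩ := exists_not_comm_cent p.h1.es (by rw [cs]; norm_num) p.zQ1
        exact (p.h1.es.commutator hx hy).resolve_left (fun e => hne (commutatorElement_eq_one_iff_mul_comm.1 e)) ▸
          cm hM2 x (hB ⟨hx, mem_cent.2 h1⟩) y (hB ⟨hy, mem_cent.2 h2⟩)
      have e1 := card_mul_card_centralizer p.h1.es (inf_le_left.trans inf_le_right : Q ⊓ Qs ⊓ M ≤ Qs)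
        ⟨⟨p.tQ, p.h1.es.mem⟩, hs⟩
      have e2 := ci _ (hEle.trans hB)
      have hE : Q ⊓ Qs ≤ M := by
        rcases irr _ (Pair.E_le p (inf_le_left : Q ⊓ Qs ⊓ M ≤ _)) (inf_le_inf_left _ (centralizer_le
          (Set.singleton_subset_iff.2 ⟨⟨p.h0.es.mem, p.zQ1⟩, hz⟩))) fun g hg => Pair.norm_cent p hg
          (nM _ (hEle.trans hB) (fun _ => Pair.norm_E p) hg) with e | e <;> rw [e] at e1
        · exact inf_eq_left.1 (eq_of_le_of_card_ge inf_le_left (by rw [cE, cs] at e1; omega))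
        · rw [c2, cs] at e1; omega
      have e3 := ci _ hB
      refine inf_eq_left.1 ((irr _ (le_inf hEle hE) inf_le_left (nM _ hB fun g hg => ?_)).resolve_left fun e => ?_)
      · exact mem_normalizer_of_forall fun x hx => ⟨p.h1.norm g (mem_cent.1 hg.2) x hx.1,
          Subgroup.mul_mem _ (Subgroup.mul_mem _ hg.1 hx.2) (Subgroup.inv_mem _ hg.1)⟩
      · rw [e] at e3; omega
    obtain ⟨n, n1, n2⟩ := Pair.exists_swap p
    have one : ∀ x ∈ Q, x * s = s * x → x ∈ M := fun x hx hs => conj_mem_cj.1 (two (M := cj n M) (by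
      rw [← hM2, ← relIndex_cj n M, cj_inf, cj_centralizer_singleton, cj_centralizer_singleton, n1, n2, inf_comm])
      ⟨p.conj n n1 x hx, mem_cent.2 (by rw [← n2, conj_mul, conj_mul, hs])⟩)
    have hPM : P ≤ ((M ⊓ B0 z s).subgroupOf _).map f := by
      rw [← hL.perf, commutator_le]
      intro a ha a' ha'
      obtain ⟨b, b1, b2⟩ := hP a ha
      obtain ⟨b', b1', b2'⟩ := hP a' ha'
      have h1 : (b : G) ∈ B0 z s := ⟨b.2, mem_cent.2 b1⟩
      have h2 : (b' : G) ∈ B0 z s := ⟨b'.2, mem_cent.2 b1'⟩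
      exact ⟨⁅b, b'⁆, ⟨cm hM2 _ h1 _ h2, (B0 z s).mul_mem ((B0 z s).mul_mem
        ((B0 z s).mul_mem h1 h2) ((B0 z s).inv_mem h1)) ((B0 z s).inv_mem h2)⟩, by
        rw [map_commutatorElement, b2, b2']; rfl⟩
    have h3 : T.comap f ⊓ (B0 z s).subgroupOf _ ≤ M.subgroupOf _ := fun g hg => by
      obtain ⟨m, hm, e⟩ := hPM (hL.le_P hg.1)
      have h4 : ((g * m⁻¹ : centralizer {z}) : G) ∈ B0 z s := (B0 z s).mul_mem hg.2 ((B0 z s).inv_mem hm.2)
      simpa [mem_subgroupOf] using M.mul_mem (one _ ((h.ker (g * m⁻¹)).1 (by rw [map_mul, map_inv, e]; simp)) (mem_cent.1 h4.2)) hm.1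
    have h4 := relIndex_dvd_of_le_left ((B0 z s).subgroupOf (centralizer {z})) h3
    rw [relIndex_subgroupOf inf_le_left, hM2, inf_relIndex_right, relIndex_comap] at h4
    refine hL.odd.not_two_dvd_nat (h4.trans (relIndex_dvd_index_of_le fun a ha => ?_))
    obtain ⟨b, b1, b2⟩ := hP a (hL.le_P ha)
    exact ⟨b, ⟨b.2, mem_cent.2 b1⟩, b2⟩
  · refine Odd.of_dvd_nat hL.odd ((relIndex_dvd_of_le_left _ hT).trans (dvd_of_eq ?_))
    rw [relIndex, ← index_comap_of_surjective T h.surj, subgroupOf, comap_map_eq_self_of_injective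
      (subtype_injective _)]
  · by_contra H
    push Not at H
    have hn : A.Normal := ⟨fun r hr a => by
      obtain ⟨g, rfl⟩ := h.surj a
      exact hA ▸ p.map_conj_mem f h.ker g (or_iff_not_imp_left.2 (H g (mem_cent.1 g.2))) (hA ▸ hr)⟩
    have sq : ∀ r ∈ A, r⁻¹ = r := fun r hr => inv_eq_of_mul_eq_one_right (p.map_mul_self f h.ker (hA ▸ hr))
    rcases hM.simple.eq_bot_or_eq_top_of_normal A hn with e | e
    · have := hL.card; rw [e, card_bot] at this; omega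
    · rw [e] at sq
      exact hL.not_comm fun x _ y _ => by rw [← sq (x * y) trivial, mul_inv_rev, sq x trivial, sq y trivial]

/-- the conjugates of `z` in `Q` other than `z` are conjugate in `C(z)` -/
theorem Six.exists_conj (hM : U6Mod L) (hL : U6Loc T A P) {f : centralizer ({z} : Set G) →* L} (h : Six Q z f)
    (p : Pair Q Qs z s) {Qt : Subgroup G} {t : G} (p' : Pair Q Qt z t) : ∃ c, c * z = z * c ∧ c * s * c⁻¹ = t := by
  have o := ov_id hM hL
  obtain ⟨l, hA, -⟩ := h.core hM hL o p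
  obtain ⟨l', hA', -⟩ := h.core hM hL o p'
  rw [map_id] at hA hA'
  obtain ⟨g, hg⟩ := h.surj (l' * l⁻¹)
  have hz := mem_cent.1 g.2
  have hs := p.h0.norm _ hz s p.tQ
  rcases p'.mem_V.1 (h.fix hM o p' hs fun u h1 h2 => by
    obtain ⟨w, hw, e⟩ : (f g)⁻¹ * f ⟨u, mem_cent.2 h2⟩ * f g ∈ (Qs.subgroupOf _).map f := by
      rw [hA, ← cj_inv_cj l' A, ← cj_mul, ← hA', ← mem_cj, ← cj_mul, hg, ← mul_assoc]
      simpa using mem_map_of_mem f (show (⟨u, mem_cent.2 h2⟩ : centralizer {z}) ∈ Qt.subgroupOf _ from h1)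
    have hq := (h.ker (⟨u, mem_cent.2 h2⟩ * (g * w * g⁻¹)⁻¹)).1 (by simp [e, mul_assoc])
    have := p.h0.es.conj hs hq
    have e2 : (w : G) * s * (w : G)⁻¹ = s := conj_eq_of_comm (p.h1.es.comm_z _ hw)
    have e3 : u * (g * w * (g : G)⁻¹)⁻¹ * (g * (w * s * (w : G)⁻¹) * (g : G)⁻¹) * (u * (g * w * (g : G)⁻¹)⁻¹)⁻¹ =
      u * (g * s * (g : G)⁻¹) * u⁻¹ := by group
    rw [e2] at e3
    exact e3 ▸ this) with e | e | e | e
  · exact absurd (by simpa using e) p.t_ne_one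
  · exact absurd (mul_left_cancel ((mul_inv_eq_iff_eq_mul.1 e).trans hz.symm)) p.ne
  · exact ⟨g, hz, e⟩
  · obtain ⟨a, -, a1, a2⟩ := p'.exists_a
    refine ⟨a * g, (Commute.mul_left (comm_of_conj_eq a1) hz :), ?_⟩
    calc _ = a * (g * s * (g : G)⁻¹) * a⁻¹ := by group
      _ = t := by rw [e, ← conj_mul, a1, a2, p.h0.es.zz']

end CfsgLib.E62
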