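import Mathlib
import Cfsg.Agent.Lib.E62.RPin
import Cfsg.Agent.Lib.E62.RHW
import Cfsg.Agent.Lib.ExtraTwo.Classify
import Cfsg.Agent.Lib.Tech.SylowIn

/-!
# The isomorphism `Q ≃ Q'`
-/

set_option autoImplicit false

namespace CfsgLib.E62

open Subgroup Module CfsgLib.LargeExtra CfsgLib.ExtraTwo

/-- restriction of an action to an invariant subspace -/
def resAct {L W : Type*} [Group L] [AddCommGroup W] [Module (ZMod 2) W] (ρ : L →* (W ≃ₗ[ZMod 2] W))
    (Y : Submodule (ZMod 2) W) (hY : ∀ l, ∀ v ∈ Y, ρ l v ∈ Y) : L →* (Y ≃ₗ[ZMod 2] Y) :=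
  MonoidHom.mk' (fun l => LinearEquiv.ofLinearMap ((ρ l).toLinearMap.restrict (hY l))
    ((ρ l⁻¹).toLinearMap.restrict (hY l⁻¹))
    (LinearMap.ext fun v => Subtype.ext (by simp)) (LinearMap.ext fun v => Subtype.ext (by simp)))
    fun a b => LinearEquiv.ext fun v => Subtype.ext (by simp)

theorem U6Mod.fix_of_lt {L : Type*} [Group L] (hM : U6Mod L) {W : Type} [AddCommGroup W]
    [Module (ZMod 2) W] [Finite W] (ρ : L →* (W ≃ₗ[ZMod 2] W)) {Y : Submodule (ZMod 2) W}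
    (hY : ∀ l, ∀ v ∈ Y, ρ l v ∈ Y) (hd : finrank (ZMod 2) Y < 18) (l : L) {v : W} (hv : v ∈ Y) :
    ρ l v = v := by
  have h1 : resAct ρ Y hY = 1 := by
    by_contra h
    exact absurd (hM.dim _ h) (by omega)
  exact congrArg Subtype.val (congrArg (fun r : L →* (Y ≃ₗ[ZMod 2] Y) => r l ⟨v, hv⟩) h1)

/-- a `2`-subgroup lies in every subgroup of odd index normalizing it -/
theorem le_of_odd_index {L : Type*} [Group L] [Finite L] {A H : Subgroup L} (hA : IsPGroup 2 A)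
    (hH : Odd H.index) (hn : H ≤ normalizer (A : Set L)) : A ≤ H := by
  obtain ⟨S, hS⟩ := Tech.exists_isSylowIn 2 H
  have h1 := hS.trans le_top (by
    rw [relIndex_top_right]; exact fun h => Nat.not_even_iff_odd.2 hH (even_iff_two_dvd.2 h))
  exact ((h1.of_le (hS.le.trans hn) le_top).le_of_le_normalizer hA le_normalizer le_rfl).trans hS.le

section side

variable {G L : Type*} [Group G] [Finite G] [Group L] {T A P : Subgroup L} {Q Qs : Subgroup G} {z s : G}

/-- The module `Q / ⟨z⟩` of `L`. -/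
structure Side (A : Subgroup L) (Q Qs : Subgroup G) (z s : G) (f : centralizer ({z} : Set G) →* L)
    {W : Type} [AddCommGroup W] [Module (ZMod 2) W] (q : QuadraticForm (ZMod 2) W) (π : G → W)
    (ρ : L →* (W ≃ₗ[ZMod 2] W)) : Prop where
  six : Six Q z f
  map : (Qs.subgroupOf _).map f = A
  c : Coord Q z q π
  act : ∀ g, ∀ x ∈ Q, ρ (f g) (π x) = π (g * x * (g : G)⁻¹)
  inv : ∀ l v, q (ρ l v) = q v
  ne : π s ≠ 0
  fix : ∀ v, (∀ a ∈ A, ρ a v = v) → v = 0 ∨ v = π s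
  stab : ∀ l, ρ l (π s) = π s ↔ l ∈ normalizer (A : Set L)
  sp : Submodule.span (ZMod 2) (Set.range fun l => ρ l (π s)) = ⊤

theorem Side.polar {L : Type*} [Group L] {W : Type} [AddCommGroup W] [Module (ZMod 2) W]
    {q : QuadraticForm (ZMod 2) W} {ρ : L →* (W ≃ₗ[ZMod 2] W)} (inv : ∀ l v, q (ρ l v) = q v) (l : L)
    (v w : W) : QuadraticMap.polarBilin q (ρ l v) (ρ l w) = QuadraticMap.polarBilin q v w := by
  simp only [QuadraticMap.polarBilin_apply_apply, QuadraticMap.polar, ← map_add, inv]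

theorem exists_side (hM : U6Mod L) (hL : U6Loc T A P) {f : centralizer ({z} : Set G) →* L} (h : Six Q z f)
    (p : Pair Q Qs z s) : ∃ (l : L) (n : ℕ) (q : QuadraticForm (ZMod 2) (Fin n → ZMod 2))
      (π : G → Fin n → ZMod 2) (ρ : L →* ((Fin n → ZMod 2) ≃ₗ[ZMod 2] (Fin n → ZMod 2))),
      Side A Q Qs z s ((MulAut.conj l).toMonoidHom.comp f) q π ρ := by
  have : Finite L := Finite.of_surjective f h.surj
  obtain ⟨l, hl⟩ := h.map_eq hM hL (MonoidHom.id L) Function.injective_id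
    (by rw [MonoidHom.range_eq_top.2 Function.surjective_id, index_top]; omega) (fun a ha _ => by
    have := hM.simple
    rcases (inferInstance : (center L).Normal).eq_bot_or_eq_top with e | e
    · exact e.le (mem_center_iff.2 fun g => (ha g).symm)
    · have h1 : P ≤ ⊥ := by
        rw [← hL.perf, commutator_le]
        exact fun x _ y _ => commutatorElement_eq_one_iff_mul_comm.2
          (mem_center_iff.1 (e.ge (mem_top y)) x)
      have h2 := hL.card
      rw [le_bot_iff.1 ((hL.le_T.trans hL.le_P).trans h1), card_bot] at h2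
      omega) p
  set F := (MulAut.conj l⁻¹).toMonoidHom.comp f with hF
  have h6 : Six Q z F := ⟨h.pre, h.card, (MulAut.conj l⁻¹).surjective.comp h.surj, fun g =>
    (map_eq_one_iff _ (MulAut.conj l⁻¹).injective).trans (h.ker g)⟩
  have hA : (Qs.subgroupOf _).map F = A := by
    rw [hF, ← map_map, hl, map_id, map_map]
    convert map_id A
    ext x; simp [mul_assoc]
  have pin := h6.pin hM hL p
  obtain ⟨n, q, π, c⟩ := h.pre.es.exists_coord
  obtain ⟨ρ₀, h1, h2, h3⟩ := h.pre.exists_act c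
  let ρ := F.liftOfSurjective h6.surj ⟨ρ₀, fun g hg => (h3 g).2 ((h6.ker g).1 hg)⟩
  have hρ : ∀ g, ρ (F g) = ρ₀ g := fun g => F.liftOfRightInverse_comp_apply _ _ _ g
  have act : ∀ g, ∀ x ∈ Q, ρ (F g) (π x) = π (g * x * (g : G)⁻¹) := fun g x hx => by
    rw [hρ, h1 g x hx]
  have inv : ∀ l v, q (ρ l v) = q v := fun l v => by
    obtain ⟨g, rfl⟩ := h6.surj l
    rw [hρ, h2]
  have ne : π s ≠ 0 := fun e => ((c.ker s p.tQ).1 e).elim p.t_ne_one p.ne
  have fix : ∀ v, (∀ a ∈ A, ρ a v = v) → v = 0 ∨ v = π s := fun v hv => by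
    obtain ⟨x, hx, rfl⟩ := c.surj v
    have h4 := p.mem_V.1 (pin.fix x hx fun u hu huz => by
      have h5 := hv (F ⟨u, mem_cent.2 huz⟩) (hA ▸ mem_map_of_mem F hu)
      rw [act _ x hx] at h5
      exact (c.eq_iff hx (h.pre.norm u huz x hx)).1 h5.symm)
    rcases h4 with rfl | rfl | rfl | rfl
    exacts [.inl c.map_one, .inl c.map_z, .inr rfl, .inr (c.map_mul_z p.tQ)]
  have hs : ∀ g : centralizer ({z} : Set G), ρ (F g) (π s) = π s ↔
      ((g : G) * s * (g : G)⁻¹ = s ∨ (g : G) * s * (g : G)⁻¹ = s * z) := fun g => by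
    rw [act g s p.tQ, eq_comm, c.eq_iff p.tQ (h.pre.norm g (mem_cent.1 g.2) s p.tQ)]
  have hAs : ∀ a ∈ A, ρ a (π s) = π s := by
    rw [← hA]
    rintro _ ⟨u, hu, rfl⟩
    exact (hs u).2 (.inl (conj_eq_of_comm (p.h1.es.comm_z u hu)))
  have stab : ∀ l, ρ l (π s) = π s ↔ l ∈ normalizer (A : Set L) := fun l => by
    refine ⟨fun e => ?_, fun hl => ?_⟩
    · obtain ⟨g, rfl⟩ := h6.surj l
      refine Tech.mem_normalizer_of_forall fun a ha => ?_
      rw [← hA] at ha ⊢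
      exact p.map_conj_mem F h6.ker g ((hs g).1 e) ha
    · refine (fix _ fun a ha => ?_).resolve_left (by simpa using ne)
      have h4 := hAs (l⁻¹ * a * l) (by simpa using (mem_normalizer_iff.1 (inv_mem hl) a).1 ha)
      rw [← LinearEquiv.mul_apply, ← map_mul, show a * l = l * (l⁻¹ * a * l) by group, map_mul,
        LinearEquiv.mul_apply, h4]
  have nfix : ∃ l, ρ l (π s) ≠ π s := by
    obtain ⟨g, hg, h4, h5⟩ := pin.nfix
    exact ⟨F ⟨g, mem_cent.2 hg⟩, fun e => ((hs _).1 e).elim h4 h5⟩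
  refine ⟨l⁻¹, n, q, π, ρ, h6, hA, c, act, inv, ne, fix, stab, ?_⟩
  set U := Submodule.span (ZMod 2) (Set.range fun l => ρ l (π s)) with hU
  have hU1 : ∀ l, ∀ v ∈ U, ρ l v ∈ U := fun l v hv => by
    induction hv using Submodule.span_induction with
    | mem _ hv =>
      obtain ⟨k, rfl⟩ := hv
      exact Submodule.subset_span ⟨l * k, by simp⟩
    | zero => simp
    | add a b _ _ ha hb => rw [map_add]; exact add_mem ha hb
    | smul r a _ ha => rw [map_smul]; exact U.smul_mem r ha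
  obtain ⟨k, hk⟩ := nfix
  have h4 : 18 ≤ finrank (ZMod 2) U := by
    by_contra h4
    exact hk (hM.fix_of_lt ρ hU1 (by omega) k (Submodule.subset_span ⟨1, by simp⟩))
  have h5 := LinearMap.BilinForm.finrank_orthogonal c.nondegenerate U
  have h7 := c.finrank_eq (m := 20) h.card
  have h8 : LinearMap.BilinForm.orthogonal (QuadraticMap.polarBilin q) U = ⊥ := by
    refine (Submodule.eq_bot_iff _).2 fun v hv => ?_
    have h8 := fun l => hM.fix_of_lt ρ (Y := LinearMap.BilinForm.orthogonal (QuadraticMap.polarBilin q) U)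
      (fun l w hw u hu => by
        have := hw _ (hU1 l⁻¹ u hu)
        rw [← Side.polar inv l] at this
        simpa using this) (by omega) l hv
    refine (fix v fun a _ => h8 a).resolve_right fun e => hk (e ▸ h8 k)
  refine Submodule.eq_top_of_finrank_eq (le_antisymm (Submodule.finrank_le _) ?_)
  rw [h8, finrank_bot] at h5
  omega

end side

theorem exists_link {G G' L : Type*} [Group G] [Finite G] [Group G'] [Finite G'] [Group L] {T A P : Subgroup L}
    (hM : U6Mod L) (hL : U6Loc T A P) {Q Qs : Subgroup G} {z s : G} {Q' Qs' : Subgroup G'} {z' s' : G'}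
    {f : centralizer ({z} : Set G) →* L} {f' : centralizer ({z'} : Set G') →* L} (h : Six Q z f) (h' : Six Q' z' f')
    (p : Pair Q Qs z s) (p' : Pair Q' Qs' z' s') (R : Cfsg.BNPair (centralizer ({z'} : Set G')))
    (hodd : Odd R.B.index) (hB : ∀ b ∈ R.B, (b : G') * s' * (b : G')⁻¹ = s' ∨ (b : G') * s' * (b : G')⁻¹ = s' * z') :
    ∃ K, Link K Q Qs z s Q' Qs' z' s' := by
  have : Finite L := Finite.of_surjective f h.surj
  obtain ⟨l, n, q, π, ρ, S⟩ := exists_side hM hL h p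
  obtain ⟨l', n', q', π', ρ', S'⟩ := exists_side hM hL h' p'
  set F := (MulAut.conj l).toMonoidHom.comp f
  set F' := (MulAut.conj l').toMonoidHom.comp f'
  have hN : R.B.map F' ≤ normalizer (A : Set L) := by
    rintro _ ⟨b, hb, rfl⟩
    refine (S'.stab _).1 ?_
    rw [S'.act b s' p'.tQ, eq_comm]
    exact (S'.c.eq_iff p'.tQ (h'.pre.norm b (mem_cent.1 b.2) s' p'.tQ)).2 (hB b hb)
  have hA : A ≤ R.B.map F' := le_of_odd_index (hL.two.to_le hL.le_T)
    (hodd.of_dvd_nat (R.B.index_map_dvd S'.six.surj)) hN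
  obtain ⟨e, he, he1, he2⟩ := exists_equiv_of_bn R hodd (ρ.comp F') (ρ'.comp F')
    (QuadraticMap.polarBilin q) (QuadraticMap.polarBilin q') (fun g => Side.polar S.inv _)
    (fun g => Side.polar S'.inv _) (fun v => S.c.eq_zero_of_polar)
    (fun v => S'.c.eq_zero_of_polar) S.ne S'.ne (fun b hb => (S.stab _).2 (hN ⟨b, hb, rfl⟩))
    (fun g => (S.stab _).trans (S'.stab _).symm)
    (fun v hv => S.fix v fun a ha => by obtain ⟨b, hb, rfl⟩ := hA ha; exact hv b hb)
    (fun v hv => S'.fix v fun a ha => by obtain ⟨b, hb, rfl⟩ := hA ha; exact hv b hb)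
    (by rw [← S.sp]; exact congrArg _ (S'.six.surj.range_comp fun l => ρ l (π s)))
    (by rw [← S'.sp]; exact congrArg _ (S'.six.surj.range_comp fun l => ρ' l (π' s')))
  have he3 : ∀ l v, e (ρ l v) = ρ' l (e v) := fun l v => by
    obtain ⟨g, rfl⟩ := S'.six.surj l
    exact he1 g v
  have hq : ∀ v, q' (e v) = q v := fun v => by
    have hv : v ∈ Submodule.span (ZMod 2) (Set.range fun l => ρ l (π s)) := S.sp ▸ Submodule.mem_top
    induction hv using Submodule.span_induction with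
    | mem _ hv =>
      obtain ⟨k, rfl⟩ := hv
      simp only
      rw [he3, S'.inv, S.inv, he, (S.c.sq s p.tQ).2 p.h1.es.mul_self,
        (S'.c.sq s' p'.tQ).2 p'.h1.es.mul_self]
    | zero => simp
    | add a b _ _ ha hb =>
      have := he2 a b
      simp only [QuadraticMap.polarBilin_apply_apply, QuadraticMap.polar, ← map_add, ha, hb] at this
      linear_combination this
    | smul r a _ ha => rw [map_smul, QuadraticMap.map_smul, QuadraticMap.map_smul, ha]
  obtain ⟨ε₀, hε₀⟩ := (S.c.congr e hq).exists_mulEquiv S'.c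
  obtain ⟨ε, hε, hεs⟩ : ∃ ε : Q ≃* Q', (∀ x : Q, π' (ε x) = e (π x)) ∧ (ε ⟨s, p.tQ⟩ : G') = s' := by
    rcases (S'.c.eq_iff (ε₀ ⟨s, p.tQ⟩).2 p'.tQ).1 ((hε₀ _).trans he) with e1 | e1
    · exact ⟨ε₀, hε₀, e1.symm⟩
    · obtain ⟨a, ha, -, ea⟩ := p'.exists_a
      refine ⟨ε₀.trans (MulAut.conj (⟨a, ha⟩ : Q')⁻¹), fun x => ?_, ?_⟩
      · rw [← hε₀, eq_comm]
        exact (S'.c.eq_iff (ε₀ x).2 (Subtype.mem _)).2 (S'.c.es.conj (ε₀ x).2 (inv_mem ha))
      · have e2 : (ε₀ ⟨s, p.tQ⟩ : G') = s' * z' := by rw [e1, S'.c.es.zz']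
        change a⁻¹ * (ε₀ ⟨s, p.tQ⟩ : G') * a⁻¹⁻¹ = s'
        rw [e2, ← ea]; group
  set κ : Q →* G × G' := Q.subtype.prod (Q'.subtype.comp ε.toMonoidHom) with hκ
  have hm : ∀ x : Q, ((x : G), (ε x : G')) ∈ κ.range := fun x => ⟨x, rfl⟩
  have key : ∀ g g', F g = F' g' → (∃ x' ∈ Q', ((g : G), g' * x') ∈ normalizer (κ.range : Set (G × G'))) ∧
      ∃ x ∈ Q, ((g : G) * x, (g' : G')) ∈ normalizer (κ.range : Set (G × G')) := fun g g' hg => by
    let γ := Q.normalizerMonoidHom ⟨g, h.pre.mem_normalizer (mem_cent.1 g.2)⟩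
    let γ' := Q'.normalizerMonoidHom ⟨g', h'.pre.mem_normalizer (mem_cent.1 g'.2)⟩
    obtain ⟨u, -, hu⟩ := S'.c.es.top.inner (fun y => γ'.symm (ε (γ (ε.symm y))))
      (fun x _ y _ => by simp only [map_mul]) fun y _ => by
        have h1 : π' (γ'.symm (ε (γ (ε.symm y)))) = π' y := by
          apply (ρ' (F' g')).injective
          rw [S'.act g' _ (Subtype.mem _)]
          change π' (γ' (γ'.symm _)) = _
          rw [MulEquiv.apply_symm_apply, hε, ← hg]
          change e (π (g * (ε.symm y : G) * (g : G)⁻¹)) = _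
          rw [← S.act g _ (Subtype.mem _), he3, ← hε, MulEquiv.apply_symm_apply]
        exact ((S'.c.eq_iff y.2 (Subtype.mem _)).1 h1.symm).imp Subtype.ext Subtype.ext
    have h1 : ((g : G), g' * (u : G')) ∈ normalizer (κ.range : Set (G × G')) := by
      refine Tech.mem_normalizer_of_forall ?_
      rintro _ ⟨x, rfl⟩
      refine ⟨γ x, Prod.ext rfl ?_⟩
      have h2 := congrArg (fun y => (γ' y : G')) (hu (ε x) (mem_top _))
      simp only [MulEquiv.symm_apply_apply, MulEquiv.apply_symm_apply] at h2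
      change (ε (γ x) : G') = g' * (u : G') * ε x * (g' * (u : G'))⁻¹
      rw [h2]
      change g' * ((u : G') * ε x * (u : G')⁻¹) * (g' : G')⁻¹ = _
      group
    refine ⟨⟨u, u.2, h1⟩, (ε.symm u : G)⁻¹, inv_mem (Subtype.mem _), ?_⟩
    have h2 := mul_mem h1 (inv_mem (le_normalizer (hm (ε.symm u))))
    simpa using h2
  refine ⟨κ.range, ⟨?_, ?_, fun a ha => ⟨_, hm ⟨a, ha⟩⟩, fun a ha => ⟨_, ε.symm ⟨a, ha⟩, Prod.ext rfl (by
    simp [hκ])⟩, ?_, ?_⟩, hεs ▸ hm ⟨s, p.tQ⟩, fun c hc => ?_, fun c hc => ?_, fun u hu hz => ?_,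
    fun u hu hz => ?_⟩
  · rintro _ ⟨x, rfl⟩; exact x.2
  · rintro _ ⟨x, rfl⟩; exact (ε x).2
  · rintro a ⟨x, hx⟩
    have h1 : ε x = 1 := Subtype.ext (congrArg Prod.snd hx)
    rw [← show (x : G) = a from congrArg Prod.fst hx, (map_eq_one_iff _ ε.injective).1 h1, coe_one]
  · rintro a ⟨x, hx⟩
    have h1 : x = 1 := Subtype.ext (congrArg Prod.fst hx)
    rw [← show (ε x : G') = a from congrArg Prod.snd hx, h1, map_one, coe_one]
  · obtain ⟨g', e1⟩ := S'.six.surj (F ⟨c, mem_cent.2 hc⟩)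
    obtain ⟨x, -, h1⟩ := (key _ _ e1.symm).1
    exact ⟨_, h1⟩
  · obtain ⟨g, e1⟩ := S.six.surj (F' ⟨c, mem_cent.2 hc⟩)
    obtain ⟨x, -, h1⟩ := (key _ _ e1).2
    exact ⟨_, h1⟩
  · obtain ⟨g', hg', e1⟩ : F ⟨u, mem_cent.2 hz⟩ ∈ (Qs'.subgroupOf _).map F' :=
      S'.map.symm ▸ S.map ▸ mem_map_of_mem F hu
    exact ⟨g', hg', mem_cent.1 g'.2, (key _ _ e1.symm).1⟩
  · obtain ⟨g, hg, e1⟩ : F' ⟨u, mem_cent.2 hz⟩ ∈ (Qs.subgroupOf _).map F :=
      S.map.symm ▸ S'.map ▸ mem_map_of_mem F' hu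
    exact ⟨g, hg, mem_cent.1 g.2, (key _ _ e1).2⟩

end CfsgLib.E62
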