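import Mathlib
import Cfsg.Agent.Lib.LargeExtra.Sub
import Cfsg.Agent.Lib.StrEmb.Basic
import Cfsg.Agent.S1175

/-!
# A subgroup containing `C(z)` and controlling the fusion of the root involution `z` is the whole group
-/

set_option autoImplicit false

namespace CfsgLib.E62

open Subgroup CfsgLib.LargeExtra CfsgLib.ExtraTwo

variable {G : Type*} [Group G] {Q M : Subgroup G} {z : G}

/-- Facts about the conjugates of `z` under `M`. -/
structure ZF (M Q : Subgroup G) (z : G) : Prop where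
  four : ∀ g ∈ M, (z * (g * z * g⁻¹)) ^ 4 = 1 ∨ ∀ x ∈ Q, g * x * g⁻¹ ∈ Q → x = 1
  col : ∀ w, IsConj z w → w * z = z * w → IsConj z (w * z) → w ∈ Q
  line : ∀ w, IsConj z w → w * z = z * w → w ≠ z → ¬ IsConj z (w * z) → ∃ u₁ u₂, IsConj z (u₁ * u₂) ∧
    ∀ u, u = u₁ ∨ u = u₂ → u ∈ Q ∧ IsConj z u ∧ u * w = w * u ∧ IsConj z (u * w)
  ex : ∃ t, orderOf t = 2 ∧ ¬ IsConj z t

/-- the conjugate of `Q` belonging to the conjugate `d` of `z` -/
def Qd (Q : Subgroup G) (z d : G) : Subgroup G where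
  carrier := {x | ∀ g, g * z * g⁻¹ = d → g⁻¹ * x * g ∈ Q}
  one_mem' g _ := by simp
  mul_mem' ha hb g e := by simpa [mul_assoc] using mul_mem (ha g e) (hb g e)
  inv_mem' ha g e := by simpa [mul_assoc] using inv_mem (ha g e)

theorem isConj_conj {a : G} (h : IsConj z a) (g : G) : IsConj z (g * a * g⁻¹) := h.trans (isConj_iff.2 ⟨g, rfl⟩)

theorem Qd_eq (h : Pre Q z) (g : G) : Qd Q z (g * z * g⁻¹) = Q.map (MulAut.conj g).toMonoidHom :=
  le_antisymm (fun _ hx => mem_map_conj.2 (hx g rfl)) fun _ hx _ e => mem_map_conj.1 (by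
    simpa [mul_assoc] using h.conj_mem_of_eq e.symm (mem_map_conj.1 hx))

theorem pre_Qd (h : Pre Q z) {d : G} (hd : IsConj z d) : Pre (Qd Q z d) d := by
  obtain ⟨g, rfl⟩ := isConj_iff.1 hd
  exact Qd_eq h g ▸ h.conj g

theorem conj_mem_Qd {d x : G} (hx : x ∈ Qd Q z d) (g : G) : g * x * g⁻¹ ∈ Qd Q z (g * d * g⁻¹) :=
  fun k e => by
    simpa [mul_assoc] using hx (g⁻¹ * k) (by
      rw [show g⁻¹ * k * z * (g⁻¹ * k)⁻¹ = g⁻¹ * (k * z * k⁻¹) * g by group, e]; group)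

theorem Qd_z (h : Pre Q z) : Qd Q z z = Q := by
  have := Qd_eq h 1
  rw [one_mul, inv_one, mul_one] at this
  rw [this]
  ext x
  simp

theorem sq_of_isConj (h : Pre Q z) {d : G} (hd : IsConj z d) : d * d = 1 := (pre_Qd h hd).es.mul_self

theorem isConj_mul_of_mem (h : Pre Q z) {d t : G} (hd : IsConj z d) (ht : t ∈ Qd Q z d) (h1 : t ≠ 1) (h2 : t ≠ d) :
    IsConj t (t * d) := isConj_mul_z (pre_Qd h hd).es ht h1 h2

theorem exists_conj_eq [Finite G] (h : Pre Q z) {d t : G} (hd : d * z = z * d) (ht : t ∈ Q)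
    (hc : ∀ c ∈ Q, (d * c * d⁻¹ = c ∨ d * c * d⁻¹ = c * z) → t * c = c * t) :
    ∃ a ∈ Q, d * a * d⁻¹ * a⁻¹ = t ∨ d * a * d⁻¹ * a⁻¹ = t * z := by
  obtain ⟨n, q, π, c⟩ := h.es.exists_coord
  obtain ⟨ρ, h1, h2, -⟩ := h.exists_act c
  let δ := ρ ⟨d, mem_cent.2 hd⟩
  have hp : ∀ v w, QuadraticMap.polar q (δ v) (δ w) = QuadraticMap.polar q v w := fun v w => by
    simp only [QuadraticMap.polar, ← map_add, δ, h2]
  have h3 : π t ∈ LinearMap.range (δ.toLinearMap - 1) := by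
    rw [← LinearMap.BilinForm.orthogonal_orthogonal c.nondegenerate
      (fun v w e => by rwa [QuadraticMap.polarBilin_apply_apply, QuadraticMap.polar_comm]) (LinearMap.range _)]
    intro v hv
    obtain ⟨x, hx, rfl⟩ := c.surj v
    have h4 : δ (π x) = π x := sub_eq_zero.1 (c.eq_zero_of_polar fun w => by
      have := hv _ ⟨δ.symm w, rfl⟩
      simp only [QuadraticMap.polarBilin_apply_apply, LinearMap.sub_apply,
        LinearEquiv.coe_coe, LinearEquiv.apply_symm_apply, Module.End.one_apply, QuadraticMap.polar_sub_left] at this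
      rw [QuadraticMap.polar_sub_left, ← δ.apply_symm_apply w, hp, δ.apply_symm_apply, QuadraticMap.polar_comm q (π x),
        QuadraticMap.polar_comm q (π x), ← neg_sub, this, neg_zero])
    rw [h1 _ x hx, eq_comm, c.eq_iff hx (h.norm d hd x hx)] at h4
    exact (c.polar_iff hx ht).2 (hc x hx h4).symm
  obtain ⟨v, hv⟩ := h3
  obtain ⟨a, ha, rfl⟩ := c.surj v
  refine ⟨a, ha, (c.eq_iff ht (mul_mem (h.norm d hd a ha) (inv_mem ha))).1 ?_⟩
  rw [c.map_mul _ (h.norm d hd a ha) _ (inv_mem ha), c.map_inv ha, ← hv, ← sub_zmod2]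
  exact congrArg (· - π a) (h1 _ a ha)

theorem dihedral [Finite G] {u v t : G} (hu : u * u = 1) (hv : v * v = 1) :
    (∃ k : ℕ, (u * v) ^ k * u * ((u * v) ^ k)⁻¹ = v ∨ (u * v) ^ k * u * ((u * v) ^ k)⁻¹ = t * v) ∨
    ∃ n : ℕ, (u * v) ^ n ≠ 1 ∧ (u * v) ^ n ≠ t ∧ ((u * v) ^ n * (u * v) ^ n = 1 ∨ (u * v) ^ n * (u * v) ^ n = t) ∧
      ∃ k : ℕ, (u * v) ^ n * u = (u * v) ^ k * u * ((u * v) ^ k)⁻¹ ∨
        ((u * v) ^ n * v = (u * v) ^ k * u * ((u * v) ^ k)⁻¹ ∧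
          (u * v) ^ n * u = (u * v) ^ (k + 1) * v * ((u * v) ^ (k + 1))⁻¹) := by
  classical
  have e1 : u * (u * v) * u⁻¹ = (u * v)⁻¹ := by
    rw [← mul_assoc, hu, one_mul, mul_inv_rev, inv_eq_of_mul_eq_one_right hv]
  have e2 : v * (u * v) * v⁻¹ = (u * v)⁻¹ := by
    rw [mul_inv_rev, inv_eq_of_mul_eq_one_right hu, inv_eq_of_mul_eq_one_right hv, mul_assoc, mul_assoc, hv, mul_one]
  have e3 : u * v * v = u := by rw [mul_assoc, hv, mul_one]
  generalize u * v = g at e1 e2 e3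
  have c1 : ∀ (w : G) (k : ℕ), w * g * w⁻¹ = g⁻¹ → g ^ k * w * (g ^ k)⁻¹ = g ^ (2 * k) * w := fun w k h => by
    have h2 : w * (g ^ k)⁻¹ * w⁻¹ = g ^ k := by rw [← conj_inv, StrEmb.conj_pow_of_inverts h k, inv_inv]
    calc _ = g ^ k * (w * (g ^ k)⁻¹ * w⁻¹) * w := by group
      _ = _ := by rw [h2, two_mul, pow_add]
  have ex : ∃ m, 0 < m ∧ (g ^ m = 1 ∨ g ^ m = t) := ⟨_, orderOf_pos g, Or.inl (pow_orderOf_eq_one g)⟩
  obtain ⟨h1, h2⟩ := Nat.find_spec ex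
  have h3 := fun m => Nat.find_min ex (m := m)
  generalize Nat.find ex = o at h1 h2 h3
  rcases Nat.even_or_odd' o with ⟨n, rfl | rfl⟩
  · have h4 := not_and.1 (h3 n (by omega)) (by omega)
    refine Or.inr ⟨n, (not_or.1 h4).1, (not_or.1 h4).2, by rwa [← pow_add, ← two_mul], ?_⟩
    rcases Nat.even_or_odd' n with ⟨k, rfl | rfl⟩
    · exact ⟨k, Or.inl (c1 u k e1).symm⟩
    · exact ⟨k, Or.inr ⟨by rw [c1 u k e1, pow_succ, mul_assoc, e3],
        by rw [c1 v _ e2, ← e3, ← mul_assoc, ← pow_succ]; rfl⟩⟩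
  · refine Or.inl ⟨n, ?_⟩
    rw [c1 u n e1, ← e3, ← mul_assoc, ← pow_succ]
    exact h2.imp (fun e => by rw [e, one_mul]) fun e => by rw [e]

section
variable [Finite G] (h : Pre Q z) (h8 : 8 < Nat.card Q) (f : ZF M Q z)
include h

include h8 in
theorem Qd_symm {d w : G} (hd : IsConj z d) (hw : IsConj z w) (e : w ∈ Qd Q z d) : d ∈ Qd Q z w := by
  obtain ⟨g, rfl⟩ := isConj_iff.1 hd
  obtain ⟨k, rfl⟩ := isConj_iff.1 hw
  rw [Qd_eq h, mem_map_conj] at e ⊢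
  simpa [mul_assoc] using mem_map_conj.1 (h.mem_conj h8 (g := g⁻¹ * k) (by simpa [mul_assoc] using e))

include f

omit [Finite G] in
theorem ZF.colg {d w : G} (hd : IsConj z d) (hw : IsConj z w) (e : w * d = d * w) (h1 : IsConj z (w * d)) :
    w ∈ Qd Q z d := by
  obtain ⟨g, rfl⟩ := isConj_iff.1 hd
  rw [Qd_eq h, mem_map_conj]
  refine f.col _ (by simpa using isConj_conj hw g⁻¹) ?_ (by simpa [mul_assoc] using isConj_conj h1 g⁻¹)
  calc g⁻¹ * w * g * z = g⁻¹ * (w * (g * z * g⁻¹)) * g := by group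
    _ = _ := by rw [e]; group

omit f in
theorem mul_cases {d w t : G} (hd : IsConj z d) (hw : IsConj z w) (e : d * w = w * d) (h1 : t ∈ Qd Q z d)
    (h2 : t ∈ Qd Q z w) (t1 : t ≠ 1) (tz : ¬ IsConj z t) : d * w = 1 ∨ IsConj z (d * w) ∨ IsConj z (d * w * t) := by
  refine or_iff_not_imp_left.2 fun a1 => or_iff_not_imp_left.2 fun a2 => ?_
  have pd := pre_Qd h hd
  have pw := pre_Qd h hw
  have a3 : w ∉ Qd Q z d := fun a => a2 (e ▸ hw.trans (isConj_mul_of_mem h hd a pw.es.ne_one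
    fun e1 => a1 (by rw [e1, pd.es.mul_self])))
  obtain ⟨a, ha, h3⟩ := exists_conj_eq pw e h2 fun c hc h3 => by
    have h4 := h3.resolve_right fun e1 => a2 (by
      rw [e, show w * d = c⁻¹ * d * c⁻¹⁻¹ by rw [← inv_mul_cancel_left c w, ← e1]; group]
      exact isConj_conj hd _)
    rcases pw.es.commutator hc h2 with e1 | e1
    · exact (comm_of_conj_eq (mul_inv_eq_one.1 e1)).symm
    · exact absurd (e1 ▸ mul_mem (pd.norm c (comm_of_conj_eq h4).symm t h1) (inv_mem h1)) a3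
  have h4 : IsConj z (d * (d * a * d⁻¹ * a⁻¹)) := by
    rw [← mul_assoc, ← mul_assoc, ← mul_assoc, pd.es.mul_self, one_mul, pd.es.inv_eq]
    exact isConj_conj hd a
  rcases h3 with e1 | e1 <;> rw [e1] at h4
  · exact absurd (h4.trans (pd.es.comm_z t h1 ▸ isConj_mul_of_mem h hd h1 t1 fun e2 => tz (e2 ▸ hd)).symm) tz
  · rwa [pw.es.comm_z t h2, ← mul_assoc] at h4

include h8 in
theorem ZF.cent_le (hC : centralizer {z} ≤ M) (hf : ∀ g, g * z * g⁻¹ ∈ M → g ∈ M) {w : G} (hw : IsConj z w)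
    (e : w * z = z * w) (hne : w ≠ z) : centralizer {z * w} ≤ M := fun c hc => by
  have fx : ∀ d, IsConj z d → d ∈ M → ∀ x, x * d * x⁻¹ ∈ M → x ∈ M := fun d hd h1 x h2 => by
    obtain ⟨g, rfl⟩ := isConj_iff.1 hd
    exact (M.mul_mem_cancel_right (hf g h1)).1 (hf (x * g) (by simpa [mul_assoc] using h2))
  have zM : z ∈ M := hC (mem_cent.2 rfl)
  have tM : z * w ∈ M := mul_mem zM (hC (mem_cent.2 e))
  by_contra cM
  have tz : ¬ IsConj z (z * w) := fun h1 => cM (fx _ h1 tM c (by rwa [conj_eq_of_comm (mem_cent.1 hc)]))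
  obtain ⟨u₁, u₂, h3, hu⟩ := f.line w hw e hne (e ▸ tz)
  have zz := h.es.mul_self
  have t1 : z * w ≠ 1 := fun e1 => hne (by rw [← h.es.zz w, e1, mul_one])
  have t2 : z * w * (z * w) = 1 := by rw [mul_assoc, ← mul_assoc w, e, mul_assoc, sq_of_isConj h hw, mul_one, zz]
  have zt : IsConj z (z * w * z) := by rwa [mul_assoc, e, h.es.zz]
  have tc : z * w * z = z * (z * w) := by rw [mul_assoc, e]
  have k1 : ∀ u, IsConj z u → u ∈ Q → u ∈ Qd Q z w → z * w ∈ Qd Q z u := fun u a1 a2 a3 =>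
    mul_mem (Qd_symm h h8 (IsConj.refl z) a1 (by rwa [Qd_z h])) (Qd_symm h h8 hw a1 a3)
  have k2 : ∀ u, u = u₁ ∨ u = u₂ → u ∈ Qd Q z w := fun u a => let ⟨_, a2, a3, a4⟩ := hu u a; f.colg h hw a2 a3 a4
  have k3 : ∀ u, u = u₁ ∨ u = u₂ ∨ u = u₁ * u₂ → IsConj z u ∧ u ∈ Q ∧ z * w ∈ Qd Q z u := by
    rintro u (a | a | rfl)
    · exact ⟨(hu u (Or.inl a)).2.1, (hu u (Or.inl a)).1, k1 u (hu u (Or.inl a)).2.1 (hu u (Or.inl a)).1 (k2 u (Or.inl a))⟩
    · exact ⟨(hu u (Or.inr a)).2.1, (hu u (Or.inr a)).1, k1 u (hu u (Or.inr a)).2.1 (hu u (Or.inr a)).1 (k2 u (Or.inr a))⟩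
    · have a := mul_mem (hu u₁ (Or.inl rfl)).1 (hu u₂ (Or.inr rfl)).1
      exact ⟨h3, a, k1 _ h3 a (mul_mem (k2 _ (Or.inl rfl)) (k2 _ (Or.inr rfl)))⟩
  replace hc := mem_cent.1 hc
  clear k1 k2 hu hne e
  generalize z * w = t at *
  have b1 : ∀ x ∈ M, c⁻¹ * x * c ∈ M → ¬ IsConj z x := fun x a1 a2 a3 =>
    cM (inv_mem_iff.1 (fx x a3 a1 c⁻¹ (by rwa [inv_inv])))
  have ct : c⁻¹ * t * c ∈ M := by rwa [mul_assoc, ← hc, inv_mul_cancel_left]
  have b2 : ∀ x ∈ M, c⁻¹ * x * c ∈ M → ¬ IsConj z (x * t) := fun x a1 a2 =>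
    b1 _ (mul_mem a1 tM) (by simpa [mul_assoc] using mul_mem a2 ct)
  have f3 : ∀ d, IsConj z d → t ∈ Qd Q z d → ¬ IsConj z (t * d) := fun d a1 a2 a3 =>
    tz (a3.trans (isConj_mul_of_mem h a1 a2 t1 fun e => tz (e ▸ a1)).symm)
  have cj : ∀ {d} k, t ∈ Qd Q z d → Commute k t → t ∈ Qd Q z (k * d * k⁻¹) := fun k a1 a2 => by
    simpa only [conj_eq_of_comm a2] using conj_mem_Qd a1 k
  have l1 : ∀ d d', IsConj z d → IsConj z d' → t ∈ Qd Q z d → t ∈ Qd Q z d' → d * d' = d' * d → d * d' ∈ M →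
      c⁻¹ * (d * d') * c ∈ M → d * d' = 1 := fun d d' a1 a2 a3 a4 a5 a6 a7 =>
    ((mul_cases h a1 a2 a5 a3 a4 t1 tz).resolve_right fun a => a.elim (b1 _ a6 a7) (b2 _ a6 a7))
  have key : ∀ u, IsConj z u → u ∈ Q → t ∈ Qd Q z u → ∃ x ∈ M, c⁻¹ * x * c ∈ M ∧ x ≠ 1 ∧ x * x = 1 ∧ x * z = z * x ∧
      Commute x (c * u * c⁻¹) ∧ IsConj z (x * z) ∧ t ∈ Qd Q z (x * z) ∧ IsConj z (x * (c * u * c⁻¹)) := fun u a1 a2 a3 => by
    have a4 := isConj_conj a1 c
    have a5 := cj c a3 hc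
    have a6 : ∀ x, Commute x (c * u * c⁻¹) → c⁻¹ * x * c ∈ M := fun x e => fx u a1 (hC (h.le_cent a2)) _ (by
      rw [show c⁻¹ * x * c * u * (c⁻¹ * x * c)⁻¹ = c⁻¹ * (x * (c * u * c⁻¹)) * x⁻¹ * c by group, e.eq]
      simpa [mul_assoc] using hC (h.le_cent a2))
    generalize c * u * c⁻¹ = v at a4 a5 a6
    have vv := sq_of_isConj h a4
    have gt : ∀ k : ℕ, Commute ((v * z) ^ k) t := fun k =>
      (Commute.mul_left ((pre_Qd h a4).es.comm_z t a5).symm tc.symm).pow_left k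
    rcases dihedral (t := t) vv zz with ⟨k, e | e⟩ | ⟨n, n1, -, n2, k, e⟩
    · have := cj _ a5 (gt k)
      rw [e] at this
      exact absurd zt (f3 z (IsConj.refl z) this)
    · have := cj _ a5 (gt k)
      rw [e] at this
      exact absurd (IsConj.refl z) (by simpa only [← mul_assoc, t2, one_mul] using f3 _ zt this)
    have i1 : v * (v * z) ^ n * v⁻¹ = ((v * z) ^ n)⁻¹ := StrEmb.conj_pow_of_inverts (by
      rw [← mul_assoc, vv, one_mul, mul_inv_rev, h.es.inv_eq]) n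
    have i2 : z * (v * z) ^ n * z⁻¹ = ((v * z) ^ n)⁻¹ := StrEmb.conj_pow_of_inverts (by
      rw [mul_inv_rev, inv_eq_of_mul_eq_one_right vv, mul_assoc, mul_inv_cancel_right, h.es.inv_eq]) n
    have c1 := isConj_conj a4 ((v * z) ^ k)
    have c2 := isConj_conj (IsConj.refl z) ((v * z) ^ (k + 1))
    have c3 := cj _ a5 (gt k)
    generalize (v * z) ^ n = x at n1 n2 e i1 i2
    have xx : x * x = 1 := n2.resolve_right fun e1 => f3 v a4 a5 (by
      rw [← e1, show x * x * v = x * v * (v⁻¹ * x * v) by group, ← inv_inv (v⁻¹ * x * v),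
        show (v⁻¹ * x * v)⁻¹ = v⁻¹ * x⁻¹ * v by group, ← i1, show v⁻¹ * (v * x * v⁻¹) * v = x by group]
      exact isConj_conj a4 x)
    rw [inv_eq_of_mul_eq_one_right xx] at i1 i2
    have xv : Commute x v := (comm_of_conj_eq i1).symm
    have xz := (comm_of_conj_eq i2).symm
    have xM := hC (mem_cent.2 xz)
    rcases e with e | ⟨e1, e2⟩
    · rw [← e] at c1 c3
      refine absurd ?_ n1
      have := l1 _ _ c1 a4 c3 a5 (by rw [← mul_assoc, ← xv.eq]) (by rwa [mul_assoc, vv, mul_one])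
        (by rw [mul_assoc x, vv, mul_one]; exact a6 x xv)
      rwa [mul_assoc, vv, mul_one] at this
    · exact ⟨x, xM, a6 x xv, n1, xx, xz, xv, e1 ▸ c1, e1 ▸ c3, e2 ▸ c2⟩
  have l2 : ∀ d d', IsConj z d → IsConj z d' → t ∈ Qd Q z d → t ∈ Qd Q z d' → d ∈ M → d' ∈ M →
      c⁻¹ * (d * d') * c ∈ M → d * d' = 1 := fun d d' a1 a2 a3 a4 a5 a6 a7 => by
    have dd := sq_of_isConj h a1
    have dd' := sq_of_isConj h a2
    have e4 : (d * d') ^ 4 = 1 := by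
      obtain ⟨g, rfl⟩ := isConj_iff.1 a1
      obtain ⟨k, rfl⟩ := isConj_iff.1 a2
      rw [Qd_eq h, mem_map_conj] at a3 a4
      rcases f.four (g⁻¹ * k) (mul_mem (inv_mem (hf g a5)) (hf k a6)) with e | e
      · rw [show g * z * g⁻¹ * (k * z * k⁻¹) = g * (z * (g⁻¹ * k * z * (g⁻¹ * k)⁻¹)) * g⁻¹ by group, conj_pow, e]
        group
      · exact absurd (by simpa [mul_assoc, inv_mul_eq_one] using e _ a4 (by simpa [mul_assoc] using a3)) t1
    have i1 : d * (d * d') * d⁻¹ = (d * d')⁻¹ := by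
      rw [← mul_assoc, dd, one_mul, mul_inv_rev, inv_eq_of_mul_eq_one_right dd']
    have et : Commute (d * d') t :=
      Commute.mul_left ((pre_Qd h a1).es.comm_z t a3).symm ((pre_Qd h a2).es.comm_z t a4).symm
    have e2 : d * d' * (d * d') = 1 := by
      have i2 : d * d' * d * (d * d')⁻¹ = d * d' * (d * d') * d := by
        rw [← i1, inv_eq_of_mul_eq_one_right dd, mul_assoc (d * d') d, mul_assoc (d * d') (d * d'), mul_assoc d (d * d'),
          ← mul_assoc d d, dd, one_mul]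
      have i3 : d * d' * (d * d') * d * d = d * d' * (d * d') := by rw [mul_assoc, dd, mul_one]
      have i4 : d * (d * d' * (d * d')) * d⁻¹ = d * d' * (d * d') := by
        rw [← conj_mul, i1, ← mul_inv_rev]
        exact inv_eq_of_mul_eq_one_right (by rw [← e4, pow_succ, pow_three]; group)
      rw [← i3]
      exact l1 _ _ (i2 ▸ isConj_conj a1 _) a1 (i2 ▸ cj _ a3 et) a3 (by rw [← mul_assoc d, comm_of_conj_eq i4])
        (i3.symm ▸ mul_mem (mul_mem a5 a6) (mul_mem a5 a6)) (by rw [i3]; simpa [mul_assoc] using mul_mem a7 a7)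
    refine l1 d d' a1 a2 a3 a4 ?_ (mul_mem a5 a6) a7
    rw [← inv_eq_of_mul_eq_one_right e2, mul_inv_rev, inv_eq_of_mul_eq_one_right dd, inv_eq_of_mul_eq_one_right dd']
  obtain ⟨p1, p2, p3⟩ := k3 u₁ (by simp)
  obtain ⟨q1, q2, q3⟩ := k3 u₂ (by simp)
  obtain ⟨r1, r2, r3⟩ := k3 (u₁ * u₂) (by simp)
  obtain ⟨x, x1, x2, x3, x4, x5, x6, x7, x8, x9⟩ := key _ p1 p2 p3
  have uq : ∀ u, IsConj z u → u ∈ Q → t ∈ Qd Q z u → Commute x (c * u * c⁻¹) ∧ IsConj z (x * (c * u * c⁻¹)) :=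
    fun u a1 a2 a3 => by
      obtain ⟨y, y1, y2, -, y4, y5, y6, y7, y8, y9⟩ := key _ a1 a2 a3
      have e1 : x * z * (y * z) = x * y := by rw [y5, mul_assoc, h.es.zz]
      have := l2 _ _ x7 y7 x8 y8 (mul_mem x1 zM) (mul_mem y1 zM) (by rw [e1]; simpa [mul_assoc] using mul_mem x2 y2)
      rw [e1, ← y4, mul_left_inj] at this
      exact this ▸ ⟨y6, y9⟩
  obtain ⟨y1, y2⟩ := uq _ q1 q2 q3
  obtain ⟨-, y3⟩ := uq _ r1 r2 r3
  replace p1 := isConj_conj p1 c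
  replace q1 := isConj_conj q1 c
  replace r1 := isConj_conj r1 c
  rw [← conj_mul] at y3 r1
  generalize c * u₁ * c⁻¹ = a at *
  generalize c * u₂ * c⁻¹ = b at *
  have aa := sq_of_isConj h p1
  have ab : Commute a b := by
    rw [Commute, SemiconjBy, ← inv_eq_of_mul_eq_one_right (sq_of_isConj h r1), mul_inv_rev,
      inv_eq_of_mul_eq_one_right aa, inv_eq_of_mul_eq_one_right (sq_of_isConj h q1)]
  have c1 : Commute b (x * a) := y1.symm.mul_right ab.symm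
  have c2 : Commute a (x * a) := x6.symm.mul_right (Commute.refl a)
  have m1 := f.colg h x9 q1 c1 (by rwa [c1.eq, mul_assoc])
  have m2 := f.colg h x9 r1 (c2.mul_left c1) (by rwa [(c2.mul_left c1).eq, mul_assoc, ← mul_assoc a, aa, one_mul])
  have m3 := isConj_mul_of_mem h x9 ((mul_mem_cancel_right m1).1 m2) (pre_Qd h p1).es.ne_one
    fun e => x3 (by simpa using e)
  rw [c2.eq, mul_assoc, aa, mul_one] at m3
  exact b1 x x1 x2 (p1.trans m3)

include h8 in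
theorem ZF.eq_top [IsSimpleGroup G] (hC : centralizer {z} ≤ M) (hf : ∀ g, g * z * g⁻¹ ∈ M → g ∈ M) : M = ⊤ := by
  by_contra hM
  obtain ⟨S, hQ, hS⟩ := h.exists_sylow
  obtain ⟨H, hH⟩ := Cfsg.Agent.S1175.result M hM z h.es.orderOf_eq (hC (mem_cent.2 rfl))
    ⟨S, hQ h.es.mem, fun s hs => mem_cent.1 (hS hs)⟩ hf
    fun g e hne => f.cent_le h h8 hC hf (isConj_iff.2 ⟨g, rfl⟩) e.symm hne
  obtain ⟨t, t1, t2⟩ := f.ex
  have := StrEmb.nontrivial_quotient hH.1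
  exact t2 ((StrEmb.uniqueFix_of_isStronglyEmbedded hH).isConj h.es.orderOf_eq t1)

end

end CfsgLib.E62
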