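import Mathlib
import Cfsg.Agent.Lib.CT.Hom
import Cfsg.Agent.Lib.BN.Parabolic
import Cfsg.Agent.Lib.BN.Matsumoto

/-!
# A group with a (B,N)-pair is the amalgam of its minimal parabolic subgroups modulo the braid relations
-/

set_option autoImplicit false

namespace CfsgLib.E62

open CfsgLib.CT CfsgLib.BN

namespace Tits

variable {G Γ : Type*} [Group G] [Group Γ] {P : Cfsg.BNPair G} {F : G → Γ}

/-- the graph of `F` over `K` -/
def gr (F : G → Γ) (K : Subgroup G) (h : MulOn K F) : Subgroup (Γ × G) where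
  carrier := {p | p.2 ∈ K ∧ p.1 = F p.2}
  one_mem' := ⟨one_mem _, h.one.symm⟩
  mul_mem' := by
    rintro ⟨a, x⟩ ⟨b, y⟩ ⟨hx, ha⟩ ⟨hy, hb⟩
    exact ⟨mul_mem hx hy, by simp only [Prod.fst_mul, Prod.snd_mul] at *; rw [h x hx y hy, ha, hb]⟩
  inv_mem' := by
    rintro ⟨a, x⟩ ⟨hx, ha⟩
    exact ⟨inv_mem hx, by simp only [Prod.fst_inv, Prod.snd_inv] at *; rw [h.inv hx, ha]⟩

theorem mem_gr {K : Subgroup G} {h : MulOn K F} {p : Γ × G} : p ∈ gr F K h ↔ p.2 ∈ K ∧ p.1 = F p.2 := Iff.rfl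

theorem mk_mem_gr {K : Subgroup G} (h : MulOn K F) {x : G} (hx : x ∈ K) : (F x, x) ∈ gr F K h := ⟨hx, rfl⟩

theorem gr_of {K K' : Subgroup G} {h : MulOn K F} {h' : MulOn K' F} {p : Γ × G} (hp : p ∈ gr F K h)
    (h2 : p.2 ∈ K') : p ∈ gr F K' h' := ⟨h2, hp.2⟩

theorem mulOn_T (hB : MulOn P.B F) : MulOn (P.B ⊓ P.N) F := hB.mono inf_le_left

/-- lift of `N` -/
def gN (hB : MulOn P.B F) : Subgroup (Γ × G) :=
  gr F (P.B ⊓ P.N) (mulOn_T hB) ⊔ Subgroup.closure (Set.range fun s : P.S => (F s, (s : G)))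

theorem s_mem_gN (hB : MulOn P.B F) (s : P.S) : (F s, (s : G)) ∈ gN hB :=
  Subgroup.mem_sup_right (Subgroup.subset_closure ⟨s, rfl⟩)

theorem snd_mem_N {hB : MulOn P.B F} {p : Γ × G} (hp : p ∈ gN hB) : p.2 ∈ P.N := by
  have : gN hB ≤ P.N.comap (MonoidHom.snd Γ G) := by
    refine sup_le (fun p hp => hp.1.2) ((Subgroup.closure_le _).2 ?_)
    rintro _ ⟨s, rfl⟩
    exact P.subset s.2
  exact this hp

theorem s_mem_par (s : P.S) : (s : G) ∈ P.parabolic {(s : G)} := mem_parabolic_of_mem rfl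

theorem le_normalizer (hB : MulOn P.B F) (h1 : ∀ s ∈ P.S, MulOn (P.parabolic {s}) F) :
    gN hB ≤ Subgroup.normalizer (gr F (P.B ⊓ P.N) (mulOn_T hB) : Set (Γ × G)) := by
  refine sup_le Subgroup.le_normalizer ((Subgroup.closure_le _).2 ?_)
  rintro _ ⟨s, rfl⟩
  have hs := mk_mem_gr (h1 s s.2) (s_mem_par s)
  have hN := P.subset s.2
  rw [SetLike.mem_coe, Subgroup.mem_normalizer_iff]
  intro p
  constructor
  · intro hp
    have hp' : p ∈ gr F _ (h1 s s.2) := gr_of hp (B_le_parabolic _ hp.1.1)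
    exact gr_of (mul_mem (mul_mem hs hp') (inv_mem hs)) (conj_mem_T P hN hp.1)
  · intro hp
    have hp' : _ ∈ gr F _ (h1 s s.2) := gr_of hp (B_le_parabolic _ hp.1.1)
    have := mul_mem (mul_mem (inv_mem hs) hp') hs
    have e : ∀ x : Γ × G, x⁻¹ * (x * p * x⁻¹) * x = p := fun x => by group
    rw [e] at this
    refine gr_of this ?_
    have h3 := conj_mem_T P (inv_mem hN) hp.1
    simp only [Prod.snd_mul, Prod.snd_inv, inv_inv] at h3
    have e' : (s : G)⁻¹ * (s * p.2 * (s : G)⁻¹) * s = p.2 := by group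
    rwa [e'] at h3

theorem cube {H : Type*} [Group H] (x y : H) (hx : x * x = 1) (hy : y * y = 1) (e : x * y * x = y * x * y) :
    (x * y) ^ 3 = 1 :=
  calc (x * y) ^ 3 = (x * y * x) * (y * x * y) := by simp only [pow_succ, pow_zero, one_mul, mul_assoc]
    _ = y * (x * (y * y) * x) * y := by rw [e]; simp only [mul_assoc]
    _ = 1 := by rw [hy, mul_one, hx, mul_one, hy]

theorem mem_T (hB : MulOn P.B F) (h1 : ∀ s ∈ P.S, MulOn (P.parabolic {s}) F)
    (h2 : ∀ s ∈ P.S, ∀ t ∈ P.S, s ≠ t → MulOn (P.parabolic {s, t}) F ∨ ∃ a ∈ P.N, ∃ b ∈ P.N,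
      s⁻¹ * a ∈ P.B ∧ t⁻¹ * b ∈ P.B ∧ a * b * a = b * a * b ∧ F a * F b * F a = F b * F a * F b)
    {p : Γ × G} (hp : p ∈ gN hB) (hp2 : p.2 ∈ P.B) : p ∈ gr F P.B hB := by
  let T := (gr F (P.B ⊓ P.N) (mulOn_T hB)).subgroupOf (gN hB)
  haveI : T.Normal := (Subgroup.normal_subgroupOf_iff_le_normalizer le_sup_left).2 (le_normalizer hB h1)
  let g : P.S → gN hB ⧸ T := fun s => QuotientGroup.mk ⟨_, s_mem_gN hB s⟩
  have gsq : ∀ s, g s * g s = 1 := by
    intro s
    rw [← QuotientGroup.mk_mul, QuotientGroup.eq_one_iff, Subgroup.mem_subgroupOf]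
    have hs := mk_mem_gr (h1 s s.2) (s_mem_par s)
    exact gr_of (mul_mem hs hs) ⟨P.sq_mem s s.2, mul_mem (P.subset s.2) (P.subset s.2)⟩
  have alt : ∀ (s : P.S) a, a ∈ P.N → (s : G)⁻¹ * a ∈ P.B → ∃ h : (F a, a) ∈ gN hB,
      g s = QuotientGroup.mk ⟨_, h⟩ := by
    intro s a ha hsa
    have hs := mk_mem_gr (h1 s s.2) (s_mem_par s)
    have ha' : a ∈ P.parabolic {(s : G)} := by
      have := mul_mem (s_mem_par s) (B_le_parabolic _ hsa)
      rwa [mul_inv_cancel_left] at this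
    have h3 : (F s, (s : G))⁻¹ * (F a, a) ∈ gr F (P.B ⊓ P.N) (mulOn_T hB) :=
      gr_of (mul_mem (inv_mem hs) (mk_mem_gr (h1 s s.2) ha')) ⟨hsa, P.N.mul_mem (P.N.inv_mem (P.subset s.2)) ha⟩
    have h4 : (F a, a) ∈ gN hB := by
      have := mul_mem (s_mem_gN hB s) (Subgroup.mem_sup_left h3 : _ ∈ gN hB)
      rwa [mul_inv_cancel_left] at this
    exact ⟨h4, QuotientGroup.eq.2 (Subgroup.mem_subgroupOf.2 h3)⟩
  obtain ⟨φ, hφ⟩ := (exch P).exists_hom g (by
    intro s t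
    by_cases hst : s = t
    · subst hst; rw [gsq, one_pow]
    rcases h2 s s.2 t t.2 (fun h => hst (Subtype.ext h)) with h | ⟨a, ha, b, hb, hsa, htb, e1, e2⟩
    · rw [← QuotientGroup.mk_mul, ← QuotientGroup.mk_pow, QuotientGroup.eq_one_iff, Subgroup.mem_subgroupOf]
      have hs := mk_mem_gr h (mem_parabolic_of_mem (P := P) (J := {(s : G), (t : G)}) (s := s) (by simp))
      have ht := mk_mem_gr h (mem_parabolic_of_mem (P := P) (J := {(s : G), (t : G)}) (s := t) (by simp))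
      have hN := mul_mem (P.subset s.2) (P.subset t.2)
      refine gr_of (pow_mem (mul_mem hs ht) _) ⟨?_, pow_mem hN _⟩
      have : ∀ k : ℕ, cls P (pow_mem hN k) = (sW P s * sW P t) ^ k := fun k => rfl
      exact (cls_eq_one_iff P (pow_mem hN _)).1 ((this _).trans (pow_orderOf_eq_one _))
    · obtain ⟨ha', ea⟩ := alt s a ha hsa
      obtain ⟨hb', eb⟩ := alt t b hb htb
      have e3 : g s * g t * g s = g t * g s * g t := by
        rw [ea, eb, ← QuotientGroup.mk_mul, ← QuotientGroup.mk_mul, ← QuotientGroup.mk_mul, ← QuotientGroup.mk_mul]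
        congr 1
        exact Subtype.ext (Prod.ext e2 e1)
      have ca : sW P s = cls P ha := (cls_eq_iff P _ _).2 hsa
      have cb : sW P t = cls P hb := (cls_eq_iff P _ _).2 htb
      have e4 : sW P s * sW P t * sW P s = sW P t * sW P s * sW P t := by
        rw [ca, cb, ← cls_mul, ← cls_mul, ← cls_mul, ← cls_mul]
        congr 1
      have o3 : orderOf (sW P s * sW P t) = 3 := by
        haveI : Fact (Nat.Prime 3) := ⟨by norm_num⟩
        refine orderOf_eq_prime (cube _ _ (sW_sq s) (sW_sq t) e4) fun h => hst (sW_injective ?_)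
        rw [mul_eq_one_iff_eq_inv, sW_inv] at h
        exact h
      rw [exch_s, exch_s, o3]
      exact cube _ _ (gsq s) (gsq t) e3)
  -- `φ (cls p.2) = mk p`
  have key : ∀ p (hp : p ∈ gN hB), φ (cls P (snd_mem_N hp)) = QuotientGroup.mk ⟨p, hp⟩ := by
    intro p hp
    have hp' := hp
    rw [gN, ← Subgroup.closure_eq (gr F _ _), ← Subgroup.closure_union] at hp'
    induction hp' using Subgroup.closure_induction with
    | mem x hx =>
      rcases hx with hx | ⟨s, rfl⟩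
      · rw [(cls_eq_one_iff P _).2 hx.1.1, map_one, eq_comm, QuotientGroup.eq_one_iff]
        exact Subgroup.mem_subgroupOf.2 hx
      · exact hφ s
    | one => exact (congrArg φ (cls_one P)).trans (map_one φ)
    | mul x y hx hy ihx ihy =>
      rw [Subgroup.closure_union, Subgroup.closure_eq] at hx hy
      have := congrArg₂ (· * ·) (ihx hx) (ihy hy)
      simp only [← map_mul] at this
      exact this
    | inv x hx ih =>
      rw [Subgroup.closure_union, Subgroup.closure_eq] at hx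
      have := congrArg (·⁻¹) (ih hx)
      simp only [← map_inv] at this
      exact this
  have := key p hp
  rw [(cls_eq_one_iff P _).2 hp2, map_one, eq_comm, QuotientGroup.eq_one_iff, Subgroup.mem_subgroupOf] at this
  exact gr_of this hp2

theorem mem_B_of {s : P.S} {w : W P} (h : (exch P).P s w) {y n : G} (hy : y ∈ P.parabolic {(s : G)})
    (hn : n ∈ cell P w) (hyn : y * n ∈ cell P w) : y ∈ P.B := by
  rcases mem_parabolic_singleton.1 hy with h' | h'
  · exact h'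
  · exact absurd (by simpa using cell_unique (h y h' n hn) hyn) (sW_ne_one s)

section
variable {hB : MulOn P.B F} (h1 : ∀ s ∈ P.S, MulOn (P.parabolic {s}) F)
  (hT : ∀ p ∈ gN hB, p.2 ∈ P.B → p ∈ gr F P.B hB)
include h1 hT

theorem conj_mem (w : W P) : ∀ n (hn : n ∈ gN hB), cls P (snd_mem_N hn) = w → ∀ y ∈ gr F P.B hB,
    n.2⁻¹ * y.2 * n.2 ∈ P.B → n⁻¹ * y * n ∈ gr F P.B hB := by
  induction w using (exch P).induction_red_left with
  | h1 =>
    intro n hn hw y hy _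
    have := hT n hn ((cls_eq_one_iff P _).1 hw)
    exact mul_mem (mul_mem (inv_mem this) hy) this
  | hs s w hsw ih =>
    intro n hn hw y hy hc
    have hs := mk_mem_gr (h1 s s.2) (s_mem_par s)
    have hn' := mul_mem (inv_mem (s_mem_gN hB s)) hn
    have hw' : cls P (snd_mem_N hn') = w := by
      have : cls P (snd_mem_N hn') = (sW P s)⁻¹ * cls P (snd_mem_N hn) := rfl
      rw [this, hw, exch_s, inv_mul_cancel_left]
    have hy' := mul_mem (mul_mem (inv_mem hs) (gr_of (h' := h1 s s.2) hy (B_le_parabolic _ hy.1))) hs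
    have c1 : (s : G)⁻¹ * n.2 ∈ cell P w := hw' ▸ self_mem_cell P (snd_mem_N hn')
    have hB' : (s : G)⁻¹ * y.2 * s ∈ P.B := by
      refine mem_B_of hsw hy'.1 c1 ?_
      have : (s : G)⁻¹ * y.2 * s * ((s : G)⁻¹ * n.2) = (s : G)⁻¹ * n.2 * (n.2⁻¹ * y.2 * n.2) := by group
      rw [this]
      exact mul_B_mem_cell c1 hc
    have := ih _ hn' hw' _ (gr_of hy' hB') (by
      simp only [Prod.snd_mul, Prod.snd_inv]
      have : ((s : G)⁻¹ * n.2)⁻¹ * ((s : G)⁻¹ * y.2 * s) * ((s : G)⁻¹ * n.2) = n.2⁻¹ * y.2 * n.2 := by group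
      rwa [this])
    have e : ∀ x : Γ × G, (x⁻¹ * n)⁻¹ * (x⁻¹ * y * x) * (x⁻¹ * n) = n⁻¹ * y * n := fun x => by group
    rwa [e] at this

/-- the union of the lifted cells -/
def Cells (hB : MulOn P.B F) (p : Γ × G) : Prop :=
  ∃ b ∈ gr F P.B hB, ∃ n ∈ gN hB, ∃ b' ∈ gr F P.B hB, p = b * n * b'

theorem step_up (s : P.S) {b n : Γ × G} (hb : b ∈ gr F P.B hB) (hn : n ∈ gN hB)
    (h : (exch P).P s (cls P (snd_mem_N hn))) : Cells hB ((F s, (s : G)) * b * n) := by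
  have hN := snd_mem_N hn
  have hs := mk_mem_gr (h1 s s.2) (s_mem_par s)
  have c0 := self_mem_cell P hN
  have c1 : (s : G) * b.2 * n.2 ∈ cell P (cls P (mul_mem (P.subset s.2) hN)) :=
    h _ (mul_B_mem_cell (S_mem_cell s) hb.1) _ c0
  obtain ⟨b1, hb1, b2, hb2, e⟩ := (mem_cell_cls P _).1 c1
  have ey : (s : G)⁻¹ * b1⁻¹ * s * b.2 = n.2 * b2 * n.2⁻¹ := by
    have : b.2 = (s : G)⁻¹ * (b1 * (s * n.2) * b2) * n.2⁻¹ := by rw [← e]; group
    rw [this]; group
  have hy : n.2 * b2 * n.2⁻¹ ∈ P.B := by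
    refine mem_B_of h ?_ c0 ?_
    · rw [← ey]
      exact mul_mem (mul_mem (mul_mem (inv_mem (s_mem_par s)) (B_le_parabolic _ (inv_mem hb1))) (s_mem_par s))
        (B_le_parabolic _ hb.1)
    · rw [inv_mul_cancel_right]
      exact mul_B_mem_cell c0 hb2
  have hy' := mk_mem_gr hB hy
  have a1 := conj_mem h1 hT _ n hn rfl _ hy' (by
    have : n.2⁻¹ * (n.2 * b2 * n.2⁻¹) * n.2 = b2 := by group
    rwa [this])
  have a2 := mul_mem hb (inv_mem hy')
  have a3 := mul_mem (mul_mem hs (gr_of (h' := h1 s s.2) a2 (B_le_parabolic _ a2.1))) (inv_mem hs)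
  have a4 := gr_of (h' := hB) a3 (by
    simp only [Prod.snd_mul, Prod.snd_inv]
    rw [← ey]
    have : (s : G) * (b.2 * ((s : G)⁻¹ * b1⁻¹ * s * b.2)⁻¹) * (s : G)⁻¹ = b1 := by group
    rwa [this])
  refine ⟨_, a4, _, mul_mem (s_mem_gN hB s) hn, _, a1, ?_⟩
  group

omit h1 hT in
theorem Cells.B_mul {b p : Γ × G} (hb : b ∈ gr F P.B hB) (hp : Cells hB p) : Cells hB (b * p) := by
  obtain ⟨b1, h1, n, hn, b2, h2, rfl⟩ := hp
  exact ⟨_, mul_mem hb h1, n, hn, b2, h2, by group⟩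

omit h1 hT in
theorem Cells.mul_B {b p : Γ × G} (hp : Cells hB p) (hb : b ∈ gr F P.B hB) : Cells hB (p * b) := by
  obtain ⟨b1, h1, n, hn, b2, h2, rfl⟩ := hp
  exact ⟨_, h1, n, hn, _, mul_mem h2 hb, by group⟩

theorem Cells.s_mul (s : P.S) {p : Γ × G} (hp : Cells hB p) : Cells hB ((F s, (s : G)) * p) := by
  obtain ⟨b, hb, n, hn, b', hb', rfl⟩ := hp
  rw [← mul_assoc, ← mul_assoc]
  refine Cells.mul_B ?_ hb'
  by_cases h : (exch P).P s (cls P (snd_mem_N hn))
  · exact step_up h1 hT s hb hn h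
  have hs := mk_mem_gr (h1 s s.2) (s_mem_par s)
  have hn' := mul_mem (inv_mem (s_mem_gN hB s)) hn
  have hw' : cls P (snd_mem_N hn') = sW P s * cls P (snd_mem_N hn) := by
    rw [← sW_inv]; rfl
  have h' : (exch P).P s (cls P (snd_mem_N hn')) := by
    rw [hw', (exch P).P_iff, exch_s, ← mul_assoc, sW_sq, one_mul]
    have := (exch P).len_lt_of_not_P h
    rw [exch_s] at this
    omega
  have hx := mul_mem (mul_mem hs (gr_of (h' := h1 s s.2) hb (B_le_parabolic _ hb.1))) hs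
  have e : ∀ x : Γ × G, x * b * n = x * b * x * (x⁻¹ * n) := fun x => by group
  rw [e]
  generalize (F s, (s : G)) * b * (F s, (s : G)) = x at hx
  rcases mem_parabolic_singleton.1 hx.1 with hc | hc
  · exact ⟨x, gr_of hx hc, _, hn', 1, one_mem _, by rw [mul_one]⟩
  · obtain ⟨b1, hb1, b2, hb2, e⟩ := (mem_cell_cls P (P.subset s.2)).1 hc
    have hx' := mul_mem (mul_mem (mk_mem_gr (h1 s s.2) (B_le_parabolic _ hb1)) hs)
      (mk_mem_gr (h1 s s.2) (B_le_parabolic _ hb2))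
    have : x = (F b1, b1) * (F s, (s : G)) * (F b2, b2) := by
      refine Prod.ext ?_ e
      rw [hx.2, hx'.2, e]; rfl
    rw [this, mul_assoc, mul_assoc, ← mul_assoc (F s, (s : G))]
    exact Cells.B_mul (mk_mem_gr hB hb1) (step_up h1 hT s (mk_mem_gr hB hb2) hn' h')

theorem cells_of_mem {p : Γ × G}
    (hp : p ∈ Subgroup.closure ((gr F P.B hB : Set (Γ × G)) ∪ Set.range fun s : P.S => (F s, (s : G)))) :
    Cells hB p := by
  induction hp using Subgroup.closure_induction_left with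
  | one => exact ⟨1, one_mem _, 1, one_mem _, 1, one_mem _, by simp⟩
  | mul_left x hx y _ ih =>
    rcases hx with hx | ⟨s, rfl⟩
    · exact ih.B_mul hx
    · exact ih.s_mul h1 hT s
  | inv_mul_cancel x hx y _ ih =>
    rcases hx with hx | ⟨s, rfl⟩
    · exact ih.B_mul (inv_mem hx)
    · have hs := mk_mem_gr (h1 s s.2) (s_mem_par s)
      have := (ih.s_mul h1 hT s).B_mul (inv_mem (gr_of (h' := hB) (mul_mem hs hs) (P.sq_mem s s.2)))
      have e : ∀ x : Γ × G, (x * x)⁻¹ * (x * y) = x⁻¹ * y := fun x => by group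
      rwa [e] at this

end

end Tits

open Tits in
theorem exists_hom_of_bn {G Γ : Type*} [Group G] [Group Γ] (P : Cfsg.BNPair G) (F : G → Γ) (hB : MulOn P.B F)
    (h1 : ∀ s ∈ P.S, MulOn (P.parabolic {s}) F)
    (h2 : ∀ s ∈ P.S, ∀ t ∈ P.S, s ≠ t → MulOn (P.parabolic {s, t}) F ∨ ∃ a ∈ P.N, ∃ b ∈ P.N,
      s⁻¹ * a ∈ P.B ∧ t⁻¹ * b ∈ P.B ∧ a * b * a = b * a * b ∧ F a * F b * F a = F b * F a * F b) :
    ∃ φ : G →* Γ, (∀ b ∈ P.B, φ b = F b) ∧ ∀ s ∈ P.S, φ s = F s := by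
  let H := Subgroup.closure ((gr F P.B hB : Set (Γ × G)) ∪ Set.range fun s : P.S => (F s, (s : G)))
  have hT : ∀ p ∈ gN hB, p.2 ∈ P.B → p ∈ gr F P.B hB := fun p hp h => mem_T hB h1 h2 hp h
  let π : H →* G := (MonoidHom.snd Γ G).comp H.subtype
  have inj : Function.Injective π := by
    rw [injective_iff_map_eq_one]
    rintro ⟨p, hp⟩ h
    have h' : p.2 = 1 := h
    obtain ⟨b, hb, n, hn, b', hb', rfl⟩ := cells_of_mem h1 hT hp
    have hnB : n.2 ∈ P.B := by
      have : n.2 = b.2⁻¹ * (b * n * b').2 * b'.2⁻¹ := by simp only [Prod.snd_mul]; group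
      rw [this, h']
      exact mul_mem (mul_mem (inv_mem hb.1) (one_mem _)) (inv_mem hb'.1)
    have := (mul_mem (mul_mem hb (hT n hn hnB)) hb').2
    rw [h', hB.one] at this
    exact Subtype.ext (Prod.ext this h')
  have mB : ∀ b ∈ P.B, (F b, b) ∈ H := fun b hb => Subgroup.subset_closure (Or.inl (mk_mem_gr hB hb))
  have mS : ∀ s ∈ P.S, (F s, s) ∈ H := fun s hs => Subgroup.subset_closure (Or.inr ⟨⟨s, hs⟩, rfl⟩)
  have surj : Function.Surjective π := by
    rw [← MonoidHom.range_eq_top, eq_top_iff, ← parabolic_S (P := P)]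
    exact parabolic_le (fun b hb => ⟨⟨_, mB b hb⟩, rfl⟩) fun s hs => ⟨⟨_, mS s hs⟩, rfl⟩
  let e := MulEquiv.ofBijective π ⟨inj, surj⟩
  have he : ∀ x (h : (F x, x) ∈ H), e.symm x = ⟨_, h⟩ := fun x h => e.symm_apply_eq.2 rfl
  refine ⟨((MonoidHom.fst Γ G).comp H.subtype).comp e.symm.toMonoidHom, fun b hb => ?_, fun s hs => ?_⟩
  · change (e.symm b).1.1 = _
    rw [he b (mB b hb)]
  · change (e.symm s).1.1 = _
    rw [he s (mS s hs)]

end CfsgLib.E62
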