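import Mathlib
import Cfsg.Agent.Lib.E62.RAmal
import Cfsg.Agent.Lib.E62.RLink
import Cfsg.Agent.Lib.E62.RTits
import Cfsg.Agent.Lib.E62.ROnto
import Cfsg.Agent.Lib.LargeExtra.Struct

/-!
# Recognition of a group from `C(z) = 2^(1+20).U₆(2)`
-/

set_option autoImplicit false

namespace CfsgLib.E62

open Subgroup CfsgLib.LargeExtra CfsgLib.ExtraTwo CfsgLib.CT CfsgLib.BN

variable {G G' L : Type*} [Group G] [Group G'] [Group L] {T A P : Subgroup L} {Q : Subgroup G} {z : G}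
  {Q' : Subgroup G'} {z' : G'}

theorem ZF.map (f : ZF ⊤ Q' z') (φ : G' →* G) (hi : Function.Injective φ) (hz : φ z' = z) (hQ : Q'.map φ = Q)
    (hC : centralizer {z} ≤ φ.range) (hf : ∀ y, IsConj z (φ y) → IsConj z' y) : ZF φ.range Q z := by
  subst hz hQ
  refine ⟨?_, fun w h1 h2 h3 => ?_, fun w h1 h2 h3 h4 => ?_, ?_⟩
  · rintro _ ⟨g, rfl⟩
    refine (f.four g (mem_top g)).imp (fun e => by simpa using congrArg φ e) ?_
    rintro h _ ⟨x, hx, rfl⟩ ⟨y, hy, e⟩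
    rw [h x hx (by rwa [hi (show φ (g * x * g⁻¹) = φ y by simpa using e.symm)]), map_one]
  · obtain ⟨w, rfl⟩ := hC (mem_cent.2 h2)
    exact mem_map_of_mem φ (f.col w (hf w h1) (hi (by simpa using h2)) (hf _ (by simpa using h3)))
  · obtain ⟨w, rfl⟩ := hC (mem_cent.2 h2)
    obtain ⟨u₁, u₂, a, b⟩ := f.line w (hf w h1) (hi (by simpa using h2)) (fun e => h3 (congrArg φ e))
      fun e => h4 (by simpa using φ.map_isConj e)
    have c : ∀ u, u = u₁ ∨ u = u₂ → φ u ∈ Q'.map φ ∧ IsConj (φ z') (φ u) ∧ φ u * φ w = φ w * φ u ∧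
        IsConj (φ z') (φ u * φ w) := fun u hu =>
      let ⟨b1, b2, b3, b4⟩ := b u hu
      ⟨mem_map_of_mem φ b1, φ.map_isConj b2, by simpa using congrArg φ b3, by simpa using φ.map_isConj b4⟩
    exact ⟨φ u₁, φ u₂, by simpa using φ.map_isConj a, by rintro _ (rfl | rfl); exacts [c _ (Or.inl rfl), c _ (Or.inr rfl)]⟩
  · obtain ⟨t, t1, t2⟩ := f.ex
    exact ⟨φ t, by rw [orderOf_injective φ hi, t1], fun e => t2 (hf t e)⟩

theorem Six.eq_pCore [Finite G] (hM : U6Mod L) (hL : U6Loc T A P) {f : centralizer ({z} : Set G) →* L}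
    (h : Six Q z f) : Q = amb (Cfsg.pCore 2 (centralizer ({z} : Set G))) := by
  have := hM.simple
  have : Fact (Nat.Prime 2) := ⟨Nat.prime_two⟩
  have := h.pre.normal_subgroupOf
  rw [← h.pre.amb_subgroupOf]
  refine congrArg amb (le_antisymm (Core.le_pCore (h.pre.es.isPGroup.comap_subtype)) fun x hx => (h.ker x).1 ?_)
  rcases IsSimpleGroup.eq_bot_or_eq_top_of_normal _ (Normal.map inferInstance f h.surj :
    ((Cfsg.pCore 2 (centralizer ({z} : Set G))).map f).Normal) with e | e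
  · exact mem_bot.1 (e ▸ mem_map_of_mem f hx)
  have h1 := (Core.isPGroup_pCore 2 (centralizer ({z} : Set G))).map f
  rw [e] at h1
  have := h.finite
  have := (h1.of_equiv topEquiv).isNilpotent
  by_cases hP : P = ⊥
  · exact absurd (fun x hx y _ => by rw [mem_bot.1 (hP.le hx)]; simp) hL.not_comm
  · exact absurd hL.perf (Group.IsSolvable.commutator_lt_of_ne_bot hP).ne

theorem exists_hom_of_model [Finite G] [Finite G'] (hM : U6Mod L) (hL : U6Loc T A P)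
    {f : centralizer ({z} : Set G) →* L} (h : Six Q z f) {Qs : Subgroup G} {s : G} (p : Pair Q Qs z s)
    {R : Cfsg.BNPair G'} {n : Fin 4 → G'} {U : Subgroup G'} {m₁ m₂ x₁ x₂ : G'} {f' : centralizer ({z'} : Set G') →* L}
    (m : Model R n Q' U z' m₁ m₂ x₁ x₂ f') : ∃ φ : G' →* G, φ z' = z ∧ φ (m₁ * z' * m₁⁻¹) = s ∧ (∀ x ∈ Q', φ x ∈ Q) ∧
      centralizer {z} ≤ φ.range := by
  have p' := m.six.pre.pair (by rw [m.six.card]; norm_num) m.s_mem m.s_ne
  have hn : ∀ i, n i ∈ R.S := fun i => m.S_eq ▸ ⟨i, rfl⟩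
  have BC : R.B ≤ centralizer {z'} := m.cent ▸ B_le_parabolic _
  have BN := (B_le_parabolic _).trans m.norm
  obtain ⟨R', hR⟩ : ∃ R' : Cfsg.BNPair (centralizer ({z'} : Set G')), R'.B = R.B.subgroupOf _ := by
    rw [m.cent]
    exact exists_bn_parabolic R (by rintro _ (rfl | rfl | rfl) <;> exact hn _)
  obtain ⟨K, hK⟩ := exists_link hM hL h m.six p p' R' (hR ▸ m.odd.of_dvd_nat (relIndex_dvd_index_of_le BC))
    fun b hb => Pair.conj_s_cases p' (mem_cent.1 b.2) (BN (hR ▸ hb :))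
  obtain ⟨F, F1, F2, F3, F4, F5, F6, F7⟩ := hK.exists_map (h.pin hM hL p) (m.six.pin hM hL p')
  have m1 : m₁ ∈ normalizer ((closure {z', m₁ * z' * m₁⁻¹} : Subgroup G') : Set G') := by
    simpa using mul_mem (m.norm (mem_parabolic_of_mem (s := n 0) (by simp))) (BN m.m₁_mem.2)
  have m2 : m₂ ∈ centralizer {z'} := by
    simpa using mul_mem (m.cent.ge (mem_parabolic_of_mem (s := n 1) (by simp))) (BC m.m₂_mem.2)
  have cj : ∀ {K : Subgroup G'}, MulOn K F → ∀ a ∈ K, ∀ b ∈ K, F (a * b * a⁻¹) = F a * F b * (F a)⁻¹ :=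
    fun h a ha b hb => by rw [h _ (mul_mem ha hb) _ (inv_mem ha), h a ha b hb, h.inv ha]
  have inj : ∀ a ∈ centralizer {z'}, ∀ b ∈ centralizer {z'}, F a = F b → a = b := fun a ha b hb e =>
    inv_mul_eq_one.1 (F4 _ (mem_cent.1 (mul_mem (inv_mem ha) hb)) (by rw [F1 _ (inv_mem ha) b hb, F1.inv ha, e, inv_mul_cancel]))
  have cube : ∀ {K : Subgroup G'}, MulOn K F → ∀ a ∈ K, F (a ^ 3) = F a ^ 3 := fun h a ha => by
    rw [pow_three, pow_three, h a ha _ (mul_mem ha ha), h a ha a ha]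
  have aa : F m₁ * F m₁ = 1 := by rw [← F2 _ m1 _ m1, m.sq.1, F1.one]
  have bb : F m₂ * F m₂ = 1 := by rw [← F1 _ m2 _ m2, m.sq.2, F1.one]
  have c1 : ∀ u ∈ U, m₁ * m₂ * u * (m₁ * m₂)⁻¹ ∈ U ∧
      F (m₁ * m₂ * u * (m₁ * m₂)⁻¹) = F m₁ * F m₂ * F u * (F m₁ * F m₂)⁻¹ := fun u hu => by
    have h1 := (m.U_norm.2 u).1 hu
    rw [conj_mul', conj_mul', cj F2 _ m1 _ (BN (m.U_le h1)), cj F1 _ m2 _ (BC (m.U_le hu))]
    exact ⟨(m.U_norm.1 _).1 h1, rfl⟩
  have c2 : ∀ u ∈ U, (F m₁ * F m₂) ^ 3 * F u = F u * (F m₁ * F m₂) ^ 3 := fun u hu => by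
    obtain ⟨h1, e1⟩ := c1 u hu
    obtain ⟨h2, e2⟩ := c1 _ h1
    have e3 := (c1 _ h2).2
    rw [e2, e1, ← conj_mul', ← conj_mul', ← conj_mul', ← conj_mul', mul_assoc (m₁ * m₂), mul_assoc (F m₁ * F m₂),
      ← pow_three, ← pow_three, Tits.cube _ _ m.sq.1 m.sq.2 m.braid, one_mul, inv_one, mul_one] at e3
    exact comm_of_conj_eq e3.symm
  obtain ⟨r, r1, r2⟩ := F3 _ (F5 ▸ c2 z' m.z_mem)
  replace r1 := mem_cent.2 r1
  have c3 : ∀ u ∈ Q' ⊓ U, r * u = u * r := fun u hu => by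
    have h1 := BC (m.U_le hu.2)
    exact inj _ (mul_mem r1 h1) _ (mul_mem h1 r1) (by rw [F1 _ r1 _ h1, F1 _ h1 _ r1, r2, c2 u hu.2])
  obtain ⟨r3, r4⟩ := m.last r (m.six.mem_of_comm hM hL m.U_idx (mem_cent.1 r1) c3) c3
  have x2 := BC m.x_mem.2.2
  have r5 := r4 (comm_of_conj_eq (inj _ (BC (m.U_le (c1 r r3).1)) _ r1 (by
      rw [(c1 r r3).2, r2, conj_eq_of_comm ((Commute.refl _).pow_right 3)])))
    (F4 _ (mem_cent.1 (pow_mem (mul_mem (mul_mem r1 m2) x2) 3)) (by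
      rw [cube F1 _ (mul_mem (mul_mem r1 m2) x2), F1 _ (mul_mem r1 m2) _ x2, F1 _ r1 _ m2, r2, ← m.x_conj,
        cj F2 _ m1 _ (BN m.x_mem.2.1), cj F1 _ m2 _ (BC m.x_mem.1), ← conj_mul']
      have e := cube F2 _ (mul_mem m1 (BN m.x_mem.1))
      rw [m.cube, F1.one, F2 _ m1 _ (BN m.x_mem.1)] at e
      generalize F m₁ = a at *
      generalize F m₂ = b at *
      rw [show (a * b) ^ 3 * b * (a * b * F x₁ * (a * b)⁻¹) =
        a * b * a * b * a * (b * b) * a * b * F x₁ * (a * b)⁻¹ by rw [pow_three]; group, bb, mul_one,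
        mul_assoc _ a a, aa, mul_one, mul_assoc _ b b, bb, mul_one, mul_assoc (a * b) a, conj_pow, ← e]
      group))
  have br : F m₁ * F m₂ * F m₁ = F m₂ * F m₁ * F m₂ := by
    rw [r5, F1.one, pow_three] at r2
    generalize F m₁ = a at *
    generalize F m₂ = b at *
    calc a * b * a = a * b * a * (b * (a * (b * b) * a) * b) := by rw [bb, mul_one, aa, mul_one, bb, mul_one]
      _ = a * b * (a * b * (a * b)) * (b * a * b) := by group
      _ = _ := by rw [← r2, one_mul]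
  have g1 : ∀ {q : Prop} i j, n i ∈ ({n 1, n 2, n 3} : Set G') ∧ n j ∈ ({n 1, n 2, n 3} : Set G') →
      MulOn (R.parabolic {n i, n j}) F ∨ q := fun i j h =>
    Or.inl (F1.mono ((parabolic_mono (Set.pair_subset h.1 h.2)).trans m.cent.ge))
  have g2 : ∀ {q : Prop} i j, n i ∈ ({n 0, n 2, n 3} : Set G') ∧ n j ∈ ({n 0, n 2, n 3} : Set G') →
      MulOn (R.parabolic {n i, n j}) F ∨ q := fun i j h =>
    Or.inl (F2.mono ((parabolic_mono (Set.pair_subset h.1 h.2)).trans m.norm))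
  obtain ⟨φ, h1, h2⟩ := exists_hom_of_bn R F (F1.mono BC) (fun t ht => by
      obtain ⟨i, rfl⟩ := m.S_eq.le ht
      fin_cases i
      · exact F2.mono ((parabolic_mono (by simp)).trans m.norm)
      all_goals exact F1.mono ((parabolic_mono (by simp)).trans m.cent.ge))
    (fun t ht t' ht' _ => by
      obtain ⟨i, rfl⟩ := m.S_eq.le ht
      obtain ⟨j, rfl⟩ := m.S_eq.le ht'
      fin_cases i <;> fin_cases j
      exacts [g2 0 0 (by simp), Or.inr ⟨m₁, m.m₁_mem.1, m₂, m.m₂_mem.1, m.m₁_mem.2, m.m₂_mem.2, m.braid, br⟩,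
        g2 0 2 (by simp), g2 0 3 (by simp),
        Or.inr ⟨m₂, m.m₂_mem.1, m₁, m.m₁_mem.1, m.m₂_mem.2, m.m₁_mem.2, m.braid.symm, br.symm⟩,
        g1 1 1 (by simp), g1 1 2 (by simp), g1 1 3 (by simp), g2 2 0 (by simp), g1 2 1 (by simp), g1 2 2 (by simp),
        g1 2 3 (by simp), g2 3 0 (by simp), g1 3 1 (by simp), g1 3 2 (by simp), g1 3 3 (by simp)])
  have h3 : ∀ c ∈ centralizer {z'}, φ c = F c := fun c hc => by
    refine (mulOn_hom ⊤ φ).eq_of_closure F1 (s := R.B ∪ {n 1, n 2, n 3}) (Set.subset_univ _)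
      (Set.union_subset BC fun x hx => m.cent.ge (mem_parabolic_of_mem hx)) ?_ ?_
    · rintro x (hx | rfl | rfl | rfl)
      exacts [h1 x hx, h2 _ (hn _), h2 _ (hn _), h2 _ (hn _)]
    · rw [Subgroup.closure_union, closure_eq]
      exact m.cent.le hc
  refine ⟨φ, (h3 _ (mem_cent.2 rfl)).trans F5, (h3 _ (m.six.pre.le_cent m.s_mem)).trans F6,
    fun x hx => (h3 x (m.six.pre.le_cent hx)).symm ▸ F7 x hx, fun c hc => ?_⟩
  obtain ⟨c', e1, e2⟩ := F3 c (mem_cent.1 hc)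
  exact ⟨c', (h3 c' (mem_cent.2 e1)).trans e2⟩

theorem nonempty_equiv_of_model [Finite G] [Finite G'] (hM : U6Mod L) (hL : U6Loc T A P)
    {f : centralizer ({z} : Set G) →* L} (h : Six Q z f) (hw : ∃ g, g * z * g⁻¹ ∈ Q ∧ g * z * g⁻¹ ≠ z)
    {R : Cfsg.BNPair G'} {n : Fin 4 → G'} {U : Subgroup G'} {m₁ m₂ x₁ x₂ : G'} {f' : centralizer ({z'} : Set G') →* L}
    (m : Model R n Q' U z' m₁ m₂ x₁ x₂ f') (zf : ZF ⊤ Q' z') : Nonempty (G ≃* G') := by
  have h8 : 8 < Nat.card Q := by rw [h.card]; norm_num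
  obtain ⟨g, g1, g2⟩ := hw
  have p := h.pre.pair h8 g1 g2
  obtain ⟨φ, h1, h2, h3, h4⟩ := exists_hom_of_model hM hL h p m
  have := m.simple
  have hi : Function.Injective φ := (MonoidHom.ker_eq_bot_iff φ).1 ((Normal.eq_bot_or_eq_top inferInstance).resolve_right
    fun e => h.pre.es.ne_one (h1.symm.trans (e.ge (mem_top z'))))
  have hQ : Q'.map φ = Q := eq_of_le_of_card_ge (map_le_iff_le_comap.2 h3)
    (by rw [card_map_of_injective hi, h.card, m.six.card])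
  have hf : ∀ y, IsConj z (φ y) → IsConj z' y := fun y hy => by
    obtain ⟨k, hk⟩ := m.invol y (by
      obtain ⟨c, hc⟩ := isConj_iff.1 hy
      rw [← orderOf_injective φ hi, ← hc, StrEmb.orderOf_conj, h.pre.es.orderOf_eq])
    obtain ⟨l, hl⟩ := isConj_iff.1 (hy.trans (φ.map_isConj (isConj_iff.2 ⟨k, rfl⟩)))
    refine IsConj.trans ?_ (isConj_iff.2 ⟨k, rfl⟩).symm
    by_cases e : l * z * l⁻¹ = z
    · rw [hi (hl.symm.trans (e.trans h1.symm))]
    obtain ⟨c, c1, c2⟩ := h.exists_conj hM hL p (h.pre.pair h8 (hl ▸ h3 _ hk) e)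
    obtain ⟨c, rfl⟩ := h4 (mem_cent.2 c1)
    exact isConj_iff.2 ⟨c * m₁, hi (by rw [conj_mul', map_mul, map_mul, h2, map_inv, c2, hl])⟩
  have : IsSimpleGroup G := h.pre.simple (h.pre.noOdd_of_conj_mem h8 g1 g2) (h.eq_pCore hM hL) (h4.trans (by
    rintro _ ⟨x, rfl⟩
    have : (normalClosure ({z} : Set G)).comap φ = ⊤ := (Normal.eq_bot_or_eq_top inferInstance).resolve_left fun e =>
      m.six.pre.es.ne_one (mem_bot.1 (e.le (mem_comap.2 (h1 ▸ subset_normalClosure rfl))))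
    exact this.ge (mem_top x)))
  have e := (zf.map φ hi h1 hQ h4 hf).eq_top h.pre h8 h4 fun k ⟨y, hy⟩ => by
    obtain ⟨c, hc⟩ := isConj_iff.1 (hf y (hy ▸ isConj_iff.2 ⟨k, rfl⟩))
    have h5 : φ c * z * (φ c)⁻¹ = k * z * k⁻¹ := by rw [← hy, ← hc, map_mul, map_mul, h1, map_inv]
    refine (φ.range.mul_mem_cancel_left (inv_mem ⟨c, rfl⟩)).1 (h4 (mem_cent.2 (comm_of_conj_eq ?_)))
    rw [conj_mul', ← h5]; group
  exact ⟨(MulEquiv.ofBijective φ ⟨hi, MonoidHom.range_eq_top.1 e⟩).symm⟩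

end CfsgLib.E62
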