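import Mathlib
import Cfsg.Agent.Lib.E62.RMain
import Cfsg.Agent.Lib.LargeExtra.Trans
import Cfsg.Agent.Lib.Comp.Primitive

/-!
# The case `C(z) = 2^(1+20).U₆(2).2`
-/

set_option autoImplicit false

namespace CfsgLib.E62

open Subgroup CfsgLib.LargeExtra CfsgLib.ExtraTwo

variable {G L X : Type*} [Group G] [Finite G] [Group L] [Group X] {T A P : Subgroup L} {Q : Subgroup G} {z : G}
  {f : centralizer ({z} : Set G) →* X} {ι : L →* X}

theorem Six.exists_index_two (hM : U6Mod L) (hL : U6Loc T A P) (h : Six Q z f) (o : Ov ι) (hi : ι.range.index = 2) :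
    ∃ M : Subgroup G, M.index = 2 := by
  by_contra hG
  have h8 : 8 < Nat.card Q := by rw [h.card]; norm_num
  obtain ⟨φ, hφ⟩ := Transfer.exists_hom_of_relIndex_two (ι.range.relIndex_top_right.trans hi)
  let ψ := (φ.comp topEquiv.symm.toMonoidHom).comp f
  have h1 : ∀ g, f g ∈ ι.range → ψ g = 1 := fun g hg => (hφ ⟨_, mem_top _⟩).1 hg
  obtain ⟨a, ha, -⟩ := index_eq_two_iff_exists_notMem_and.1 hi
  obtain ⟨a, rfl⟩ := h.surj a
  refine absurd (((hφ ⟨_, mem_top _⟩).2 ha).symm.trans (DFunLike.congr_fun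
    (h.pre.hom_eq_one (not_exists.1 hG) ψ fun g hg hg' => ?_) a))
    (show Multiplicative.ofAdd (1 : ZMod 2) ≠ 1 by decide)
  rcases h.pre.relIndex_fixE hg hg' with ⟨h2, ht⟩ | h4
  · have p := h.pre.pair h8 (g := g⁻¹) (by simpa using mem_map_conj.1 (h.pre.mem_conj h8 ht))
      fun e => hg' (mem_cent.2 (Commute.inv_left_iff.1 (comm_of_conj_eq e)))
    obtain ⟨l, hl⟩ := h.map_eq hM hL ι o.inj o.idx o.cen p
    have h3 : ∀ e ∈ Q, ∀ he : g⁻¹ * e * g ∈ centralizer ({z} : Set G), ψ ⟨_, he⟩ = 1 := fun e he he' =>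
      h1 _ (map_le_range _ _ (hl.le ⟨_, mem_map_conj.2 (by simpa [mul_assoc] using he), rfl⟩))
    exact ⟨2, le_rfl, by omega, fun _ => h3 z h.pre.es.mem hg, fun _ => h3⟩
  by_cases h5 : 8 ≤ (fixE Q z g).relIndex Q
  · exact ⟨0, by omega, by omega, by omega, by omega⟩
  refine ⟨1, by omega, by omega, fun _ => ?_, by omega⟩
  rcases h.pre.fixE_cases hg with h6 | h6
  · have := ((fixE Q z g).subgroupOf Q).index_mul_card
    rw [Nat.card_congr (subgroupOfEquivOfLe (show fixE Q z g ≤ Q from inf_le_left)).toEquiv, h.card] at this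
    change (fixE Q z g).relIndex Q * _ = _ at this
    nlinarith
  · exact Abelianization.commutator_subset_ker ψ h6

theorem Six.le_of_index_two (hM : U6Mod L) (hL : U6Loc T A P) (h : Six Q z f) (o : Ov ι) {Qs : Subgroup G} {s : G}
    (p : Pair Q Qs z s) {M : Subgroup G} (hi : M.index = 2) : Q ≤ M := by
  have hn : ∀ c x, c * x * c⁻¹ ∈ M ↔ x ∈ M := fun c x => by
    simp only [mul_mem_iff_of_index_two hi, inv_mem_iff]
    tauto
  have es := h.pre.es
  obtain ⟨u, hu, hu'⟩ := exists_comm_iff_mem es le_rfl (K := M) (by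
    obtain ⟨x, -, y, -, e⟩ := es.exists_commutator
    rw [← e, mul_mem_iff_of_index_two hi, hn, inv_mem_iff])
    fun x _ y _ h1 h2 => (mul_mem_iff_of_index_two hi).2 (iff_of_false h1 h2)
  have h1 : ∀ c, c * z = z * c → c * u * c⁻¹ = u ∨ c * u * c⁻¹ = u * z := fun c hc => by
    have h3 := h.pre.norm c hc u hu
    have h4 : ∀ x ∈ Q, (c * u * c⁻¹ * x = x * (c * u * c⁻¹) ↔ u * x = x * u) := fun x hx => by
      rw [← hu' x hx, ← hn c⁻¹, hu' _ (h.pre.norm c⁻¹ (Commute.inv_left hc) x hx)]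
      refine ⟨fun e => ?_, fun e => ?_⟩
      · calc u * (c⁻¹ * x * c⁻¹⁻¹) = c⁻¹ * (c * u * c⁻¹ * x) * c := by group
          _ = _ := by rw [e]; group
      · calc c * u * c⁻¹ * x = c * (u * (c⁻¹ * x * c⁻¹⁻¹)) * c⁻¹ := by group
          _ = _ := by rw [e]; group
    rcases h.pre.cent (u⁻¹ * (c * u * c⁻¹)) (fun x hx => by
      by_cases e : u * x = x * u
      · exact (Commute.mul_left (Commute.inv_left e) ((h4 x hx).2 e)).symm
      · exact (es.mul_comm_of_not_comm hx (inv_mem hu) h3 (fun e1 => e (Commute.inv_left_iff.1 e1))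
          (mt (h4 x hx).1 e)).symm) with e | e
    · exact Or.inl (inv_mul_eq_one.1 e).symm
    · exact Or.inr (by rw [← e, mul_inv_cancel_left])
  have h2 : ¬ ∀ c, c * z = z * c → c * s * c⁻¹ = s ∨ c * s * c⁻¹ = s * z := fun H => by
    obtain ⟨l, hl⟩ := h.map_eq hM hL ι o.inj o.idx o.cen p
    replace hL := hL.conj l
    have hn : (Tech.cj l A).Normal := ⟨fun r hr a => by
      obtain ⟨g, hg⟩ := h.surj (ι a)
      obtain ⟨b, hb, e⟩ := hl.le (p.map_conj_mem f h.ker g (H g (mem_cent.1 g.2)) (hl.ge (mem_map_of_mem ι hr)))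
      rwa [o.inj (show ι (a * r * a⁻¹) = ι b by simp [e, hg])]⟩
    have sq : ∀ r ∈ Tech.cj l A, r⁻¹ = r := fun r hr => inv_eq_of_mul_eq_one_right (o.inj (by
      simpa using p.map_mul_self f h.ker (hl.ge (mem_map_of_mem ι hr))))
    rcases hM.simple.eq_bot_or_eq_top_of_normal _ hn with e | e
    · have := hL.card; rw [e, card_bot] at this; omega
    · rw [e] at sq
      exact hL.not_comm fun x _ y _ => by rw [← sq (x * y) trivial, mul_inv_rev, sq x trivial, sq y trivial]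
  intro x hx
  rw [hu' x hx]
  rcases p.mem_V.1 (h.fix hM o p hu fun v _ hv => h1 v hv) with e | e | e | e <;> rw [e] at h1 ⊢
  · simp
  · exact (es.comm_z x hx).symm
  · exact absurd h1 h2
  · refine absurd (fun c hc => ?_) h2
    simpa only [← conj_mul, conj_eq_of_comm hc, mul_left_inj] using h1 c hc

theorem Six.exists_sub (hM : U6Mod L) (hL : U6Loc T A P) (h : Six Q z f) (o : Ov ι) (hi : ι.range.index = 2)
    (hw : ∃ g, g * z * g⁻¹ ∈ Q ∧ g * z * g⁻¹ ≠ z) : ∃ M : Subgroup G, M.index = 2 ∧ ∃ hQ : Q ≤ M,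
      ∃ f' : centralizer ({⟨z, hQ h.pre.es.mem⟩} : Set M) →* L, Six (Q.subgroupOf M) ⟨z, hQ h.pre.es.mem⟩ f' ∧
        ∃ g : M, g * ⟨z, hQ h.pre.es.mem⟩ * g⁻¹ ∈ Q.subgroupOf M ∧
          g * ⟨z, hQ h.pre.es.mem⟩ * g⁻¹ ≠ ⟨z, hQ h.pre.es.mem⟩ := by
  obtain ⟨M, hM2⟩ := h.exists_index_two hM hL o hi
  obtain ⟨g, g1, g2⟩ := hw
  have hQ := h.le_of_index_two hM hL o (h.pre.pair (by rw [h.card]; norm_num) g1 g2) hM2
  obtain ⟨c, c1, c2⟩ := SetLike.not_le_iff_exists.1 fun e : centralizer {z} ≤ M =>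
    h.pre.odd_index.not_two_dvd_nat (hM2 ▸ index_dvd_of_le e)
  let j : centralizer ({⟨z, hQ h.pre.es.mem⟩} : Set M) →* centralizer ({z} : Set G) :=
    (M.subtype.comp (Subgroup.subtype _)).codRestrict _ fun x => mem_cent.2 (congrArg Subtype.val (mem_cent.1 x.2))
  have hj : ∀ x : centralizer ({z} : Set G), (x : G) ∈ M → ∃ y, j y = x := fun x hx =>
    ⟨⟨⟨x, hx⟩, mem_cent.2 (Subtype.ext (mem_cent.1 x.2))⟩, rfl⟩
  have h1 : ∀ x : centralizer ({z} : Set G), f x ∈ (f.comp j).range ↔ (x : G) ∈ M :=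
    fun x => ⟨fun ⟨y, e⟩ => (M.mul_mem_cancel_left (inv_mem y.1.2)).1 (hQ ((h.ker ((j y)⁻¹ * x)).1 (by
      rw [map_mul, map_inv, ← e]; simp))), fun hx => let ⟨y, e⟩ := hj x hx; ⟨y, congrArg f e⟩⟩
  have h2 : (f.comp j).range.index = 2 := index_eq_two_iff_exists_notMem_and.2 ⟨f ⟨c, c1⟩, mt (h1 _).1 c2, fun b => by
    obtain ⟨b, rfl⟩ := h.surj b
    rw [← map_mul, h1, h1, coe_mul, mul_mem_iff_of_index_two hM2]
    tauto⟩
  have h3 : ι.range ≤ (f.comp j).range := by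
    have := normal_of_index_eq_two h2
    have := hM.simple
    rcases IsSimpleGroup.eq_bot_or_eq_top_of_normal ((f.comp j).range.comap ι) inferInstance with e | e
    · exact absurd (fun x _ y _ => mul_inv_eq_one.1 (mem_bot.1 (e.le (by
        simp only [mem_comap, mul_inv_rev, map_mul, map_inv, mul_mem_iff_of_index_two h2, inv_mem_iff,
          iff_comm (a := ι x ∈ _) (b := ι y ∈ _)] : x * y * (y * x)⁻¹ ∈ (f.comp j).range.comap ι)))) hL.not_comm
    · rintro _ ⟨l, rfl⟩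
      exact e.ge (mem_top l)
  have := h.finite
  have h4 : ι.range = (f.comp j).range := eq_of_le_of_card_ge h3 (by
    have a := ι.range.index_mul_card
    have b := (f.comp j).range.index_mul_card
    rw [hi] at a
    rw [h2] at b
    omega)
  let e := MonoidHom.ofInjective o.inj
  let f' := e.symm.toMonoidHom.comp ((f.comp j).codRestrict ι.range fun x => h4.ge ⟨x, rfl⟩)
  have h5 : ∀ x, ι (f' x) = f (j x) := fun x => MonoidHom.apply_ofInjective_symm o.inj _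
  refine ⟨M, hM2, hQ, f', ⟨⟨h.pre.es.subgroupOf hQ, fun x hx => ?_, fun x hx y hy => ?_⟩, ?_, fun l => ?_,
    fun x => ?_⟩, ?_⟩
  · exact (h.pre.cent x fun q hq => congrArg Subtype.val (hx ⟨q, hQ hq⟩ hq)).imp Subtype.ext Subtype.ext
  · exact h.pre.norm x (congrArg Subtype.val hx) y hy
  · rw [Nat.card_congr (subgroupOfEquivOfLe hQ).toEquiv, h.card]
  · obtain ⟨x, hx⟩ := h3 ⟨l, rfl⟩
    exact ⟨x, o.inj ((h5 x).trans hx)⟩
  · rw [← o.inj.eq_iff, h5, map_one, h.ker]; rfl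
  · by_cases hg : g ∈ M
    · exact ⟨⟨g, hg⟩, g1, fun e => g2 (congrArg Subtype.val e)⟩
    · have e : g * c * z * (g * c)⁻¹ = g * z * g⁻¹ := by rw [conj_mul', conj_eq_of_comm (mem_cent.1 c1)]
      exact ⟨⟨g * c, (mul_mem_iff_of_index_two hM2).2 (iff_of_false hg c2)⟩, (e.symm ▸ g1 : g * c * z * (g * c)⁻¹ ∈ Q),
        fun e1 => g2 (e.symm.trans (congrArg Subtype.val e1))⟩

theorem fstar_eq_of_pre (h : Pre Q z) {M : Subgroup G} [M.Normal] [IsSimpleGroup M] (hQ : Q ≤ M) :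
    Cfsg.generalizedFittingSubgroup G = M := by
  have hc : ¬ IsMulCommutative M := fun c =>
    let ⟨x, hx, y, hy, e⟩ := h.es.nonab; e (congrArg Subtype.val (c.is_comm.comm ⟨x, hQ hx⟩ ⟨y, hQ hy⟩))
  have h1 : Comp.fstarOf M = M := by
    rw [Comp.fstarOf, eq_top_iff.2 ((Comp.layer_eq_top_of_qs (Comp.qs_of_isSimpleGroup hc)).ge.trans Comp.layer_le_fstar),
      ← MonoidHom.range_eq_map, range_subtype]
  have h2 : centralizer (M : Set G) = ⊥ := eq_bot_iff.2 fun x hx => by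
    have h3 : x ∈ M := hQ (h.centralizer_le (centralizer_le hQ hx))
    rcases IsSimpleGroup.eq_bot_or_eq_top_of_normal (center M) inferInstance with e | e
    · exact congrArg Subtype.val (mem_bot.1 (e.le (mem_center_iff.2 fun y => Subtype.ext (hx y y.2) : (⟨x, h3⟩ : M) ∈ _)))
    · exact absurd ⟨⟨fun a b => mem_center_iff.1 (e.ge (mem_top b)) a⟩⟩ hc
  rw [← (Comp.fstar_eq_of_centralizer_eq_bot (N := M) (by rw [h1, h2])).2.1, h1]

end CfsgLib.E62
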