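import Mathlib
import Cfsg.Agent.Lib.E62.RDefs
import Cfsg.Agent.Lib.E62.FiveB

/-!
# The model `²E₆(2)`: definitions
-/

set_option autoImplicit false

namespace CfsgLib.E62.Mo

open Cfsg.Lie CfsgLib.Chev CfsgLib.ChevInv CfsgLib.Twist CfsgLib.Stein CfsgLib.RGD CfsgLib.Weyl Subgroup

variable {K : Type*} [Field K] [Fintype K]

theorem charP (hK : Fintype.card K = 4) : CharP K 2 := charP_of_card_eq_prime_pow (f := 2) hK

variable [CharP K 2] (hK : Fintype.card K = 4)

omit [Fintype K] in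
theorem hφ (t : K) : frobenius K 2 t = t ^ 2 := rfl

include hK in
theorem hφ2 (t : K) : frobenius K 2 (frobenius K 2 t) = t := frob2 (q := 2) hφ hK t

include hK in
theorem tw : IsTw (twE6 (frobenius K 2)) (twistedE6 K 2) := isTwE6 hφ (hφ2 hK)

include hK in
theorem mem_iff {g : GL chevE6.Idx K} : g ∈ twistedE6 K 2 ↔ g ∈ (twE6 (frobenius K 2)).Fix := by
  rw [eq_FixE6 hφ (hφ2 hK)]

/-- the nodes of the subsystem `A₅` -/
def JA : Set (Fin chevE6.rank) := {j | j ≠ ndE6 1}

variable (K) in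
/-- the extraspecial group -/
def QM : Subgroup (twistedE6 K 2) := ((stSys rtOKE6 K).UJ JA).subgroupOf _

/-- the element given by a word in the `x_r(1)` -/
noncomputable def wM (l : List ℕ) (h : okTw fastE6 rhoE6 l = true) : twistedE6 K 2 :=
  ⟨wd chevE6 K l, memTE6 hφ (hφ2 hK) l h⟩

theorem coe_wM (l : List ℕ) (h : okTw fastE6 rhoE6 l = true) : (wM hK l h : GL chevE6.Idx K) = wd chevE6 K l := rfl

theorem ok71 : okTw fastE6 rhoE6 [71] = true := by decide +kernel

/-- the central involution -/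
noncomputable def zM : twistedE6 K 2 := wM hK [71] ok71

theorem coe_zM : (zM hK : GL chevE6.Idx K) = xU chevE6 K 71 1 := mul_one _

omit [Fintype K] [CharP K 2] in
theorem x_eq (r : Fin 72) (t : K) : (stSys rtOKE6 K).x (rtE6 r) t = xU chevE6 K r t := rfl

include hK in
/-- a root element of a fixed root lies in the twisted group iff its parameter is `0` or `1` -/
theorem zero_or_one {r : Fin chevE6.nroots} (hr : rhoE6 r = r) {t : K} (h : (stSys rtOKE6 K).x r t ∈ twistedE6 K 2) :
    t = 0 ∨ t = 1 := by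
  have h1 := ((mem_iff hK).1 h).2
  rw [stSys_x, σ_x _ r.2, hr] at h1
  have h2 : t ^ 2 = t := (stSys_nondeg rtOKE6).x_injective r h1
  rwa [sq, mul_left_eq_self₀, or_comm] at h2

include hK in
/-- an element that fixes a fixed root centralises its root element -/
theorem conj_x_one {g : GL chevE6.Idx K} (hg : g ∈ twistedE6 K 2) {w : Equiv.Perm (Fin chevE6.nroots)}
    (ha : (stSys rtOKE6 K).Acts g w) {r : Fin chevE6.nroots} (hr : rhoE6 (w r) = w r)
    (h : (stSys rtOKE6 K).x r 1 ∈ twistedE6 K 2) : g * (stSys rtOKE6 K).x r 1 * g⁻¹ = (stSys rtOKE6 K).x (w r) 1 := by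
  obtain ⟨l, hl, e⟩ := ha.exists_conj_x r
  have h1 := mul_mem (mul_mem hg h) (inv_mem hg)
  rw [e, mul_one] at h1 ⊢
  rw [(zero_or_one hK hr h1).resolve_left hl]

end CfsgLib.E62.Mo
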