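import Mathlib
import Cfsg.Agent.Lib.E62.RModelD
import Cfsg.Agent.Lib.LieAll.PSU
import Cfsg.Agent.Lib.ClSys.SLPres
import Cfsg.Agent.Lib.Stein.RootMap

/-!
# The model `²E₆(2)`: the Levi subgroup `U₆(2)`
-/

set_option autoImplicit false

namespace CfsgLib.E62.Mo

open Cfsg.Lie CfsgLib.Chev CfsgLib.ChevInv CfsgLib.Twist CfsgLib.Stein CfsgLib.RGD CfsgLib.Weyl CfsgLib.ClSys
  CfsgLib.Lang CfsgLib.LieAll Subgroup
open scoped MatrixGroups Matrix

local notation "Φ" => rootSys rtOKE6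
local notation "S" => stSys rtOKE6

theorem exists_proj {G C X : Type*} [Group G] [Group C] [Group X] (ι : C →* G) (ψ : X →* G) (Q : Subgroup G)
    (hn : ∀ c, ∀ u ∈ Q, ι c * u * (ι c)⁻¹ ∈ Q) (hex : ∀ c, ∃ p, ι c * (ψ p)⁻¹ ∈ Q) (hu : ∀ p, ψ p ∈ Q → p = 1) :
    ∃ f : C →* X, ∀ c p, f c = p ↔ ι c * (ψ p)⁻¹ ∈ Q := by
  choose f hf using hex
  have key : ∀ c p, f c = p ↔ ι c * (ψ p)⁻¹ ∈ Q := fun c p => ⟨fun e => e ▸ hf c, fun h =>
    mul_inv_eq_one.1 (hu _ (by simpa [mul_assoc] using mul_mem (inv_mem (hf c)) h))⟩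
  refine ⟨MonoidHom.mk' f fun a b => (key _ _).2 ?_, key⟩
  simpa [mul_assoc] using mul_mem (hn a _ (hf b)) (hf a)

/-- the roots of the subsystem `A₅` -/
def rT (i j : ℕ) : ℕ :=
  ([[0, 56, 57, 58, 59, 60], [15, 0, 42, 43, 44, 45], [14, 29, 0, 39, 40, 41], [13, 28, 32, 0, 37, 38],
    [12, 27, 31, 34, 0, 36], [11, 26, 30, 33, 35, 0]].getD i []).getD j 0

theorem cT (r s : ℕ) : chevE6.commTerms r s = tComm fastE6 r s := by rw [← matchE6.ofD_eq]; rfl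

theorem rT_lt : ∀ i j : Fin 6, rT i j < 72 := by decide

theorem rT_comm : ∀ i j k l : Fin 6, i ≠ j → k ≠ l → i ≠ l → j ≠ k →
    rT k l ≠ chevE6.neg (rT i j) ∧ tComm fastE6 (rT i j) (rT k l) = [] := by decide +kernel

theorem rT_chain : ∀ i j l : Fin 6, i ≠ j → j ≠ l → i ≠ l → rT i j ≠ chevE6.neg (rT j l) ∧
    ∃ c ∈ [1, -1], tComm fastE6 (rT j l) (rT i j) = [(rT i l, c, 1, 1)] := by decide +kernel

theorem rT_rho : ∀ i j : Fin 6, i ≠ j → rhoE6 (rT i j) = rT j.rev i.rev := by decide +kernel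

theorem rT_neg : ∀ i j : Fin 6, i ≠ j → chevE6.neg (rT i j) = rT j i := by decide +kernel

theorem rho_rt : ∀ r, (Φ).rt (symE6.ρ r) (ndE6 1) = (Φ).rt r (ndE6 1) := by decide +kernel

theorem inSub_iff : ∀ r : Fin chevE6.nroots, (Φ).rt r (ndE6 1) = 0 ↔ ∃ i j : Fin 6, i ≠ j ∧ r.1 = rT i j := by
  decide +kernel

theorem top_comm : ∀ r : Fin chevE6.nroots, 72 ≤ 2 * r.1 ∨ (Φ).rt r (ndE6 1) = 0 →
    71 ≠ chevE6.neg r ∧ tComm fastE6 r 71 = [] := by decide +kernel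

theorem top_form : ∀ r, (Φ).form ((Φ).rt (rtE6 71)) ((Φ).rt r) = (Φ).d (ndE6 1) * (Φ).rt r (ndE6 1) := by
  decide +kernel

theorem top_rt : (Φ).rt (rtE6 71) (ndE6 1) = 2 ∧ (Φ).wt (ndE6 1) (rtE6 71) = 1 := by decide +kernel

theorem inSub_JA {r : Fin chevE6.nroots} : (Φ).InSub JA r ↔ (Φ).rt r (ndE6 1) = 0 :=
  ⟨fun h => h _ fun e => e rfl, fun h j hj => by rwa [not_not.1 hj]⟩

variable {K : Type*} [Field K]

variable (K) in
/-- the subgroup of type `A₅` -/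
abbrev LA : Subgroup (GL chevE6.Idx K) := (S K).UU {r | (Φ).InSub JA r}

theorem comm_top {g : GL chevE6.Idx K} (hg : g ∈ (S K).U ⊔ LA K) (t : K) : Commute g (xU chevE6 K 71 t) := by
  refine (sup_le (UU_le _ fun r hr u => ?_) (UU_le _ fun r hr u => ?_) : _ ≤ centralizer {xU chevE6 K 71 t}) hg _ rfl |>.symm
  · have h := top_comm r (.inl ((pos_iff_le r).1 hr))
    exact mem_centralizer_singleton_iff.2 (comm_x ⟨r.2, by decide, h.1, (cT _ _).trans h.2⟩ u t)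
  · have h := top_comm r (.inr (inSub_JA.1 hr))
    exact mem_centralizer_singleton_iff.2 (comm_x ⟨r.2, by decide, h.1, (cT _ _).trans h.2⟩ u t)

theorem mem_P_of_comm {g : GL chevE6.Idx K} (hg : g ∈ (S K).grp) (h : Commute g (xU chevE6 K 71 1)) :
    g ∈ (S K).P JA := by
  have hS := sharp_stSys rtOKE6 K
  obtain ⟨u, hu, n, hn, w, hw, ha, v, hv, rfl⟩ := hS.bruhat g hg
  have hv' := UU_Inv_le_U _ w hv
  have h1 : Commute n (xU chevE6 K 71 1) := by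
    simpa [mul_assoc] using ((comm_top (mem_sup_left hu) 1).inv_left.mul_left h).mul_left
      (comm_top (mem_sup_left hv') 1).inv_left
  obtain ⟨l, hl, e⟩ := ha.exists_conj_x (rtE6 71)
  have h2 : w (rtE6 71) = rtE6 71 := (stSys_nondeg rtOKE6).root_eq_of_x_eq (mul_ne_zero hl one_ne_zero)
    ((e 1).symm.trans h1.mul_inv_cancel)
  let c : Fin chevE6.rank → ℝ := Pi.single (ndE6 1) 1
  have hc : ∀ j, 0 ≤ c j := fun j => by simp only [c, Pi.single_apply]; split_ifs <;> norm_num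
  have h3 := ((Φ).mem_WJ_of_lam_eq hc hc hw fun r => by
    have h3 := top_form (w r)
    rw [← h2, (Φ).form_apply hw, top_form] at h3
    simp [RootSys.lam, c, Pi.single_apply, mul_left_cancel₀ ((Φ).d_pos _).ne' h3]).2
  rw [show {j | c j = 0} = JA by ext j; simp [c, JA, Pi.single_apply]] at h3
  have hU : (S K).U ≤ (S K).P JA := (U_le_B _).trans le_sup_left
  exact mul_mem (mul_mem (hU hu) ((S K).LJ_le_P _ (hS.mem_LJ_of_acts hn h3 ha))) (hU hv')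

theorem x_mem_LA {i j : Fin 6} (h : i ≠ j) (t : K) : xU chevE6 K (rT i j) t ∈ LA K :=
  (S K).x_mem_UU (r := ⟨_, rT_lt i j⟩) (inSub_JA.2 ((inSub_iff _).2 ⟨i, j, h, rfl⟩)) t

theorem h_mem_LA {i : Fin chevE6.rank} (hi : i ≠ ndE6 1) (c : K) : (S K).h ((Φ).simple i) c ∈ LA K := by
  have h1 : (Φ).InSub JA ((Φ).simple i) := inSub_JA.2 (by rw [(Φ).rt_simple]; simp [hi.symm])
  have h2 : (Φ).InSub JA ((Φ).neg ((Φ).simple i)) := inSub_JA.2 (by rw [(Φ).rt_neg]; simp [inSub_JA.1 h1])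
  have h3 : ∀ d, (S K).n ((Φ).simple i) d ∈ LA K := fun d =>
    mul_mem (mul_mem ((S K).x_mem_UU h1 _) ((S K).x_mem_UU h2 _)) ((S K).x_mem_UU h1 _)
  exact mul_mem (h3 _) (h3 _)

theorem H_mem_LA {h : GL chevE6.Idx K} (hh : h ∈ (S K).H) (hc : Commute h (xU chevE6 K 71 1)) : h ∈ LA K := by
  have hS := sharp_stSys rtOKE6 K
  have key : ∀ c : Fin chevE6.rank → Kˣ, ∃ l ∈ (S K).H ⊓ LA K,
      Chi (S K) l (alpha Φ K (Function.update c (ndE6 1) 1)) := fun c => by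
    induction c using Pi.mulSingle_induction with
    | one => exact ⟨1, one_mem _, by simpa using chi_one⟩
    | mul a b ha hb =>
      obtain ⟨l, h1, h2⟩ := ha
      obtain ⟨l', h1', h2'⟩ := hb
      exact ⟨l * l', mul_mem h1 h1', by simpa [← map_mul, ← Function.update_mul] using h2.mul h2'⟩
    | mulSingle i c =>
      by_cases e : i = ndE6 1
      · exact ⟨1, one_mem _, by simpa [e, Pi.mulSingle] using chi_one⟩
      · refine ⟨(S K).h ((Φ).simple i) c, ⟨h_mem_H _ _ c.ne_zero, h_mem_LA e _⟩, ?_⟩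
        rw [Function.update_eq_self_iff.2 (by simp [Ne.symm e])]
        exact hS.chi_h i c
  obtain ⟨c, h1⟩ := hS.exists_chi hh
  obtain ⟨l, hl, h2⟩ := key c
  have h0 := hS.chi_h (ndE6 1) (c (ndE6 1))
  obtain rfl := hS.eq_of_chi (mul_mem hl.1 (h_mem_H _ _ (c (ndE6 1)).ne_zero)) hh (h2.mul h0)
    (by rw [← map_mul]; convert h1; ext j; by_cases e : j = ndE6 1 <;> simp [e])
  have h3 := (comm_top (mem_sup_right hl.2) 1).inv_left.mul_left hc
  rw [inv_mul_cancel_left] at h3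
  have h4 := hS.x_inj (rtE6 71) ((hS.h_conj _ _ (c (ndE6 1)).ne_zero (rtE6 71) 1).symm.trans h3.mul_inv_cancel)
  rw [top_rt.2, zpow_one, mul_one] at h4
  rw [h4, StSys.h_one, mul_one]
  exact hl.2

theorem exists_mul_LA {g : GL chevE6.Idx K} (hg : g ∈ (S K).grp) (h : Commute g (xU chevE6 K 71 1)) :
    ∃ u ∈ (S K).UJ JA, ∃ l ∈ LA K, g = u * l := by
  obtain ⟨u, hu, m, hm, rfl⟩ := (S K).mem_P_iff_mul.1 (mem_P_of_comm hg h)
  rw [StSys.LJ, sup_comm] at hm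
  obtain ⟨l, hl, a, ha, rfl⟩ := (sharp_stSys rtOKE6 K).mem_sup_H_iff.1 hm
  have h1 := (comm_top (mem_sup_right hl) 1).inv_left.mul_left
    ((comm_top (mem_sup_left ((S K).UJ_le_U _ hu)) 1).inv_left.mul_left h)
  rw [inv_mul_cancel_left, inv_mul_cancel_left] at h1
  exact ⟨u, hu, _, mul_mem hl (H_mem_LA ha h1), rfl⟩

variable [CharP K 2]

theorem relA : RelA fun (a : OffD 6) (t : K) => xU chevE6 K (rT a.1.1 a.1.2) t where
  add a t u := (xU_add _ _ _).symm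
  comm a b t u h1 h2 := by
    have h := rT_comm _ _ _ _ a.2 b.2 h1 h2
    exact (comm_x ⟨rT_lt _ _, rT_lt _ _, h.1, (cT _ _).trans h.2⟩ t u).commutator_eq
  chain a b h t u e := by
    obtain ⟨h1, c, hc, h2⟩ := rT_chain _ _ _ a.2 (e ▸ b.2) h
    have h3 := comm_single (D := chevE6) (rT_lt _ _) (rT_lt _ _) h1 ((cT _ _).trans h2) u t
    have h4 : (c : K) = 1 := by
      rcases List.mem_pair.1 hc with rfl | rfl <;> simp [CharTwo.neg_eq]
    rw [← e]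
    simpa [xU_inv, h4, mul_comm, CharTwo.neg_eq] using h3

theorem eq_one_of_comm {h : GL chevE6.Idx K} (hh : h ∈ (S K).H) (hz : Commute h (xU chevE6 K 71 1))
    (hc : ∀ l ∈ LA K, Commute h l) : h = 1 := by
  have hS := sharp_stSys rtOKE6 K
  have hτ := isTor_tau (F := K) rtOKE6
  obtain ⟨c, rfl⟩ := hτ.H_le hh
  have h1 : ∀ r, Commute (tau chevE6 K c) ((S K).x r 1) → (Φ).chr c r = 1 := fun r e =>
    Units.ext (by simpa using hS.x_inj r ((hτ.conj c r 1).symm.trans e.mul_inv_cancel))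
  have h2 : ∀ i, i ≠ ndE6 1 → c i = 1 := fun i hi => by
    rw [← (Φ).chr_simple c i]
    exact h1 _ (hc _ ((S K).x_mem_UU ((Φ).inSub_simple_iff.2 hi) 1))
  have h3 := h1 (rtE6 71) hz
  rw [RootSys.chr, Finset.prod_eq_single (ndE6 1) (fun i _ hi => by rw [h2 i hi, one_zpow]) (by simp), top_rt.1,
    zpow_two, Units.ext_iff, Units.val_mul, Units.val_one, mul_self_eq_one_iff, CharTwo.neg_eq, or_self] at h3
  rw [show c = 1 from funext fun i => if e : i = ndE6 1 then e ▸ Units.ext h3 else h2 i e, map_one]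

omit [CharP K 2] in
theorem center_eq [Fintype K] (hK : Fintype.card K = 2 ^ 2) {φ : K →+* K} (hφ : ∀ t, φ t = t ^ 2) {c : SL(6, K)}
    (hc : c ∈ center SL(6, K)) : c ^ 3 = 1 ∧ suAut 6 φ c = c := by
  obtain ⟨r, hr, e⟩ := Matrix.SpecialLinearGroup.mem_center_iff.1 hc
  have h0 : r ≠ 0 := by rintro rfl; simp at hr
  have h3 : r ^ 3 = 1 := by simpa [hK] using FiniteField.pow_card_sub_one_eq_one r h0
  have h4 : c ^ 3 = 1 := Subtype.ext (by rw [Matrix.SpecialLinearGroup.coe_pow, ← e, ← map_pow, h3, map_one]; rfl)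
  refine ⟨h4, Subtype.ext ?_⟩
  change antiJ 6 K * ((c⁻¹).1.map φ)ᵀ * (antiJ 6 K)ᵀ = _
  rw [show c⁻¹ = c ^ 2 from inv_eq_of_mul_eq_one_right (by rw [← pow_succ', h4]), Matrix.SpecialLinearGroup.coe_pow, ← e,
    ← map_pow, Matrix.scalar_apply, Matrix.diagonal_map (map_zero φ), Matrix.diagonal_transpose, hφ,
    show (r ^ 2) ^ 2 = r by linear_combination r * h3, ← Matrix.scalar_apply,
    ← (Matrix.scalar_commute r (fun _ => .all _ _) _).eq, mul_assoc, antiJ_mul, mul_one]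

theorem suAut_suAut {φ : K →+* K} (hφ2 : ∀ t, φ (φ t) = t) (a : SL(6, K)) : suAut 6 φ (suAut 6 φ a) = a := by
  refine (slSys 6 K).UU_induction (p := fun a => suAut 6 φ (suAut 6 φ a) = a) (by simp) (fun r _ t g _ e => ?_)
    (slSys_grp (n := 6) (F := K) ▸ mem_top a : a ∈ (slSys 6 K).grp)
  rw [map_mul, map_mul, e, suAut_x, suAut_x, show (symA 6).ρ ((symA 6).ρ r) = r from
    Subtype.ext (Prod.ext (Fin.rev_rev _) (Fin.rev_rev _))]
  simp [CharTwo.neg_eq, hφ2]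

theorem exists_psi [Fintype K] (hK : Fintype.card K = 2 ^ 2) {φ : K →+* K} (hφ : ∀ t, φ t = t ^ 2) :
    ∃ ψ : Cfsg.PSU 6 K 2 →* GL chevE6.Idx K, Function.Injective ψ ∧ ψ.range = LA K ⊓ (twE6 φ).Fix := by
  obtain rfl : φ = Unitary.conj hK := RingHom.ext hφ
  set φ := Unitary.conj hK
  obtain ⟨F, hF⟩ := (relA (K := K)).exists_hom (by norm_num)
  have ind : ∀ {p : SL(6, K) → Prop}, p 1 → (∀ r t g, p g → p (g * (slSys 6 K).x r t)) → ∀ a, p a := fun h1 h2 a =>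
    (slSys 6 K).UU_induction h1 (fun r _ t g _ e => h2 r t g e)
      (slSys_grp (n := 6) (F := K) ▸ mem_top a : a ∈ (slSys 6 K).grp)
  have hL : ∀ a, F a ∈ LA K := ind (by simp) fun r t g e => by
    rw [map_mul, slSys_x, hF]; exact mul_mem e (x_mem_LA r.2 t)
  have hR : LA K ≤ F.range := UU_le _ fun r hr t => by
    obtain ⟨i, j, h, e⟩ := (inSub_iff r).1 (inSub_JA.1 hr)
    exact ⟨_, (hF ⟨(i, j), h⟩ t).trans (by rw [stSys_x, e])⟩
  have hG : ∀ a, F a ∈ (S K).grp := fun a => UU_le_grp _ _ (hL a)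
  have hσ : ∀ a, (twE6 φ).σ (F a) = F (suAut 6 φ a) := ind (by simp [Tw.σ_one]) fun r t g e => by
    rw [map_mul, map_mul, map_mul, (twE6 φ).σ_mul _ (hG _) _ (hG _), e, suAut_x, slSys_x, slSys_x, hF, hF,
      σ_x φ (rT_lt _ _), rT_rho _ _ r.2]
    simp only [CharTwo.neg_eq, one_pow, one_mul]
    rfl
  have hH : (slSys 6 K).H ≤ (S K).H.comap F := (closure_le _).2 <| by
    rintro _ ⟨r, c, hc, rfl⟩
    have h1 : ∀ d, F ((slSys 6 K).n r d) = (S K).n ⟨_, rT_lt r.1.1 r.1.2⟩ d := fun d => by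
      simp only [StSys.n, map_mul, slSys_x, hF, stSys_x]
      rw [show (((Φ).neg ⟨_, rT_lt r.1.1 r.1.2⟩ : Fin _) : ℕ) = _ from rT_neg _ _ r.2]
      rfl
    change F (_ * _) ∈ (S K).H
    rw [map_mul, h1, h1]
    exact h_mem_H _ _ hc
  have hZ : center SL(6, K) ≤ F.ker := fun c hc => eq_one_of_comm (hH (by
      obtain ⟨r, -, e⟩ := Matrix.SpecialLinearGroup.mem_center_iff.1 hc
      exact mem_slSys_H.2 fun i j h => (congrFun₂ e.symm i j).trans (Matrix.diagonal_apply_ne _ h)))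
    (comm_top (mem_sup_right (hL c)) 1) fun l hl => by
    obtain ⟨a, rfl⟩ := hR hl
    exact (Commute.map (mem_center_iff.1 hc a) F).symm
  have := Classical.psl_isSimpleGroup (ι := Fin 6) (F := K) (by simp)
  have hi : Function.Injective (QuotientGroup.lift _ F hZ) := (MonoidHom.ker_eq_bot_iff _).1
    ((IsSimpleGroup.eq_bot_or_eq_top_of_normal _ inferInstance).resolve_right fun e => by
      have h1 : F ((slSys 6 K).x ⟨(0, 1), by decide⟩ 1) = 1 := (e.ge (mem_top (QuotientGroup.mk _)) :)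
      rw [slSys_x, hF] at h1
      exact one_ne_zero ((sharp_stSys rtOKE6 K).x_eq_zero (rtE6 56) h1))
  obtain ⟨e⟩ := nonempty_psu_equiv (n := 6) hK (by norm_num)
  refine ⟨((QuotientGroup.lift _ F hZ).comp (Subgroup.subtype _)).comp e.toMonoidHom,
    (hi.comp Subtype.val_injective).comp e.injective, le_antisymm ?_ ?_⟩
  · rintro _ ⟨p, rfl⟩
    obtain ⟨a, ha, h⟩ := (e p).2
    have h1 : QuotientGroup.lift _ F hZ (e p) = F a := h ▸ rfl
    exact h1 ▸ ⟨hL a, hG a, (hσ a).trans (congrArg F ha)⟩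
  · rintro g ⟨h1, h2⟩
    obtain ⟨a, rfl⟩ := hR h1
    have h3 : a⁻¹ * suAut 6 φ a ∈ center SL(6, K) := QuotientGroup.eq.1 (hi (h2.2.symm.trans (hσ a)))
    obtain ⟨h4, h5⟩ := center_eq hK hφ h3
    rw [map_mul, map_inv, suAut_suAut (Unitary.conj_conj hK)] at h5
    have h6 : (a⁻¹ * suAut 6 φ a) ^ 2 = 1 := by rw [sq]; nth_rewrite 1 [← h5]; group
    rw [pow_succ, h6, one_mul, inv_mul_eq_one] at h4
    exact ⟨e.symm ⟨a, a, h4.symm, rfl⟩, by simp⟩

theorem exists_levi [Fintype K] {φ : K →+* K} (hφ : ∀ t, φ t = t ^ 2) (hφ2 : ∀ t, φ (φ t) = t)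
    (hK : Fintype.card K = 2 ^ 2) {z : twistedE6 K 2} (hz : (z : GL chevE6.Idx K) = xU chevE6 K 71 1) :
    ∃ f : centralizer {z} →* Cfsg.PSU 6 K 2, Function.Surjective f ∧
      ∀ g, f g = 1 ↔ (g : twistedE6 K 2) ∈ ((S K).UJ {j | j ≠ ndE6 1}).subgroupOf (twistedE6 K 2) := by
  have hS := sharp_stSys rtOKE6 K
  have hM := eq_FixE6 hφ hφ2
  obtain ⟨ψ, hi, hr⟩ := exists_psi hK hφ
  have hc : ∀ c : centralizer {z}, Commute (c.1 : GL chevE6.Idx K) (xU chevE6 K 71 1) := fun c =>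
    hz ▸ congrArg Subtype.val (mem_centralizer_singleton_iff.1 c.2)
  have hg : ∀ c : centralizer {z}, (c.1 : GL chevE6.Idx K) ∈ (S K).grp := fun c => (hM.le c.1.2).1
  have hu : ∀ l ∈ LA K, l ∈ (S K).UJ JA → l = 1 := fun l hl h =>
    (stSys_nondeg rtOKE6).eq_one_of_mem_UJ_of_mem_LJ h (mem_sup_right hl)
  obtain ⟨f, hf⟩ := exists_proj ((twistedE6 K 2).subtype.comp (centralizer {z}).subtype) ψ ((S K).UJ JA)
    (fun c u hu => (S K).P_conj_mem_UJ (mem_P_of_comm (hg c) (hc c)) hu) (fun c => by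
      obtain ⟨u, h1, l, h2, e⟩ := exists_mul_LA (hg c) (hc c)
      have h3 := (hM.le c.1.2).2
      rw [e, (twE6 φ).σ_mul _ (UU_le_grp _ _ h1) _ (UU_le_grp _ _ h2)] at h3
      have h4 : (twE6 φ).σ u ∈ (S K).UJ JA := (twE6 φ).σ_mem_UU hS (fun r hr => by
        exact ⟨(twE6 φ).pos_ρ hr.1, fun e => hr.2 (inSub_JA.2 ((rho_rt r).symm.trans (inSub_JA.1 e)))⟩) h1
      have h5 : (twE6 φ).σ l ∈ LA K := (twE6 φ).σ_mem_UU hS 
        (fun r hr => inSub_JA.2 ((rho_rt r).trans (inSub_JA.1 hr))) h2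
      have h6 := hu _ (mul_mem h5 (inv_mem h2)) (by
        rw [show (twE6 φ).σ l * l⁻¹ = ((twE6 φ).σ u)⁻¹ * u by rw [eq_inv_mul_iff_mul_eq, ← mul_assoc, h3]; group]
        exact mul_mem (inv_mem h4) h1)
      obtain ⟨p, rfl⟩ := hr.ge ⟨h2, UU_le_grp _ _ h2, mul_inv_eq_one.1 h6⟩
      exact ⟨p, by rwa [eq_mul_inv_iff_mul_eq.2 e.symm] at h1⟩)
    fun p h => hi ((hu _ (hr.le ⟨p, rfl⟩).1 h).trans (map_one ψ).symm)
  refine ⟨f, fun p => ?_, fun g => (hf g 1).trans (by simp [mem_subgroupOf, JA])⟩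
  have h1 := hr.le ⟨p, rfl⟩
  exact ⟨⟨⟨ψ p, hM.ge h1.2⟩, mem_centralizer_singleton_iff.2 (Subtype.ext (by
    simpa [hz] using (comm_top (mem_sup_right h1.1) 1).eq))⟩,
    (hf _ _).2 (by simp)⟩

end CfsgLib.E62.Mo
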