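import Mathlib
import Cfsg.Agent.Lib.E62.RModelL
import Cfsg.Agent.Lib.Unitary.Simple

/-!
# The model `²E₆(2)`: the centralizer of a long root element
-/

set_option autoImplicit false

namespace CfsgLib.E62.Mo

open Cfsg.Lie CfsgLib.Chev CfsgLib.ChevInv CfsgLib.Twist CfsgLib.Stein CfsgLib.RGD CfsgLib.Weyl CfsgLib.ExtraTwo
  CfsgLib.LargeExtra Subgroup

local notation "Φ" => rootSys rtOKE6
local notation "S" => stSys rtOKE6

/-- the roots of the extraspecial group -/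
def RR (r : ℕ) : Prop := 46 ≤ r ∧ r ≤ 55 ∨ 61 ≤ r ∧ r ≤ 71

instance decRR : DecidablePred RR := fun r => inferInstanceAs (Decidable (46 ≤ r ∧ r ≤ 55 ∨ 61 ≤ r ∧ r ≤ 71))

theorem RR_iff (r : Fin chevE6.nroots) : (Φ).Pos r ∧ ¬ (Φ).InSub JA r ↔ RR r := by
  rw [pos_iff_le, inSub_JA]
  revert r
  decide +kernel

theorem RR_comm : ∀ r s : Fin 72, RR r ∧ RR s → s.1 ≠ chevE6.neg r ∧
    (r.1 + s = 116 → ∃ c ∈ [(1 : ℤ), -1], tComm fastE6 r s = [(71, c, 1, 1)]) := by decide +kernel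

theorem RR_comm' : ∀ r s : Fin 72, RR r ∧ RR s → r.1 + s ≠ 116 → tComm fastE6 r s = [] := by decide +kernel

theorem RR_pair : ∀ r < 71, RR r → RR (116 - r) ∧ RR (rhoE6 (116 - r)) ∧ rhoE6 (116 - r) < 71 ∧
    116 - r + rhoE6 (116 - r) ≠ 116 ∧ rhoE6 (rhoE6 (116 - r)) = 116 - r := by decide +kernel

theorem RR_inv : ∀ r : Fin chevE6.nroots,
    72 ≤ 2 * r.1 ∧ 2 * app tSwE6 ([0, 1, 2, 3, 1, 2, 0, 1, 2, 3, 0, 1, 2, 1, 0] : List (Fin 4)) r < 72 ↔ RR r := by
  decide +kernel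

theorem RR.lt {r : ℕ} (h : RR r) : r < 72 := by unfold RR at h; omega

theorem cc {G : Type*} [Group G] (a b g : G) : a * b * g * (a * b)⁻¹ = a * (b * g * b⁻¹) * a⁻¹ := by group

variable {K : Type*} [Field K]

theorem x_mem_UJ {r : ℕ} (hr : RR r) (t : K) : xU chevE6 K r t ∈ (S K).UJ JA :=
  (S K).x_mem_UU (r := ⟨r, hr.lt⟩) ((RR_iff _).2 hr) t

theorem comm_UJ {g : GL chevE6.Idx K} (hg : g ∈ (S K).UJ JA) (t : K) : Commute g (xU chevE6 K 71 t) :=
  comm_top (mem_sup_left ((S K).UJ_le_U _ hg)) t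

theorem exists_RR {g : GL chevE6.Idx K} (hg : g ∈ (S K).UJ JA) : ∃ L : List (Fin chevE6.nroots), L.Nodup ∧
    (∀ r, r ∈ L ↔ RR r) ∧ ∃ t, g = (S K).xprod L t := by
  obtain ⟨L, h1, h2⟩ := StSys.exists_list {r | (Φ).Pos r ∧ ¬ (Φ).InSub JA r}
  exact ⟨L, h1, fun r => (h2 r).trans (RR_iff r),
    (sharp_stSys rtOKE6 K).exists_xprod (fun _ h => h.1) (closed_rad _) h1 h2 hg⟩

variable [CharP K 2]

theorem conj_x {r s : ℕ} (hr : RR r) (hs : RR s) (t u : K) : xU chevE6 K s u * xU chevE6 K r t * (xU chevE6 K s u)⁻¹ =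
    xU chevE6 K r t * xU chevE6 K 71 (if r + s = 116 then t * u else 0) := by
  obtain ⟨h1, h2⟩ := RR_comm ⟨r, hr.lt⟩ ⟨s, hs.lt⟩ ⟨hr, hs⟩
  split_ifs with h
  · obtain ⟨c, hc, h2⟩ := h2 h
    have h3 := comm_single (D := chevE6) hr.lt hs.lt h1 ((cT _ _).trans h2) t u
    have h4 : (c : K) = 1 := by
      rcases List.mem_pair.1 hc with rfl | rfl <;> simp [CharTwo.neg_eq]
    rw [h4, CharTwo.neg_eq, one_mul] at h3
    rw [← (comm_UJ (x_mem_UJ hs u) _).mul_inv_cancel, ← h3]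
    group
  · rw [xU_zero, mul_one]
    exact (comm_x ⟨hr.lt, hs.lt, h1, (cT _ _).trans (RR_comm' ⟨r, hr.lt⟩ ⟨s, hs.lt⟩ ⟨hr, hs⟩ h)⟩ t u).symm.mul_inv_cancel

theorem conj_xprod {s : ℕ} (hs : RR s) (u : K) (t : Fin chevE6.nroots → K) {L : List (Fin chevE6.nroots)}
    (hL : ∀ r ∈ L, RR r) : xU chevE6 K s u * (S K).xprod L t * (xU chevE6 K s u)⁻¹ =
      (S K).xprod L t * xU chevE6 K 71 (L.map fun r => if r.1 + s = 116 then t r * u else 0).sum := by
  induction L with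
  | nil => simp [StSys.xprod_nil]
  | cons r L ih =>
    have h1 := fun r h => hL r (List.mem_cons_of_mem _ h)
    rw [StSys.xprod_cons, ← conj_mul, ih h1, stSys_x, conj_x (hL r List.mem_cons_self) hs, List.map_cons, List.sum_cons,
      xU_add, mul_assoc, mul_assoc, ← mul_assoc (xU chevE6 K 71 _),
      ← (comm_UJ ((S K).xprod_mem_UU (fun r h => (RR_iff r).2 (h1 r h)) t) _).eq, mul_assoc]

theorem exists_conj {g y : GL chevE6.Idx K} (hg : g ∈ (S K).UJ JA) (hy : y ∈ (S K).UJ JA) :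
    ∃ c, y * g * y⁻¹ = g * xU chevE6 K 71 c := by
  obtain ⟨L, -, hL, t, rfl⟩ := exists_RR hg
  refine (S K).UU_induction_left (p := fun y => ∃ c, y * _ * y⁻¹ = _ * xU chevE6 K 71 c) ⟨0, by simp⟩ ?_ hy
  rintro r hr u y - ⟨c, e⟩
  have h := (RR_iff r).1 hr
  exact ⟨_ + c, by
    rw [cc, e, ← conj_mul, stSys_x, conj_xprod h u t fun r => (hL r).1, (comm_UJ (x_mem_UJ h u) c).mul_inv_cancel,
      xU_add, mul_assoc]⟩

omit [CharP K 2] in
theorem sum_pair {L : List (Fin chevE6.nroots)} (h1 : L.Nodup) {r : Fin chevE6.nroots} (h2 : r ∈ L) {s : ℕ}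
    (h : r.1 + s = 116) (f : Fin chevE6.nroots → K) : (L.map fun k => if k.1 + s = 116 then f k else 0).sum = f r := by
  rw [← List.sum_toFinset _ h1, Finset.sum_eq_single_of_mem r (List.mem_toFinset.2 h2)
    fun k _ hk => if_neg fun e => hk (Fin.ext (by omega)), if_pos h]

variable [Fintype K] (hK : Fintype.card K = 4)

theorem eq_z {g : twistedE6 K 2} {c : K} (h : (g : GL chevE6.Idx K) = xU chevE6 K 71 c) : g = 1 ∨ g = zM hK :=
  (zero_or_one hK (r := rtE6 71) (by decide) (h ▸ g.2)).imp (fun e => Subtype.ext (by rw [h, e, xU_zero]; rfl))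
    fun e => Subtype.ext (by rw [h, e, coe_zM])

theorem center_Q {g : twistedE6 K 2} (hg : g ∈ QM K) (h : ∀ q ∈ QM K, q * g = g * q) : g = 1 ∨ g = zM hK := by
  obtain ⟨L, h1, hL, t, e⟩ := exists_RR (mem_subgroupOf.1 hg)
  have key : ∀ r ∈ L, r ∉ ({rtE6 71} : Set _) → t r = 0 := fun r hr hr' => by
    have h2 := (hL r).1 hr
    have h3 : r.1 < 71 := by have := h2.lt; have := Fin.val_ne_of_ne hr'; change _ ≠ 71 at this; omega
    obtain ⟨a1, a2, a3, a4, a5⟩ := RR_pair r h3 h2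
    obtain ⟨b1, -⟩ := RR_pair _ a3 a2
    have h4 : ∀ u : K, t ⟨_, b1.lt⟩ * u ^ 2 + t r * u = 0 := fun u => by
      have c1 := x_mem_UJ a1 u
      have c2 := x_mem_UJ a2 (u ^ 2)
      have c3 := conj_x a2 a1 (u ^ 2) u
      rw [if_neg (by omega), xU_zero, mul_one, mul_inv_eq_iff_eq_mul] at c3
      have c4 := congrArg Subtype.val (h ⟨_, (mem_iff hK).2 ⟨UU_le_grp _ _ (mul_mem c1 c2), by
        rw [(twE6 _).σ_mul _ (UU_le_grp _ _ c1) _ (UU_le_grp _ _ c2), σ_x _ a1.lt, σ_x _ a2.lt, a5, hφ, ← hφ u,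
          hφ2 hK, hφ, c3]⟩⟩ (mul_mem c1 c2))
      simp only [coe_mul, e] at c4
      rw [← mul_inv_eq_iff_eq_mul, cc, conj_xprod a2 _ t fun r => (hL r).1, ← conj_mul,
        conj_xprod a1 _ t fun r => (hL r).1, (comm_UJ c1 _).mul_inv_cancel, mul_assoc, mul_eq_left, ← xU_add,
        xU_eq_one_iff (by decide), sum_pair h1 hr (by unfold RR at h2; omega),
        sum_pair h1 ((hL ⟨_, b1.lt⟩).2 b1) (by unfold RR at a2; dsimp only; omega), add_comm] at c4
      exact c4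
    obtain ⟨w, h5, h6⟩ := exists_sq_ne_one (K := K) hK.ge
    have h7 := h4 1
    have h8 : t r * (w * (1 - w)) = 0 := by linear_combination h4 w - w ^ 2 * h7
    simpa [h5, sub_eq_zero, show 1 ≠ w by rintro rfl; simp at h6] using h8
  obtain ⟨c, hc⟩ := (S K).mem_X_iff.1 ((S K).xprod_mem_UU' key)
  exact eq_z hK (e.trans hc)

theorem wM_mem {r : ℕ} (hr : RR r) (h : okTw fastE6 rhoE6 [r] = true) : wM hK [r] h ∈ QM K :=
  mul_mem (x_mem_UJ hr 1) (one_mem _)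

theorem z_mem : zM hK ∈ QM K := wM_mem hK (by decide) _

theorem chkA : okTw fastE6 rhoE6 [46] = true ∧ okTw fastE6 rhoE6 [70] = true ∧ okTw fastE6 rhoE6 [39] = true ∧
    rk fastE6 [46, 70, 46, 70] ≠ 0 ∧ rk fastE6 [39, 46, 39, 46] ≠ 0 ∧ rk fastE6 [39, 46, 39, 46, 71] ≠ 0 := by
  decide +kernel

theorem es : ES (QM K) (zM hK) where
  ne_one e := one_ne_zero ((xU_eq_one_iff (D := chevE6) (by decide) (1 : K)).1
    ((coe_zM hK).symm.trans (congrArg Subtype.val e)))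
  mul_self := Subtype.ext (by rw [coe_mul, coe_zM, ← xU_add, CharTwo.add_self_eq_zero, xU_zero]; rfl)
  mem := z_mem hK
  comm_z x hx := Subtype.ext (by rw [coe_mul, coe_mul, coe_zM]; exact comm_UJ hx 1)
  center x hx := center_Q hK hx
  comm x hx y hy := by
    obtain ⟨c, e⟩ := exists_conj (mem_subgroupOf.1 hy) (mem_subgroupOf.1 hx)
    rw [(comm_UJ (mem_subgroupOf.1 hy) c).eq, ← mul_inv_eq_iff_eq_mul] at e
    refine (eq_z hK (g := x * y * x⁻¹ * y⁻¹) e).imp (fun h => ?_) fun h => by rw [← h]; group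
    rwa [mul_inv_eq_one, mul_inv_eq_iff_eq_mul] at h
  nonab := ⟨_, wM_mem hK (by decide) chkA.1, _, wM_mem hK (by decide) chkA.2.1, fun e =>
    ne_one_of_rk (F := K) matchE6.ofD_eq rfl chkA.2.2.2.1 (by
      have := congrArg Subtype.val e
      simp only [coe_mul, coe_wM] at this
      change wd chevE6 K ([46] ++ [70] ++ [46].reverse ++ [70].reverse) = 1
      rw [wd_append, wd_append, wd_append, wd_reverse, wd_reverse, this]
      group)⟩

include hK in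
theorem card_Q : Nat.card (QM K) = 2 ^ 21 := by
  have h := redChk_sound symE6 swE6 soE6_eq (fun w => Nat.card ↥((S K).UU ((Φ).Inv w) ⊓ (twE6 (frobenius K 2)).Fix)) 2
    wtE6 (weightE6 hφ hK) [0, 1, 2, 3, 1, 2, 0, 1, 2, 3, 0, 1, 2, 1, 0] [] (by decide +kernel)
  rw [Sym.pw_nil, IsTw.card_Inv_one, one_mul, List.nil_append, show (Φ).Inv _ = {r | (Φ).Pos r ∧ ¬ (Φ).InSub JA r} from
    Set.ext fun r => by
      rw [Set.mem_ofPred, RR_iff, ← RR_inv, ← pw_val symE6 swE6]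
      exact and_congr (pos_iff_le r) ((Φ).neg_iff_not_pos.trans ((pos_iff_le _).not.trans not_le)),
    ← eq_FixE6 hφ (hφ2 hK)] at h
  exact (Nat.card_congr (subgroupOfEquivOfLe inf_le_right).toEquiv.symm).symm.trans h ▸ by rw [inf_subgroupOf_right]; rfl

theorem norm_Q {g : twistedE6 K 2} (hg : g * zM hK = zM hK * g) {x : twistedE6 K 2} (hx : x ∈ QM K) :
    g * x * g⁻¹ ∈ QM K :=
  (S K).P_conj_mem_UJ (mem_P_of_comm ((mem_iff hK).1 g.2).1 (coe_zM hK ▸ congrArg Subtype.val hg)) hx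

theorem six : ∃ f : centralizer {zM hK} →* Cfsg.PSU 6 K 2, Six (QM K) (zM hK) f := by
  obtain ⟨f, h1, h2⟩ := exists_levi hφ (hφ2 hK) hK (coe_zM hK)
  have hc := fun g : centralizer {zM hK} => mem_centralizer_singleton_iff.1 g.2
  refine ⟨f, ⟨es hK, fun g hg => ?_, fun g hg x => norm_Q hK hg⟩, card_Q hK, h1, h2⟩
  let D := (centralizer (QM K : Set (twistedE6 K 2))).subgroupOf (centralizer {zM hK})
  have : D.Normal := ⟨fun d hd c q hq => by
    have := hd _ (norm_Q hK (hc c⁻¹) hq)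
    simp only [coe_subtype, coe_mul, coe_inv, inv_inv] at this ⊢
    calc _ = c.1 * (c.1⁻¹ * q * c.1 * d.1) * c.1⁻¹ := by group
      _ = _ := by rw [this]; group⟩
  have := Unitary.isSimpleGroup_PSU (n := 6) (q := 2) hK (by norm_num) (by norm_num)
  rcases IsSimpleGroup.eq_bot_or_eq_top_of_normal _ (Normal.map ‹D.Normal› f h1) with h | h
  · exact center_Q hK ((h2 ⟨g, mem_centralizer_singleton_iff.2 (hg _ (z_mem hK)).symm⟩).1
      (h.le (mem_map_of_mem f (by exact hg)))) hg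
  · have hm : wM hK [39] chkA.2.2.1 ∈ centralizer {zM hK} := mem_centralizer_singleton_iff.2 (Subtype.ext (by
      rw [coe_mul, coe_mul, coe_zM]
      exact comm_top (mem_sup_left (mul_mem ((S K).x_mem_U ((pos_iff_le (rtE6 39)).2 (by decide)) 1) (one_mem _))) 1))
    obtain ⟨d, hd, e⟩ := h.ge (mem_top (f ⟨_, hm⟩))
    have h3 := (h2 (⟨_, hm⟩ * d⁻¹)).1 (by rw [map_mul, map_inv, e, mul_inv_cancel])
    have h4 := wM_mem hK (by decide) chkA.1
    have h5 := hd _ h4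
    have h6 : ∀ l, wd chevE6 K ([39, 46, 39, 46] ++ l) = wd chevE6 K [39] * wd chevE6 K [46] * (wd chevE6 K [39])⁻¹ *
        (wd chevE6 K [46])⁻¹ * wd chevE6 K l := fun l => by
      simp only [← wd_reverse, ← wd_append]; rfl
    simp only [coe_subtype, coe_mul, coe_inv] at h3 h5
    rcases (es hK).comm _ h3 _ h4 with h7 | h7
    · refine absurd ((h6 []).trans ?_) (ne_one_of_rk (F := K) matchE6.ofD_eq rfl chkA.2.2.2.2.1)
      rw [mul_assoc, (Commute.inv_right h5).symm.eq, ← mul_assoc, ← mul_assoc, mul_left_inj] at h7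
      rw [show wd chevE6 K [39] * wd chevE6 K [46] = _ from congrArg Subtype.val h7]
      simp [coe_wM, wd_nil]
    · refine absurd ((h6 [71]).trans ?_) (ne_one_of_rk (F := K) matchE6.ofD_eq rfl chkA.2.2.2.2.2)
      rw [mul_assoc, (Commute.inv_right h5).symm.eq, ← mul_assoc, ← mul_assoc, ← mul_assoc, mul_left_inj] at h7
      rw [show wd chevE6 K [39] * wd chevE6 K [46] = _ from congrArg Subtype.val h7]
      simpa [coe_wM, mul_assoc, zM] using congrArg Subtype.val (es hK).mul_self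

theorem exists_six {φ : K →+* K} (_hφ : ∀ t, φ t = t ^ 2) (_hφ2 : ∀ t, φ (φ t) = t) (hK : Fintype.card K = 2 ^ 2)
    {z : twistedE6 K 2} (hz : (z : GL chevE6.Idx K) = xU chevE6 K 71 1) : ∃ f : centralizer {z} →* Cfsg.PSU 6 K 2,
      Six (((S K).UJ {j | j ≠ ndE6 1}).subgroupOf (twistedE6 K 2)) z f := by
  obtain rfl : z = zM hK := Subtype.ext (hz.trans (coe_zM hK).symm)
  exact six hK

end CfsgLib.E62.Mo
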