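import Mathlib
import Cfsg.Agent.Lib.E62.RDefs
import Cfsg.Agent.Lib.E62.FiveA

/-!
# The model `²E₆(2)`: everything except the shape of the centralizer
-/

set_option autoImplicit false
set_option linter.unusedSectionVars false

namespace CfsgLib.E62

open Subgroup Cfsg.Lie CfsgLib.Chev CfsgLib.ChevInv CfsgLib.Twist CfsgLib.Stein CfsgLib.RGD CfsgLib.Weyl

local notation "Φ" => rootSys rtOKE6

/-- the roots with coefficient at least `m` at the node `j` -/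
def lev (j : Fin 6) (m : ℤ) : Set (Fin chevE6.nroots) := {r | m ≤ (Φ).rt r (ndE6 j)}

theorem rad_iff : ∀ j : Fin 6, ∀ r, ((Φ).Pos r ∧ ¬ (Φ).InSub {i | i ≠ ndE6 j} r) ↔ 1 ≤ (Φ).rt r (ndE6 j) := by
  unfold RootSys.Pos RootSys.InSub
  simp only [Set.mem_ofPred_eq]
  decide +kernel

theorem UJ_eq (K : Type*) [Field K] (j : Fin 6) :
    (stSys rtOKE6 K).UJ {i | i ≠ ndE6 j} = (stSys rtOKE6 K).UU (lev j 1) :=
  congrArg (stSys rtOKE6 K).UU (Set.ext fun r => rad_iff j r)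

theorem P_le_normalizer_lev (K : Type*) [Field K] (j : Fin 6) {m : ℤ} (hm : 0 < m) :
    (stSys rtOKE6 K).P {i | i ≠ ndE6 j} ≤ normalizer ((stSys rtOKE6 K).UU (lev j m) : Set (GL chevE6.Idx K)) := by
  rw [StSys.P_eq_H_sup_UU]
  refine sup_le (StSys.H_le_normalizer_UU _ _) (StSys.UU_le_normalizer _ fun r hr s hs => ?_)
  have h0 : 0 ≤ (Φ).rt r (ndE6 j) := hr.elim (fun h => h _) fun h => (h _ fun e => e rfl).ge
  have h1 : m ≤ (Φ).rt s (ndE6 j) := hs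
  refine ⟨fun e => ?_, fun k ⟨a, b, ha, hb, e⟩ => ?_⟩
  · rw [e, (Φ).rt_neg] at h1; omega
  · change m ≤ _
    rw [e]
    have : (1 : ℤ) ≤ b := by exact_mod_cast hb
    nlinarith [mul_nonneg (Int.natCast_nonneg a) h0]

theorem closed_inter {A B : Set (Fin chevE6.nroots)} (hA : (Φ).Closed A) (hB : (Φ).Closed B) : (Φ).Closed (A ∩ B) :=
  fun r hr s hs k hk => ⟨hA r hr.1 s hs.1 k hk, hB r hr.2 s hs.2 k hk⟩

theorem closed_lev (j : Fin 6) {m : ℤ} (hm : 0 ≤ m) : (Φ).Closed (lev j m) := fun r hr s hs k ⟨a, b, ha, hb, e⟩ => by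
  have h0 : m ≤ (Φ).rt r (ndE6 j) := hr
  have h1 : m ≤ (Φ).rt s (ndE6 j) := hs
  change m ≤ _
  rw [e]
  have : (1 : ℤ) ≤ b := by exact_mod_cast hb
  nlinarith [mul_nonneg (Int.natCast_nonneg a) (hm.trans h0)]

variable {K : Type*} [Field K] [Fintype K] [CharP K 2] {φ : K →+* K} (hφ : ∀ t, φ t = t ^ 2)
  (hφ2 : ∀ t, φ (φ t) = t)

local notation "SS" => stSys rtOKE6 K
local notation "M" => twistedE6 K 2

theorem σx_two {r : ℕ} (hr : r < chevE6.nroots) (t : K) :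
    (twE6 φ).σ (xU chevE6 K r t) = xU chevE6 K (rhoE6 r) (φ t) := by
  rw [twE6_σ_x φ hr, cast_oddB, if_pos ((by decide : ∀ r < 72, oddB (epsE6 r) = true) r hr), one_mul]

include hφ hφ2

/-- elements of the twisted group supported on fixed roots are words -/
theorem exists_sublist {L : List (Fin chevE6.nroots)} (hL : L.Nodup) (hp : ∀ r ∈ L, (Φ).Pos r ∧ rhoE6 r = r)
    (hc : (Φ).Closed {r | r ∈ L}) {g : GL chevE6.Idx K} (hg : g ∈ (SS).UU {r | r ∈ L}) (hM : g ∈ M) :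
    ∃ l ∈ (L.map Fin.val).sublists, g = wd chevE6 K l := by
  have hS := sharp_stSys rtOKE6 K
  obtain ⟨t, rfl⟩ := hS.xprod_surj L hL (fun r hr => (hp r hr).1) hc g hg
  have h1 : ∀ L : List (Fin chevE6.nroots), (∀ r ∈ L, rhoE6 r = r) →
      (twE6 φ).σ ((SS).xprod L t) = (SS).xprod L fun r => φ (t r) := fun L h => by
    induction L with
    | nil => exact (twE6 φ).σ_one
    | cons r L ih =>
      rw [StSys.xprod_cons, StSys.xprod_cons, (twE6 φ).σ_mul _ (StSys.x_mem_grp _ _ _) _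
        (StSys.UU_le_grp _ Set.univ (StSys.xprod_mem_UU _ (fun _ _ => trivial) _)),
        ih fun r hr => h r (List.mem_cons_of_mem _ hr), stSys_x, stSys_x, σx_two r.2, h r List.mem_cons_self]
  have h2 := hS.xprod_inj L hL (fun r hr => (hp r hr).1) _ _
    ((h1 L fun r hr => (hp r hr).2).symm.trans ((eq_FixE6 hφ hφ2).le hM).2)
  have h3 : ∀ L : List (Fin chevE6.nroots), (∀ r ∈ L, φ (t r) = t r) →
      ∃ l : List ℕ, l.Sublist (L.map Fin.val) ∧ (SS).xprod L t = wd chevE6 K l := fun L h => by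
    induction L with
    | nil => exact ⟨[], List.Sublist.refl _, rfl⟩
    | cons r L ih =>
      obtain ⟨l, hl, e⟩ := ih fun r hr => h r (List.mem_cons_of_mem _ hr)
      have h4 := h r List.mem_cons_self
      rw [hφ, sq] at h4
      rw [StSys.xprod_cons, e]
      rcases eq_or_ne (t r) 0 with h5 | h5
      · exact ⟨l, hl.cons _, by rw [h5, StSys.x_zero, one_mul]⟩
      · exact ⟨r :: l, hl.cons_cons _, by rw [(mul_eq_left₀ h5).1 h4]; rfl⟩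
  obtain ⟨l, hl, e⟩ := h3 L h2
  exact ⟨l, List.mem_sublists.2 hl, e⟩

theorem parabolic_le_P {J : Set (Fin chevE6.rank)} {T : Set M}
    (h : ∀ g ∈ T, ∃ b, g = (isTwE6 hφ hφ2).nM b ∧ ∀ i, symE6.orb i = b → i ∈ J) :
    (isTwE6 hφ hφ2).bn.parabolic T ≤ ((SS).P J).subgroupOf M :=
  BN.parabolic_le (fun _ hg => StSys.B_le_P J hg.1) fun g hg => by
    obtain ⟨b, rfl, hb⟩ := h g hg
    exact StSys.NJ_le_P J ((stSys_nondeg rtOKE6).mem_NJ_of_acts ((isTwE6 hφ hφ2).nb_mem_N b)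
      (closure_mono (Set.image_mono hb) ((twE6 φ).sw_mem_WJ b)) ((isTwE6 hφ hφ2).acts_nb b))

/-- the element of the twisted group given by a word -/
noncomputable def el (l : List ℕ) (h : okTw fastE6 rhoE6 l = true := by decide +kernel) : M :=
  ⟨wd chevE6 K l, memTE6 hφ hφ2 l h⟩

theorem el_val (l : List ℕ) (h : okTw fastE6 rhoE6 l = true) : (el hφ hφ2 l h : GL chevE6.Idx K) = wd chevE6 K l := rfl

theorem el_mem {l : List ℕ} (h) {Ψ : Set (Fin chevE6.nroots)} (hl : ∀ r : Fin chevE6.nroots, r.1 ∈ l → r ∈ Ψ) :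
    el hφ hφ2 l h ∈ ((SS).UU Ψ).subgroupOf M := by
  have h1 : ∀ r ∈ l, r < chevE6.nroots := fun r hr =>
    Nat.blt_eq.mp (List.all_eq_true.1 (Bool.and_eq_true_iff.1 h).1 r hr)
  refine Subgroup.list_prod_mem ((SS).UU Ψ) fun _ hg => ?_
  obtain ⟨r, hr, rfl⟩ := List.mem_map.1 hg
  exact (SS).x_mem_UU (hl ⟨r, h1 r hr⟩ hr) 1

theorem el_mem_B {l : List ℕ} (h) (hl : ∀ r ∈ l, 36 ≤ r) : el hφ hφ2 l h ∈ (isTwE6 hφ hφ2).bn.B :=
  ⟨(SS).U_le_B (el_mem hφ hφ2 h fun r hr => (pos_iff_le r).2 (by have := hl r hr; change 72 ≤ _; omega)), (el hφ hφ2 l h).2⟩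

theorem conj_mem_lev {j : Fin 6} {m : ℤ} (hm : 0 < m) {T : Set M}
    (h : ∀ g ∈ T, ∃ b, g = (isTwE6 hφ hφ2).nM b ∧ symE6.orb (ndE6 j) ≠ b) {g : M}
    (hg : g ∈ (isTwE6 hφ hφ2).bn.parabolic T) (x : M) : (x : GL chevE6.Idx K) ∈ (SS).UU (lev j m) ↔
    ((g * x * g⁻¹ : M) : GL chevE6.Idx K) ∈ (SS).UU (lev j m) :=
  mem_normalizer_iff.1 (P_le_normalizer_lev K j hm (parabolic_le_P hφ hφ2 (J := {i | i ≠ ndE6 j}) (fun g hg =>
    let ⟨b, e, hb⟩ := h g hg; ⟨b, e, fun _ hi e' => hb (by rw [← hi, show _ = ndE6 j from e'])⟩) hg)) x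

theorem mem_lev {j : Fin 6} {m : ℤ} (hm : 0 ≤ m) {L : List (Fin chevE6.nroots)}
    (hL : L.Nodup ∧ (∀ r ∈ L, 72 ≤ 2 * r.1 ∧ rhoE6 r = r) ∧ ∀ r, r ∈ L ↔ m ≤ (Φ).rt r (ndE6 j)) {g : M}
    (hg : (g : GL chevE6.Idx K) ∈ (SS).UU (lev j m)) :
    ∃ l ∈ (L.map Fin.val).sublists, (g : GL chevE6.Idx K) = wd chevE6 K l := by
  have e : {r | r ∈ L} = lev j m := Set.ext hL.2.2
  exact exists_sublist hφ hφ2 hL.1 (fun r hr => ⟨(pos_iff_le r).2 (hL.2.1 r hr).1, (hL.2.1 r hr).2⟩)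
    (e ▸ closed_lev j hm) (e ▸ hg) g.2

theorem nM_inv_mul {b : Fin 4} {i : Fin chevE6.rank} (hb : symE6.J b = {i}) {m : M}
    (hm : (m : GL chevE6.Idx K) = (SS).n ((Φ).simple i) 1) :
    m ∈ (isTwE6 hφ hφ2).bn.N ∧ ((isTwE6 hφ hφ2).nM b)⁻¹ * m ∈ (isTwE6 hφ hφ2).bn.B := by
  have h1 : (m : GL chevE6.Idx K) ∈ (SS).N := hm ▸ (SS).n_one_mem_N _
  have h2 : (twE6 φ).sw b = (Φ).s i := by
    refine (eq_w0 (Φ) (subset_closure ⟨i, hb.ge rfl, rfl⟩) fun j hj => ?_).symm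
    rw [show j = i from hb.le hj]
    exact (((Φ).Inv_s i).ge rfl).2
  refine ⟨⟨h1, m.2⟩, (SS).H_le_B ((stSys_nondeg rtOKE6).inv_mul_mem_H ((isTwE6 hφ hφ2).nb_mem_N b) h1
    ((isTwE6 hφ hφ2).acts_nb b) ?_), (((isTwE6 hφ hφ2).nM b)⁻¹ * m).2⟩
  rw [h2, hm]
  exact (SS).acts_n_simple i one_ne_zero

theorem wd_n (r : Fin chevE6.nroots) : wd chevE6 K [r, (Φ).neg r, r] = (SS).n r 1 := by
  rw [StSys.n, inv_one, CharTwo.neg_eq, mul_assoc, wd_cons, wd_cons, wd_cons, wd_nil, mul_one]; rfl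

theorem ne_of_rk {l l' : List ℕ} (h : rk fastE6 (l ++ l'.reverse) ≠ 0) : wd chevE6 K l ≠ wd chevE6 K l' := fun e =>
  ne_one_of_rk (F := K) matchE6.ofD_eq rfl h (by rw [wd_append, wd_reverse, e, mul_inv_cancel])

/-- the centralizer of the long root element is a parabolic subgroup -/
theorem cent_z {z : M} (hz : (z : GL chevE6.Idx K) = xU chevE6 K 71 1) :
    centralizer {z} = (isTwE6 hφ hφ2).bn.parabolic
      {(isTwE6 hφ hφ2).nM 1, (isTwE6 hφ hφ2).nM 2, (isTwE6 hφ hφ2).nM 3} := by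
  obtain rfl : z = el hφ hφ2 [71] := Subtype.ext (hz.trans (mul_one _).symm)
  have h1 : (isTwE6 hφ hφ2).bn.parabolic {(isTwE6 hφ hφ2).nM 1, (isTwE6 hφ hφ2).nM 2, (isTwE6 hφ hφ2).nM 3} ≤
      centralizer {el hφ hφ2 [71]} := fun g hg => by
    obtain ⟨l, hl, e⟩ := mem_lev hφ hφ2 (j := 1) (m := 2) (by norm_num) (L := [rtE6 71]) (by decide +kernel)
      ((conj_mem_lev hφ hφ2 (by norm_num) (by
        rintro _ (rfl | rfl | rfl) <;> exact ⟨_, rfl, by decide +kernel⟩) hg _).1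
        (el_mem hφ hφ2 (l := [71]) _ (by unfold lev; decide +kernel)))
    rcases (by decide : ∀ l ∈ ([rtE6 71].map Fin.val).sublists, l = [] ∨ l = [71]) l hl with rfl | rfl
    · exact (ne_of_rk hφ hφ2 (l := [71]) (l' := []) (by decide +kernel)
        (congrArg Subtype.val (conj_eq_one_iff.1 (Subtype.ext e)))).elim
    · exact mem_centralizer_singleton_iff.2 (mul_inv_eq_iff_eq_mul.1 (Subtype.ext e))
  have hB := (BN.B_le_parabolic _).trans h1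
  refine le_antisymm ((BN.eq_parabolic_of_le hB).le.trans (BN.parabolic_mono ?_)) h1
  rintro _ ⟨⟨b, rfl⟩, hb⟩
  rcases (by decide : ∀ b : Fin 4, b = 0 ∨ b = 1 ∨ b = 2 ∨ b = 3) b with rfl | rfl | rfl | rfl
  · have h2 := mem_centralizer_singleton_iff.1 (mul_mem hb (hB (nM_inv_mul hφ hφ2 JE6_0
      (m := el hφ hφ2 [46, 25, 46]) (wd_n hφ hφ2 (rtE6 46))).2))
    rw [mul_inv_cancel_left] at h2
    exact (ne_of_rk hφ hφ2 (l := [46, 25, 46] ++ [71]) (l' := [71] ++ [46, 25, 46]) (by decide +kernel)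
      ((wd_append _ _).trans ((congrArg Subtype.val h2).trans (wd_append _ _).symm))).elim
  all_goals simp

variable (K) in
/-- the extraspecial group `2^(1+20)` -/
abbrev QE : Subgroup M := ((SS).UJ {j | j ≠ ndE6 1}).subgroupOf M

variable (K) in
/-- the unipotent radical of the parabolic subgroup of type `{α₁, α₂}` -/
abbrev UE : Subgroup M := ((SS).UJ {ndE6 1, ndE6 3}).subgroupOf M

local notation "Q" => QE K
local notation "U" => UE K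

theorem el_mem_Q {l : List ℕ} (h) (hl : ∀ r : Fin chevE6.nroots, r.1 ∈ l → 1 ≤ (Φ).rt r (ndE6 1)) :
    el hφ hφ2 l h ∈ Q := by
  rw [QE, UJ_eq]; exact el_mem hφ hφ2 h hl

theorem el_mem_U {l : List ℕ} (h) (hl : ∀ r ∈ l, 69 ≤ r) : el hφ hφ2 l h ∈ U :=
  el_mem hφ hφ2 h fun r hr => (by
    unfold RootSys.Pos RootSys.InSub
    decide +kernel : ∀ r : Fin chevE6.nroots, 69 ≤ r.1 → (Φ).Pos r ∧ ¬ (Φ).InSub {ndE6 1, ndE6 3} r) r (hl r hr)

theorem comm_U {r : Fin chevE6.nroots} (hr : 69 ≤ r.1) {u : GL chevE6.Idx K} (hu : u ∈ (SS).UJ {ndE6 1, ndE6 3}) :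
    xU chevE6 K r 1 * u = u * xU chevE6 K r 1 := by
  have h := (SS).comm_mem_UU_of_mem (K := ∅) (r := r) (fun s hs => ⟨fun e => ?_, fun k ⟨a, b, ha, hb, e⟩ => ?_⟩)
    (fun _ _ _ h => h.elim) hu 1
  · rw [StSys.UU_empty, mem_bot, stSys_x] at h
    rw [← mul_inv_eq_one, ← conj_eq_one_iff (a := (xU chevE6 K r 1 * u)⁻¹), ← inv_eq_one, ← h]
    group
  · have h1 := (pos_iff_le s).1 hs.1
    rw [e] at h1
    exact absurd h1 ((by decide +kernel : ∀ r : Fin chevE6.nroots, 69 ≤ r.1 →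
      ¬ chevE6.nroots ≤ 2 * ((Φ).neg r).1) r hr)
  · let μ := fun r => (Φ).rt r (ndE6 0) + (Φ).rt r (ndE6 2) + (Φ).rt r (ndE6 4) + (Φ).rt r (ndE6 5)
    have h1 : ∀ r : Fin chevE6.nroots, μ r ≤ 6 ∧ (69 ≤ r.1 → μ r = 6) ∧
        ((Φ).Pos r ∧ ¬ (Φ).InSub {ndE6 1, ndE6 3} r → 1 ≤ μ r) := by
      unfold RootSys.Pos RootSys.InSub
      decide +kernel
    have h2 : μ k = a * μ r + b * μ s := by simp only [μ, e]; ring
    have h3 := (h1 k).1
    rw [h2, (h1 r).2.1 hr] at h3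
    have ha : (1 : ℤ) ≤ a := by exact_mod_cast ha
    have hb : (1 : ℤ) ≤ b := by exact_mod_cast hb
    nlinarith [(h1 s).2.2 hs]

theorem exists_mul_U {x : M} (hx : x ∈ Q) : ∃ y ∈ Q ⊓ U, x = y ∨ x = el hφ hφ2 [46] * y ∨
    x = el hφ hφ2 [47] * y ∨ x = el hφ hφ2 [46] * el hφ hφ2 [47] * y := by
  have e1 : {r | r ∈ [rtE6 46, rtE6 47]} = lev 1 1 ∩ posJ (Φ) {ndE6 1, ndE6 3} := Set.ext (by
    unfold lev posJ RootSys.Pos RootSys.InSub
    simp only [Set.mem_inter_iff, Set.mem_ofPred_eq]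
    decide +kernel)
  have hp : ∀ r ∈ lev 1 1, (Φ).Pos r := fun r hr => ((rad_iff 1 r).2 hr).1
  have hρ : ∀ r, (1 ≤ (Φ).rt r (ndE6 1) → 1 ≤ (Φ).rt (symE6.ρ r) (ndE6 1)) ∧
      ((Φ).InSub {ndE6 1, ndE6 3} (symE6.ρ r) ↔ (Φ).InSub {ndE6 1, ndE6 3} r) := by
    unfold RootSys.InSub
    decide +kernel
  have e2 : lev 1 1 ∩ posJ (Φ) {ndE6 1, ndE6 3} ∪ lev 1 1 ∩ {r | (Φ).Pos r ∧ ¬ (Φ).InSub {ndE6 1, ndE6 3} r} =
      lev 1 1 := Set.ext fun r => ⟨fun h => h.elim And.left And.left, fun h =>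
    (em ((Φ).InSub {ndE6 1, ndE6 3} r)).imp (fun h' => ⟨h, hp r h, h'⟩) fun h' => ⟨h, hp r h, h'⟩⟩
  have c1 := closed_inter (closed_lev 1 zero_le_one) (closed_posJ {ndE6 1, ndE6 3})
  obtain ⟨a, ha, b, hb, e⟩ := (twE6 φ).exists_mul_fix (sharp_stSys rtOKE6 K) (e2.symm ▸ hp)
    (e2.symm ▸ closed_lev 1 zero_le_one) c1
    (closed_inter (closed_lev 1 zero_le_one) (closed_rad {ndE6 1, ndE6 3}))
    (Set.disjoint_left.2 fun r h h' => h'.2.2 h.2.2)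
    (fun r hr => ⟨(hρ r).1 hr.1, (twE6 φ).pos_ρ hr.2.1, (hρ r).2.2 hr.2.2⟩)
    (fun r hr => ⟨(hρ r).1 hr.1, (twE6 φ).pos_ρ hr.2.1, fun h => hr.2.2 ((hρ r).2.1 h)⟩)
    (g := x) (by rw [e2, ← UJ_eq]; exact hx) ((eq_FixE6 hφ hφ2).le x.2)
  obtain ⟨l, hl, e'⟩ := exists_sublist hφ hφ2 (L := [rtE6 46, rtE6 47]) (by decide)
    (fun r hr => ⟨hp r (e1.le hr).1, by revert r; decide⟩) (e1 ▸ c1) (e1 ▸ ha.1) ((eq_FixE6 hφ hφ2).ge ha.2)
  refine ⟨⟨b, (eq_FixE6 hφ hφ2).ge hb.2⟩, ⟨by rw [QE, UJ_eq]; exact (SS).UU_mono Set.inter_subset_left hb.1,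
    (SS).UU_mono Set.inter_subset_right hb.1⟩, ?_⟩
  rw [e'] at e
  rcases (by decide : ∀ l ∈ ([rtE6 46, rtE6 47].map Fin.val).sublists, l = [] ∨ l = [46] ∨ l = [47] ∨
    l = [46] ++ [47]) l hl with rfl | rfl | rfl | rfl
  · exact Or.inl (Subtype.ext (e.trans (one_mul _)))
  · exact Or.inr (Or.inl (Subtype.ext e))
  · exact Or.inr (Or.inr (Or.inl (Subtype.ext e)))
  · exact Or.inr (Or.inr (Or.inr (Subtype.ext (e.trans (by rw [wd_append]; rfl)))))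

theorem el_eq {l l' : List ℕ} {x y : M} (hx : (x : GL chevE6.Idx K) = wd chevE6 K l)
    (hy : (y : GL chevE6.Idx K) = wd chevE6 K l') (h : same fastE6 l l' = true) : x = y :=
  Subtype.ext (hx.trans ((sameE h).trans hy.symm))

theorem cent_QU (es : ExtraTwo.ES Q (el hφ hφ2 [71])) {r : M} (hr : r ∈ Q) (hc : ∀ u ∈ Q ⊓ U, r * u = u * r) :
    ∃ l ∈ [69, 70, 71].sublists, (r : GL chevE6.Idx K) = wd chevE6 K l := by
  have hx : el hφ hφ2 [46] ∈ Q := el_mem_Q hφ hφ2 _ (by decide +kernel)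
  have hy : el hφ hφ2 [47] ∈ Q := el_mem_Q hφ hφ2 _ (by decide +kernel)
  have hs : el hφ hφ2 [70] ∈ Q := el_mem_Q hφ hφ2 _ (by decide +kernel)
  have ht : el hφ hφ2 [69] ∈ Q := el_mem_Q hφ hφ2 _ (by decide +kernel)
  have cs : ∀ u ∈ Q ⊓ U, Commute (el hφ hφ2 [70]) u := fun u hu => Subtype.ext (by
    simpa [el_val, wd_cons, wd_nil, rtE6] using comm_U hφ hφ2 (r := rtE6 70) (by decide) hu.2)
  have ct : ∀ u ∈ Q ⊓ U, Commute (el hφ hφ2 [69]) u := fun u hu => Subtype.ext (by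
    simpa [el_val, wd_cons, wd_nil, rtE6] using comm_U hφ hφ2 (r := rtE6 69) (by decide) hu.2)
  have ne : ∀ {a b : ℕ} (ha hb), rk fastE6 ([a] ++ [b] ++ ([b] ++ [a]).reverse) ≠ 0 →
      el hφ hφ2 [a] ha * el hφ hφ2 [b] hb ≠ el hφ hφ2 [b] hb * el hφ hφ2 [a] ha := fun _ _ h e =>
    ne_of_rk hφ hφ2 h ((wd_append _ _).trans ((congrArg Subtype.val e).trans (wd_append _ _).symm))
  have co : ∀ {a b : ℕ} (ha hb), same fastE6 ([a] ++ [b]) ([b] ++ [a]) = true →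
      Commute (el hφ hφ2 [a] ha) (el hφ hφ2 [b] hb) := fun _ _ h =>
    el_eq hφ hφ2 (wd_append _ _).symm (wd_append _ _).symm h
  have key : ∀ r ∈ Q, (∀ u ∈ Q ⊓ U, Commute r u) → Commute r (el hφ hφ2 [46]) → Commute r (el hφ hφ2 [47]) →
      r = 1 ∨ r = el hφ hφ2 [71] := fun r hr hc h1 h2 => es.center r hr fun q hq => by
    obtain ⟨y, hy, rfl | rfl | rfl | rfl⟩ := exists_mul_U hφ hφ2 hq
    exacts [(hc _ hy).symm, (h1.mul_right (hc _ hy)).symm, (h2.mul_right (hc _ hy)).symm,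
      ((h1.mul_right h2).mul_right (hc _ hy)).symm]
  have key2 : ∀ r ∈ Q, (∀ u ∈ Q ⊓ U, Commute r u) → Commute r (el hφ hφ2 [47]) →
      ∃ l ∈ [70, 71].sublists, (r : GL chevE6.Idx K) = wd chevE6 K l := fun r hr hc h2 => by
    by_cases h1 : Commute r (el hφ hφ2 [46])
    · rcases key r hr hc h1 h2 with rfl | rfl
      exacts [⟨[], by decide, rfl⟩, ⟨[71], by decide, rfl⟩]
    · rcases key _ (mul_mem hs hr) (fun u hu => (cs u hu).mul_left (hc u hu))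
        (es.mul_comm_of_not_comm hx hs hr (ne _ _ (by decide +kernel)) h1)
        ((co _ _ (by decide +kernel)).mul_left h2) with e | e <;> rw [← eq_inv_mul_iff_mul_eq] at e
      · exact ⟨[70], by decide, by rw [e, mul_one]; exact (wd_reverse [70]).symm⟩
      · exact ⟨[70] ++ [71], by decide, by rw [e, wd_append]; exact congrArg (· * _) (wd_reverse [70]).symm⟩
  by_cases h2 : Commute r (el hφ hφ2 [47])
  · obtain ⟨l, hl, e⟩ := key2 r hr hc h2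
    exact ⟨l, by clear e; revert l; decide, e⟩
  · obtain ⟨l, hl, e⟩ := key2 _ (mul_mem ht hr) (fun u hu => (ct u hu).mul_left (hc u hu))
      (es.mul_comm_of_not_comm hy ht hr (ne _ _ (by decide +kernel)) h2)
    refine ⟨[69].reverse ++ l, by clear e; revert l; decide, ?_⟩
    rw [wd_append, wd_reverse, ← e]
    exact (inv_mul_cancel_left _ _).symm

theorem model_of_six (hK : Fintype.card K = 2 ^ 2) {z : M} (hz : (z : GL chevE6.Idx K) = xU chevE6 K 71 1)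
    {X : Type*} [Group X] (f : centralizer {z} →* X) (six : Six Q z f) :
    ∃ V m₁ m₂ x₁ x₂, Model (isTwE6 hφ hφ2).bn (isTwE6 hφ hφ2).nM Q V z m₁ m₂ x₁ x₂ f := by
  have cent := cent_z hφ hφ2 hz
  obtain rfl : z = el hφ hφ2 [71] := Subtype.ext (hz.trans (mul_one _).symm)
  have es : el hφ hφ2 [46, 25, 46] * el hφ hφ2 [71] * (el hφ hφ2 [46, 25, 46])⁻¹ = el hφ hφ2 [70] :=
    el_eq hφ hφ2 (l := [46, 25, 46] ++ [71] ++ [46, 25, 46].reverse) (by rw [wd_append, wd_append, wd_reverse]; rfl)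
      rfl (by decide +kernel)
  have ey : el hφ hφ2 [39, 32, 39] * el hφ hφ2 [46] * (el hφ hφ2 [39, 32, 39])⁻¹ = el hφ hφ2 [47] :=
    el_eq hφ hφ2 (l := [39, 32, 39] ++ [46] ++ [39, 32, 39].reverse) (by rw [wd_append, wd_append, wd_reverse]; rfl)
      rfl (by decide +kernel)
  have hn : ∀ {i} {m : M}, i ∈ ({ndE6 1, ndE6 3} : Set _) → (m : GL chevE6.Idx K) = (SS).n ((Φ).simple i) 1 →
      m ∈ normalizer (U : Set M) := fun hi hm => by
    have h := (SS).P_le_normalizer_UJ _ (StSys.NJ_le_P _ (hm ▸ (SS).n_simple_mem_NJ hi one_ne_zero))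
    exact mem_normalizer_iff.2 fun x => mem_normalizer_iff.1 h x
  have hV : ∀ g : M, (g : GL chevE6.Idx K) ∈ (SS).UU (lev 3 3) ↔ g ∈ closure {el hφ hφ2 [71], el hφ hφ2 [70]} :=
    fun g => ⟨fun hg => by
      have h1 : el hφ hφ2 [71] ∈ closure {el hφ hφ2 [71], el hφ hφ2 [70]} := subset_closure (by simp)
      have h2 : el hφ hφ2 [70] ∈ closure {el hφ hφ2 [71], el hφ hφ2 [70]} := subset_closure (by simp)
      obtain ⟨l, hl, e⟩ := mem_lev hφ hφ2 (by norm_num) (L := [rtE6 70, rtE6 71]) (by decide +kernel) hg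
      rcases (by decide : ∀ l ∈ ([rtE6 70, rtE6 71].map Fin.val).sublists, l = [] ∨ l = [70] ∨ l = [71] ∨
        l = [70] ++ [71]) l hl with rfl | rfl | rfl | rfl
      exacts [(Subtype.ext e : g = 1) ▸ one_mem _, (Subtype.ext e : g = el hφ hφ2 [70]) ▸ h2,
        (Subtype.ext e : g = el hφ hφ2 [71]) ▸ h1,
        (Subtype.ext (e.trans (wd_append _ _)) : g = el hφ hφ2 [70] * el hφ hφ2 [71]) ▸ mul_mem h2 h1],
    fun hg => (closure_le (((SS).UU (lev 3 3)).subgroupOf M)).2 (by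
      rintro _ (rfl | rfl) <;> exact el_mem hφ hφ2 _ (by unfold lev; decide +kernel)) hg⟩
  have h9 : 3 * Nat.card M = 3 * 76532479683774853939200 := (cardE6 hφ hK).trans (by norm_num)
  refine ⟨U, el hφ hφ2 [46, 25, 46], el hφ hφ2 [39, 32, 39], el hφ hφ2 [46], el hφ hφ2 [39], six,
    (simpleE6 hφ hK).1, by rw [Nat.eq_of_mul_eq_mul_left (by norm_num) h9]; norm_num, rfl, ?_, cent,
    es ▸ el_mem_Q hφ hφ2 _ (by decide +kernel),
    fun e => ne_of_rk hφ hφ2 (l := [70]) (l' := [71]) (by decide +kernel) (congrArg Subtype.val (es.symm.trans e)),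
    fun g hg => ?_,
    nM_inv_mul hφ hφ2 JE6_0 (wd_n hφ hφ2 (rtE6 46)), nM_inv_mul hφ hφ2 JE6_1 (wd_n hφ hφ2 (rtE6 39)),
    ⟨el_eq hφ hφ2 (l' := []) (wd_append _ _).symm rfl (by decide +kernel),
      el_eq hφ hφ2 (l' := []) (wd_append _ _).symm rfl (by decide +kernel)⟩,
    el_eq hφ hφ2 (l := [46, 25, 46] ++ [39, 32, 39] ++ [46, 25, 46]) (l' := [39, 32, 39] ++ [46, 25, 46] ++ [39, 32, 39])
      (by rw [wd_append, wd_append]; rfl) (by rw [wd_append, wd_append]; rfl) (by decide +kernel),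
    ⟨el_mem_B hφ hφ2 _ (by decide), ey ▸ el_mem_B hφ hφ2 _ (by decide), el_mem_B hφ hφ2 _ (by decide)⟩,
    el_eq hφ hφ2 (l := [46, 25, 46] ++ [47] ++ [46, 25, 46].reverse) (l' := [39])
      (by rw [ey, wd_append, wd_append, wd_reverse]; rfl) rfl (by decide +kernel),
    el_eq hφ hφ2 (l := rep 3 ([46, 25, 46] ++ [46])) (l' := []) (by rw [wd_rep, wd_append]; rfl) rfl
      (by decide +kernel),
    fun u hu => ⟨(SS).U_le_B ((SS).UJ_le_U _ hu), u.2⟩, el_mem_U hφ hφ2 _ (by decide),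
    ⟨hn (Or.inl rfl) (wd_n hφ hφ2 (rtE6 46)), hn (Or.inr rfl) (wd_n hφ hφ2 (rtE6 39))⟩, ?_, fun r hr hc => ?_,
    fun t ht => ?_⟩
  · exact Nat.not_even_iff_odd.1 fun h => (isTwE6 hφ hφ2).not_dvd_relIndex 2 ((even_iff_two_dvd.1 h).trans
      (index_dvd_of_le fun g hg => ⟨(SS).U_le_B hg.1, hg.2⟩))
  · rw [es]
    exact mem_normalizer_iff.2 fun x => (hV x).symm.trans ((conj_mem_lev hφ hφ2 (by norm_num) (by
      rintro _ (rfl | rfl | rfl) <;> exact ⟨_, rfl, by decide +kernel⟩) hg x).trans (hV _))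
  · have hx : el hφ hφ2 [46] ∈ Q := el_mem_Q hφ hφ2 _ (by decide +kernel)
    have hy : el hφ hφ2 [47] ∈ Q := el_mem_Q hφ hφ2 _ (by decide +kernel)
    refine (Nat.card_le_card_of_surjective (fun i : Fin 4 => ((![1, ⟨_, hx⟩, ⟨_, hy⟩, ⟨_, mul_mem hx hy⟩] i : Q) :
      Q ⧸ (U).subgroupOf Q)) fun c => ?_).trans (by simp)
    obtain ⟨⟨q, hq⟩, rfl⟩ := QuotientGroup.mk_surjective c
    obtain ⟨y, hy, rfl | rfl | rfl | rfl⟩ := exists_mul_U hφ hφ2 hq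
    exacts [⟨0, QuotientGroup.eq.2 (by simpa [mem_subgroupOf] using hy.2)⟩,
      ⟨1, QuotientGroup.eq.2 (by simpa [mem_subgroupOf] using hy.2)⟩,
      ⟨2, QuotientGroup.eq.2 (by simpa [mem_subgroupOf] using hy.2)⟩,
      ⟨3, QuotientGroup.eq.2 (by simpa [mem_subgroupOf, mul_assoc] using hy.2)⟩]
  · obtain ⟨l, hl, e⟩ := cent_QU hφ hφ2 six.pre.es hr hc
    obtain ⟨h1, h2, h3⟩ := (by decide +kernel : ∀ l ∈ [69, 70, 71].sublists, okTw fastE6 rhoE6 l = true ∧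
      (∀ r ∈ l, 69 ≤ r) ∧ (l = [] ∨ rk fastE6 (rep 3 (l ++ [39, 32, 39] ++ [39]) ++ [].reverse) ≠ 0 ∨
        rk fastE6 ([46, 25, 46] ++ [39, 32, 39] ++ l ++ (l ++ ([46, 25, 46] ++ [39, 32, 39])).reverse) ≠ 0)) l hl
    obtain rfl : r = el hφ hφ2 l h1 := Subtype.ext e
    refine ⟨el_mem_U hφ hφ2 _ h2, fun e1 e2 => ?_⟩
    rcases h3 with rfl | h3 | h3
    · rfl
    · exact (ne_of_rk hφ hφ2 h3 (by rw [wd_rep, wd_append, wd_append]; exact congrArg Subtype.val e2)).elim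
    · exact (ne_of_rk hφ hφ2 h3 (by simp only [wd_append]; exact congrArg Subtype.val e1)).elim
  · obtain ⟨g, hg, y, hy, e⟩ := (classesTE6 hφ hφ2).2 t t.2 ((orderOf_coe t).trans ht)
    obtain ⟨c, hc, h1, h2, h3, h4⟩ := (by decide +kernel : ∀ y ∈ [[71], [43, 40], [43, 40, 44], [56, 36, 46]],
      ∃ c ∈ [([], [71]), ([46, 25, 46], [50, 48]), ([46, 25, 46], [50, 48, 51]),
        ([46, 25, 46, 39, 32, 39, 42, 29, 42, 37, 34, 37, 39, 32, 39], [61, 49, 53])],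
        okTw fastE6 rhoE6 c.1 = true ∧ okTw fastE6 rhoE6 c.2 = true ∧
        same fastE6 (c.1 ++ y ++ c.1.reverse) c.2 = true ∧
        ∀ r : Fin chevE6.nroots, r.1 ∈ c.2 → 1 ≤ (Φ).rt r (ndE6 1)) y hy
    refine ⟨el hφ hφ2 c.1 h1 * ⟨g, hg⟩, ?_⟩
    rw [el_eq hφ hφ2 (x := _ * t * _⁻¹) (y := el hφ hφ2 c.2 h2) (by
      rw [wd_append, wd_append, wd_reverse, ← e]; simp [el_val, mul_assoc]) rfl h3]
    exact el_mem_Q hφ hφ2 h2 h4

end CfsgLib.E62
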