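import Mathlib
import Cfsg.Agent.Lib.E62.RModelA
import Cfsg.Agent.Lib.E62.RModelB

/-!
# The model `²E₆(2)`
-/

set_option autoImplicit false

namespace CfsgLib.E62

open Subgroup Cfsg.Lie CfsgLib.Chev CfsgLib.ChevInv CfsgLib.Twist CfsgLib.Stein CfsgLib.RGD CfsgLib.Weyl

theorem exists_model_conc {K : Type*} [Field K] [Fintype K] [CharP K 2] {φ : K →+* K} (hφ : ∀ t, φ t = t ^ 2)
    (hφ2 : ∀ t, φ (φ t) = t) (hK : Fintype.card K = 2 ^ 2) {z : twistedE6 K 2}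
    (hz : (z : GL chevE6.Idx K) = xU chevE6 K 71 1) :
    ∃ (U : Subgroup (twistedE6 K 2)) (m₁ m₂ x₁ x₂ : twistedE6 K 2) (f : centralizer {z} →* Cfsg.PSU 6 K 2),
      Model (isTwE6 hφ hφ2).bn (isTwE6 hφ hφ2).nM (QE K) U z m₁ m₂ x₁ x₂ f :=
  let ⟨f, hf⟩ := Mo.exists_six hφ hφ2 hK hz
  let ⟨U, m₁, m₂, x₁, x₂, h⟩ := model_of_six hφ hφ2 hK hz f hf
  ⟨U, m₁, m₂, x₁, x₂, f, h⟩

theorem exists_model {K : Type*} [Field K] [Fintype K] (hK : Fintype.card K = 4) :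
    ∃ (P : Cfsg.BNPair (twistedE6 K 2)) (n : Fin 4 → twistedE6 K 2) (Q U : Subgroup (twistedE6 K 2))
      (z m₁ m₂ x₁ x₂ : twistedE6 K 2) (f : Subgroup.centralizer {z} →* Cfsg.PSU 6 K 2),
      Model P n Q U z m₁ m₂ x₁ x₂ f := by
  have : CharP K 2 := charP_of_card_eq_prime_pow (f := 2) hK
  have hφ : ∀ t : K, frobenius K 2 t = t ^ 2 := fun _ => rfl
  obtain ⟨U, m₁, m₂, x₁, x₂, f, h⟩ := exists_model_conc hφ (frob2 hφ hK) hK (z := el hφ (frob2 hφ hK) [71]) (mul_one _)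
  exact ⟨_, _, _, U, _, m₁, m₂, x₁, x₂, f, h⟩

end CfsgLib.E62
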