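import Mathlib
import Cfsg.Agent.Lib.E62.RModelB
import Cfsg.Agent.Lib.E62.ROnto
import Cfsg.Agent.Lib.E62.RAmal
import Cfsg.Agent.Lib.ChevAut.RootCent

/-!
# The model `²E₆(2)`: pairs of long root involutions
-/

set_option autoImplicit false
set_option linter.unusedSectionVars false

namespace CfsgLib.E62

open Subgroup Cfsg.Lie CfsgLib.Chev CfsgLib.ChevInv CfsgLib.Twist CfsgLib.Stein CfsgLib.RGD CfsgLib.Weyl CfsgLib.ChevAut

local notation "Φ" => rootSys rtOKE6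

/-- `c` conjugates the highest root element to `l` -/
def isZ (c l : List ℕ) : Bool := okTw fastE6 rhoE6 c && same fastE6 (c ++ [71] ++ c.reverse) l

/-- a fixed root `d` of level one, with `x_d` and `x_d x_g` conjugate to the highest root element -/
def isU (g : ℕ) (t : ℕ × List ℕ × List ℕ) : Bool :=
  okTw fastE6 rhoE6 [t.1] && isZ t.2.1 [t.1] && isZ t.2.2 [t.1, g] && same fastE6 [t.1, g] [g, t.1]

/-- lines orthogonal to the symplectic pairs -/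
def lineT : List (ℕ × (ℕ × List ℕ × List ℕ) × (ℕ × List ℕ × List ℕ) × List ℕ) :=
  [(11, (46, [1, 70, 1], [8, 1, 70, 1]), (47, [2, 69, 2], [6, 2, 69, 2]), [39, 1, 70, 1]),
  (27, (46, [1, 70, 1], [20, 1, 70, 1]), (47, [2, 69, 2], [18, 2, 69, 2]), [39, 1, 70, 1]),
  (32, (46, [1, 70, 1], [24, 1, 70, 1]), (51, [6, 65, 6], [18, 6, 65, 6]), [44, 1, 70, 1]),
  (39, (47, [2, 69, 2], [25, 2, 69, 2]), (53, [8, 63, 8], [20, 8, 63, 8]), [44, 2, 69, 2]),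
  (44, (51, [6, 65, 6], [25, 6, 65, 6]), (53, [8, 63, 8], [24, 8, 63, 8]), [39, 6, 65, 6]),
  (60, (63, [18, 53, 18], [25, 18, 53, 18]), (65, [20, 51, 20], [24, 20, 51, 20]), [39, 18, 53, 18])]

/-- collinear pairs -/
def colT : List (ℕ × List ℕ) :=
  [(46, [70, 1, 70, 1]), (47, [69, 2, 69, 2]), (51, [65, 6, 65, 6]), (53, [63, 8, 63, 8]), (63, [53, 18, 53, 18]),
  (65, [51, 20, 51, 20]), (69, [47, 24, 47, 24]), (70, [46, 25, 46, 25])]

theorem chk_line : lineT.all (fun t => isU t.1 t.2.1 && isU t.1 t.2.2.1 && isZ t.2.2.2 [t.2.1.1, t.2.2.1.1] &&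
    !Nat.beq (rk fastE6 [71]) (rk fastE6 [t.1, 71])) = true := by decide +kernel

theorem chk_col : colT.all (fun t => isZ t.2 [t.1, 71]) = true := by decide +kernel

theorem chk_neg : [0, 1, 2, 6, 8, 18, 20, 24, 25].all (fun r => !Nat.beq (rk fastE6 [r, 71, r, 71]) 0) = true := by
  decide +kernel

theorem chk_four : ∀ r < 72, rhoE6 r = r → okTw fastE6 rhoE6 [r] = true ∧ (r = 0 ∨ same fastE6 (rep 4 [71, r]) [] = true) := by
  decide +kernel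

theorem fixed_cases : ∀ r < 72, rhoE6 r = r →
    r = 71 ∨ r ∈ [0, 1, 2, 6, 8, 18, 20, 24, 25] ∨ (∃ t ∈ lineT, t.1 = r) ∨ ∃ t ∈ colT, t.1 = r := by decide +kernel

theorem lev_one : ∀ r : Fin chevE6.nroots, (r.1 = 71 ∨ (∃ t ∈ colT, t.1 = r) ∨ ∃ t ∈ lineT, t.2.1.1 = r ∨ t.2.2.1.1 = r) →
    1 ≤ (Φ).rt r (ndE6 1) := by decide +kernel

theorem lev_form : (∀ r, 1 ≤ (Φ).rt r (ndE6 1) → 0 < (Φ).form ((Φ).rt r) ((Φ).rt (rtE6 71))) ∧
    ∀ r, 0 < (Φ).form ((Φ).rt r) ((Φ).rt (rtE6 0)) → ∀ j, (Φ).rt r j ≤ 0 := by decide +kernel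

variable {K : Type*} [Field K] [Fintype K] [CharP K 2] {φ : K →+* K} (hφ : ∀ t, φ t = t ^ 2)
  (hφ2 : ∀ t, φ (φ t) = t) {z : twistedE6 K 2} (hz : (z : GL chevE6.Idx K) = xU chevE6 K 71 1)

local notation "SS" => stSys rtOKE6 K
local notation "M" => twistedE6 K 2

include hφ hφ2 hz

theorem isConj_of_isZ {c l : List ℕ} (h : isZ c l = true) {x : M} (hx : (x : GL chevE6.Idx K) = wd chevE6 K l) :
    IsConj z x := by
  rw [isZ, Bool.and_eq_true] at h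
  refine isConj_iff.2 ⟨el hφ hφ2 c h.1, Subtype.ext ?_⟩
  have := sameE (F := K) h.2
  rw [wd_append, wd_append, wd_reverse, wd_cons, wd_nil, mul_one, ← hx, ← hz] at this
  exact this

omit hφ hφ2 in
theorem not_isConj_of_rk {l : List ℕ} (h : rk fastE6 [71] ≠ rk fastE6 l) {x : M}
    (hx : (x : GL chevE6.Idx K) = wd chevE6 K l) : ¬ IsConj z x := fun e => by
  obtain ⟨g, hg⟩ := isConj_iff.1 e
  refine h (rk_eq_of_conj (F := K) matchE6.ofD_eq rfl (g := g) ?_)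
  rw [wd_cons, wd_nil, mul_one, ← hz, ← hx, ← hg]; rfl

theorem exists_root (g : M) : ∃ u : M, u * z = z * u ∧ (∀ x, x ∈ QE K ↔ u * x * u⁻¹ ∈ QE K) ∧ ∃ r < 72, rhoE6 r = r ∧
    ∃ y : M, (y : GL chevE6.Idx K) = wd chevE6 K [r] ∧ g * z * g⁻¹ = u * y * u⁻¹ ∧
      (r = 0 → ∀ x ∈ QE K, g * x * g⁻¹ ∈ QE K → x = 1) := by
  have hM := isTwE6 hφ hφ2
  have hS := stSys_nondeg (F := K) rtOKE6
  obtain ⟨u, hu, n, hn, w, hw, ha, u', hu', e⟩ := hM.bruhat g.2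
  have h1 : ∀ {v}, v ∈ (SS).U → v * z = z * v := fun hv =>
    hz.symm ▸ (commute_of_mem_U (commute_last rtOKE6 (r := rtE6 71) rfl) hv 1).symm
  have h2 : ∀ {v}, v ∈ (SS).U → ∀ x, x ∈ (SS).UJ {j | j ≠ ndE6 1} ↔ v * x * v⁻¹ ∈ (SS).UJ {j | j ≠ ndE6 1} :=
    fun hv => (SS).P_le_normalizer_UJ _ (StSys.B_le_P _ ((SS).U_le_B hv))
  have hU' := UU_Inv_le_U (SS) w hu'.1
  obtain ⟨l, hl, h3⟩ := ha.exists_conj_x (rtE6 71)
  have h4 : (SS).x (w (rtE6 71)) l ∈ M := by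
    have := (M).mul_mem ((M).mul_mem hn.2 z.2) ((M).inv_mem hn.2)
    rwa [hz, show xU chevE6 K 71 1 = (SS).x (rtE6 71) 1 from rfl, h3, mul_one] at this
  have h5 := ((eq_FixE6 hφ hφ2).le h4).2
  rw [stSys_x, σx_two (w (rtE6 71)).2] at h5
  have h6 : rhoE6 (w (rtE6 71)) = w (rtE6 71) := by
    have h7 : (⟨rhoE6 (w (rtE6 71)), (by decide : ∀ r < 72, rhoE6 r < 72) _ (w (rtE6 71)).2⟩ : Fin chevE6.nroots) =
        w (rtE6 71) := hS.root_eq_of_x_eq ((map_ne_zero φ).2 hl) h5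
    exact congrArg Fin.val h7
  rw [h6] at h5
  obtain rfl : l = 1 := by
    have := hS.x_injective _ h5
    rwa [hφ, sq, mul_left_eq_self₀, or_iff_left hl] at this
  refine ⟨⟨u, hM.U_le hu⟩, Subtype.ext (h1 hu.1), fun x => h2 hu.1 x, w (rtE6 71), (w (rtE6 71)).2, h6,
    ⟨_, h4⟩, (mul_one _).symm, Subtype.ext ?_, fun h0 x hx h8 => Subtype.ext ?_⟩
  · show g.1 * z * g.1⁻¹ = u * (SS).x (w (rtE6 71)) 1 * u⁻¹
    rw [e, ← mul_one (1 : K), ← h3, conj_mul', conj_mul', LargeExtra.conj_eq_of_comm (h1 hU'), hz]; rfl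
  · replace h8 : g.1 * x * g.1⁻¹ ∈ (SS).UJ {j | j ≠ ndE6 1} := h8
    rw [e, conj_mul', conj_mul', ← h2 hu.1] at h8
    have h9 := (h2 hU' x).1 hx
    rw [UJ_eq] at h9
    have h10 := hS.eq_one_of_mem_B_of_mem_V ((SS).U_le_B ((SS).UJ_le_U _ h8)) (ha.conj_mem_UU (Ψ' := {r | (Φ).Neg r}) (fun s hs =>
      lev_form.2 (w s) (by
        rw [show rtE6 0 = w (rtE6 71) from Fin.ext h0.symm, (Φ).form_apply ((twE6 φ).W1_le_W hw)]
        exact lev_form.1 s hs)) h9)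
    simpa using h10

theorem zf_model : ZF ⊤ (QE K) z := by
  have key : ∀ w, IsConj z w → w * z = z * w → ∃ u : M, u * z = z * u ∧ (∀ x, x ∈ QE K ↔ u * x * u⁻¹ ∈ QE K) ∧
      ∃ r, ∃ y : M, (y : GL chevE6.Idx K) = wd chevE6 K [r] ∧ ((y * z : M) : GL chevE6.Idx K) = wd chevE6 K [r, 71] ∧
        w = u * y * u⁻¹ ∧ w * z = u * (y * z) * u⁻¹ ∧ r < 72 ∧
        (r = 71 ∨ (∃ t ∈ lineT, t.1 = r) ∨ ∃ t ∈ colT, t.1 = r) := fun w hw hc => by
    obtain ⟨g, rfl⟩ := isConj_iff.1 hw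
    obtain ⟨u, u1, u2, r, r1, r2, y, y1, y2, -⟩ := exists_root hφ hφ2 hz g
    have y3 : ((y * z : M) : GL chevE6.Idx K) = wd chevE6 K [r, 71] := by
      rw [coe_mul, y1, hz, wd_cons, wd_cons, wd_cons, wd_nil, mul_one, mul_one]
    have y4 : g * z * g⁻¹ * z = u * (y * z) * u⁻¹ := by rw [y2, ← conj_mul, LargeExtra.conj_eq_of_comm u1]
    refine ⟨u, u1, u2, r, y, y1, y3, y2, y4, r1, (fixed_cases r r1 r2).imp_right fun h => h.resolve_left fun h => ?_⟩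
    have h1 := List.all_eq_true.1 chk_neg r h
    rw [Bool.not_eq_true'] at h1
    refine ne_one_of_rk (F := K) matchE6.ofD_eq rfl (Nat.ne_of_beq_eq_false h1) ?_
    have h2 : z * z = 1 := Subtype.ext (by rw [coe_mul, hz, ← xU_add, CharTwo.add_self_eq_zero, xU_zero]; rfl)
    have h3 : u * (y * z * (y * z)) * u⁻¹ = 1 := by
      have h4 : g * z * g⁻¹ * (g * z * g⁻¹) = 1 := by rw [conj_mul, h2]; group
      rw [← conj_mul, ← y4]
      generalize g * z * g⁻¹ = w at hc h4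
      rw [mul_assoc, ← mul_assoc z, ← hc, mul_assoc, h2, mul_one, h4]
    rw [show [r, 71, r, 71] = [r, 71] ++ [r, 71] from rfl, wd_append, ← y3, ← coe_mul,
      show y * z * (y * z) = 1 by simpa using h3]; rfl
  have mQ : ∀ {r} {y : M}, (y : GL chevE6.Idx K) = wd chevE6 K [r] → (h : r < 72) → 1 ≤ (Φ).rt ⟨r, h⟩ (ndE6 1) →
      y ∈ QE K := fun {r y} e h h1 => by
    rw [QE, UJ_eq, mem_subgroupOf, e, wd_cons, wd_nil, mul_one]
    exact (SS).x_mem_UU (r := ⟨r, h⟩) h1 1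
  refine ⟨fun g _ => ?_, fun w hw hc h => ?_, fun w hw hc hne h => ?_,
    el hφ hφ2 [43, 40], ?_, not_isConj_of_rk hz (l := [43, 40]) (by decide +kernel) rfl⟩
  · obtain ⟨u, u1, -, r, r1, r2, y, y1, y2, y3⟩ := exists_root hφ hφ2 hz g
    refine (chk_four r r1 r2).2.symm.imp (fun e => ?_) y3
    have h1 : (z * y) ^ 4 = 1 := Subtype.ext (by
      rw [SubmonoidClass.coe_pow, coe_mul, y1, hz, ← wd_cons, ← wd_rep]; exact sameE e)
    rw [y2, ← LargeExtra.conj_eq_of_comm u1, conj_mul, conj_pow, h1]; group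
  · obtain ⟨u, u1, u2, r, y, y1, y2, rfl, y4, r1, e | ⟨t, ht, rfl⟩ | e⟩ := key w hw hc
    · exact (u2 y).1 (mQ y1 r1 (lev_one ⟨r, r1⟩ (Or.inl e)))
    · have h1 := List.all_eq_true.1 chk_line t ht
      simp only [Bool.and_eq_true, Bool.not_eq_true'] at h1
      exact absurd ((y4 ▸ h).trans (isConj_iff.2 ⟨u, rfl⟩).symm) (not_isConj_of_rk hz (Nat.ne_of_beq_eq_false h1.2) y2)
    · exact (u2 y).1 (mQ y1 r1 (lev_one ⟨r, r1⟩ (Or.inr (Or.inl e))))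
  · obtain ⟨u, u1, u2, r, y, y1, y2, rfl, y4, r1, rfl | ⟨t, ht, rfl⟩ | ⟨t, ht, rfl⟩⟩ := key w hw hc
    · refine absurd ?_ hne
      rw [show y = z from Subtype.ext (y1.trans ((mul_one _).trans hz.symm)), LargeExtra.conj_eq_of_comm u1]
    swap
    · exact absurd (y4 ▸ isConj_conj (isConj_of_isZ hφ hφ2 hz (List.all_eq_true.1 chk_col t ht) y2) u) h
    have h1 := List.all_eq_true.1 chk_line t ht
    simp only [Bool.and_eq_true] at h1
    obtain ⟨⟨⟨h1, h2⟩, h3⟩, -⟩ := h1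
    have k : ∀ s : ℕ × List ℕ × List ℕ, isU t.1 s = true → (t.2.1.1 = s.1 ∨ t.2.2.1.1 = s.1) → ∃ a : M,
        (a : GL chevE6.Idx K) = wd chevE6 K [s.1] ∧ u * a * u⁻¹ ∈ QE K ∧ IsConj z (u * a * u⁻¹) ∧
        u * a * u⁻¹ * (u * y * u⁻¹) = u * y * u⁻¹ * (u * a * u⁻¹) ∧ IsConj z (u * a * u⁻¹ * (u * y * u⁻¹)) :=
      fun s hs hs' => by
        simp only [isU, Bool.and_eq_true] at hs
        obtain ⟨⟨⟨a1, a2⟩, a3⟩, a4⟩ := hs
        have a5 : s.1 < 72 := Nat.blt_eq.mp (List.all_eq_true.1 (Bool.and_eq_true_iff.1 a1).1 _ List.mem_cons_self)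
        have a6 : ((el hφ hφ2 _ a1 * y : M) : GL chevE6.Idx K) = wd chevE6 K [s.1, t.1] := by
          rw [coe_mul, y1, el_val, ← wd_append]; rfl
        refine ⟨el hφ hφ2 _ a1, rfl, (u2 _).1 (mQ rfl a5 (lev_one ⟨_, a5⟩ (Or.inr (Or.inr ⟨t, ht, hs'⟩)))),
          isConj_conj (isConj_of_isZ hφ hφ2 hz a2 rfl) u, ?_,
          by rw [conj_mul]; exact isConj_conj (isConj_of_isZ hφ hφ2 hz a3 a6) u⟩
        rw [conj_mul, conj_mul, el_eq hφ hφ2 (y := y * el hφ hφ2 _ a1) a6 (by rw [coe_mul, y1, el_val, ← wd_append]; rfl) a4]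
    obtain ⟨a, a1, a2⟩ := k _ h1 (Or.inl rfl)
    obtain ⟨b, b1, b2⟩ := k _ h2 (Or.inr rfl)
    refine ⟨u * a * u⁻¹, u * b * u⁻¹, ?_, by rintro _ (rfl | rfl); exacts [a2, b2]⟩
    rw [conj_mul]
    exact isConj_conj (isConj_of_isZ hφ hφ2 hz h3 (by rw [coe_mul, a1, b1, ← wd_append]; rfl)) u
  · exact (orderOf_coe _).symm.trans ((classesTE6 hφ hφ2).1 [43, 40] (by simp)).2

end CfsgLib.E62
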