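import Mathlib
import Cfsg.Agent.Lib.E62.RDefs
import Cfsg.Agent.Lib.U62K.Main
import Cfsg.Agent.Lib.Classical.SLBasic

/-!
# The parabolic subgroup `2⁹ : L₃(4)` of `U₆(2)`
-/

set_option autoImplicit false

namespace CfsgLib.E62

open Matrix Cfsg CfsgLib.Unitary

namespace UL

/-- `3 × 3` matrices -/
abbrev M3 (F : Type*) := Matrix (Fin 3) (Fin 3) F

/-- `SL₃` -/
abbrev S3 (F : Type*) [Field F] := SpecialLinearGroup (Fin 3) F

variable {F : Type*} [Field F] [StarRing F] [Fintype F] {L : Type*} [Group L]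

/-- a map from the semidirect product of the Hermitian matrices and `SL₃` whose kernel consists of scalars -/
structure El (el : M3 F → S3 F → L) : Prop where
  hs : ∀ x : F, star x = x ^ 2
  card : Fintype.card F = 2 ^ 2
  mul : ∀ (h h' : M3 F) (a a' : S3 F), hᴴ = h → h'ᴴ = h' → el h a * el h' a' = el (h + a.1 * h' * a.1ᴴ) (a * a')
  inj : ∀ (h : M3 F) (a : S3 F), hᴴ = h → el h a = 1 → h = 0 ∧ ∃ c : F, a.1 = c • 1

omit [Fintype F] in
theorem herm_act {h : M3 F} (hh : hᴴ = h) (a : M3 F) : (a * h * aᴴ)ᴴ = a * h * aᴴ := by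
  simp [conjTranspose_mul, hh, Matrix.mul_assoc]

omit [Fintype F] in
theorem herm_add {h k : M3 F} (hh : hᴴ = h) (hk : kᴴ = k) : (h + k)ᴴ = h + k := by rw [conjTranspose_add, hh, hk]

omit [Fintype F] in
theorem herm_apply {h : M3 F} (hh : hᴴ = h) (i j : Fin 3) : star (h i j) = h j i := by
  rw [← conjTranspose_apply, hh]

/-- an upper unitriangular matrix -/
def uu (x y z : F) : S3 F := ⟨!![1, x, z; 0, 1, y; 0, 0, 1], by simp [det_fin_three]⟩

omit [StarRing F] [Fintype F] in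
theorem uu_mul (x y z x' y' z' : F) : uu x y z * uu x' y' z' = uu (x + x') (y + y') (z + z' + x * y') := by
  apply Subtype.ext
  show (uu x y z).1 * (uu x' y' z').1 = _
  ext i j
  fin_cases i <;> fin_cases j <;> simp [uu, Matrix.mul_apply, Fin.sum_univ_three] <;> ring

omit [StarRing F] [Fintype F] in
theorem uu_zero : uu (0 : F) 0 0 = 1 := by
  apply Subtype.ext
  ext i j
  fin_cases i <;> fin_cases j <;> simp [uu]

omit [StarRing F] [Fintype F] in
theorem uu_inv (x y z : F) : (uu x y z)⁻¹ = uu (-x) (-y) (x * y - z) := by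
  rw [inv_eq_iff_mul_eq_one, uu_mul, ← uu_zero]
  congr 1 <;> ring

omit [StarRing F] [Fintype F] in
theorem uu_inj {x y z x' y' z' : F} (h : uu x y z = uu x' y' z') : x = x' ∧ y = y' ∧ z = z' := by
  have e : ∀ i j, (uu x y z).1 i j = (uu x' y' z').1 i j := fun i j => by rw [h]
  exact ⟨e 0 1, e 1 2, e 0 2⟩

/-- the upper unitriangular group -/
def UU (F : Type*) [Field F] : Subgroup (S3 F) where
  carrier := {a | ∃ x y z, a = uu x y z}
  mul_mem' := by rintro _ _ ⟨x, y, z, rfl⟩ ⟨x', y', z', rfl⟩; exact ⟨_, _, _, uu_mul ..⟩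
  one_mem' := ⟨0, 0, 0, uu_zero.symm⟩
  inv_mem' := by rintro _ ⟨x, y, z, rfl⟩; exact ⟨_, _, _, uu_inv ..⟩

/-- a Hermitian matrix -/
def hm (a b c x y z : F) : M3 F := !![a, x, z; star x, b, y; star z, star y, c]

omit [Fintype F] in
theorem hm_herm {a b c : F} (ha : star a = a) (hb : star b = b) (hc : star c = c) (x y z : F) :
    (hm a b c x y z)ᴴ = hm a b c x y z := by
  ext i j
  fin_cases i <;> fin_cases j <;> simp [hm, ha, hb, hc]

omit [Fintype F] in
theorem eq_hm {h : M3 F} (hh : hᴴ = h) : h = hm (h 0 0) (h 1 1) (h 2 2) (h 0 1) (h 1 2) (h 0 2) := by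
  ext i j
  fin_cases i <;> fin_cases j <;> simp [hm, herm_apply hh]

omit [Fintype F] in
theorem tv_apply {i j : Fin 3} (hij : i ≠ j) (t : F) (k : M3 F) (p q : Fin 3) :
    ((SpecialLinearGroup.transvection hij t).1 * k * (SpecialLinearGroup.transvection hij t).1ᴴ) p q =
      k p q + (if p = i then t * k j q else 0) + (if q = i then star t * k p j else 0) +
        if p = i ∧ q = i then t * star t * k j j else 0 := by
  rw [SpecialLinearGroup.transvection_coe, conjTranspose_add, conjTranspose_one, conjTranspose_single]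
  by_cases hp : p = i <;> by_cases hq : q = i <;>
    simp [Matrix.add_mul, Matrix.mul_add, hp, hq, eq_comm (a := i)] <;> ring

omit [Fintype F] in
theorem uu_apply (t : F) (k : M3 F) (q : Fin 3) : ((uu 0 0 t).1 * k * (uu 0 0 t).1ᴴ) 0 q =
    k 0 q + t * k 2 q + if q = 0 then star t * k 0 2 + t * star t * k 2 2 else 0 := by
  have : uu 0 0 t = SpecialLinearGroup.transvection (i := 0) (j := 2) (by decide) t := by
    apply Subtype.ext
    ext i j
    fin_cases i <;> fin_cases j <;> simp [uu, SpecialLinearGroup.transvection_coe]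
  rw [this, tv_apply]
  by_cases hq : q = 0 <;> simp [hq, add_assoc]

omit [Fintype F] in
theorem uu_apply' (t : F) (k : M3 F) (q : Fin 3) : ((uu 0 0 t).1 * k * (uu 0 0 t).1ᴴ) 2 q =
    k 2 q + if q = 0 then star t * k 2 2 else 0 := by
  have : uu 0 0 t = SpecialLinearGroup.transvection (i := 0) (j := 2) (by decide) t := by
    apply Subtype.ext
    ext i j
    fin_cases i <;> fin_cases j <;> simp [uu, SpecialLinearGroup.transvection_coe]
  rw [this, tv_apply]
  simp

namespace El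

variable {el : M3 F → S3 F → L} (E : El el)
include E

theorem two : (2 : F) = 0 := FiType.two_zero E.card

theorem add_self (h : M3 F) : h + h = 0 := by rw [← two_smul F h, E.two, zero_smul]

theorem fix {a : F} (h : star a = a) : a = 0 ∨ a = 1 := by
  rw [E.hs] at h
  have : a * (a - 1) = 0 := by linear_combination h
  exact (mul_eq_zero.1 this).imp id sub_eq_zero.1

theorem norm {t : F} (ht : t ≠ 0) : t * star t = 1 := by
  rw [E.hs]; linear_combination Transv3.cube_eq_one E.card ht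

theorem exists_om : ∃ ω : F, ω + star ω = 1 ∧ ω ≠ 0 ∧ ω ≠ 1 := by
  obtain ⟨ω, h⟩ := exists_trace_eq E.card (one_pow 2)
  refine ⟨ω, by rw [E.hs, h], ?_, ?_⟩ <;> rintro rfl
  · simp at h
  · exact one_ne_zero (by linear_combination E.two - h : (1 : F) = 0)

theorem card_fix : Nat.card {x : F // star x = x} = 2 := by
  simp only [E.hs]; exact card_fixed E.card

theorem one : el 0 1 = 1 := by
  have := E.mul 0 0 1 1 (by simp) (by simp)
  simpa using this

theorem inv {h : M3 F} (hh : hᴴ = h) (a : S3 F) : (el h a)⁻¹ = el (a⁻¹.1 * h * a⁻¹.1ᴴ) a⁻¹ := by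
  have e : a.1 * a⁻¹.1 = 1 := congrArg Subtype.val (mul_inv_cancel a)
  rw [inv_eq_iff_mul_eq_one, E.mul _ _ _ _ hh (herm_act hh _), mul_inv_cancel, ← E.one]
  congr 1
  rw [show a.1 * (a⁻¹.1 * h * a⁻¹.1ᴴ) * a.1ᴴ = (a.1 * a⁻¹.1) * h * (a.1 * a⁻¹.1)ᴴ by
    simp only [conjTranspose_mul, Matrix.mul_assoc], e]
  simpa using E.add_self h

theorem mul_one' {h k : M3 F} (hh : hᴴ = h) (hk : kᴴ = k) (a : S3 F) : el h 1 * el k a = el (h + k) a := by
  simpa using E.mul h k 1 a hh hk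

theorem conj {h k : M3 F} (hh : hᴴ = h) (hk : kᴴ = k) (a : S3 F) :
    el h a * el k 1 * (el h a)⁻¹ = el (a.1 * k * a.1ᴴ) 1 := by
  rw [mul_inv_eq_iff_eq_mul, E.mul _ _ _ _ hh hk, E.mul_one' (herm_act hk _) hh, mul_one, add_comm]

theorem comm {h k : M3 F} (hh : hᴴ = h) (hk : kᴴ = k) (a : S3 F) :
    el k 1 * el h a * (el k 1)⁻¹ * (el h a)⁻¹ = el (k + a.1 * k * a.1ᴴ) 1 := by
  have : (el k 1)⁻¹ = el k 1 := by rw [inv_eq_iff_mul_eq_one, E.mul_one' hk hk, E.add_self, E.one]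
  rw [this, ← E.mul_one' hk (herm_act hk _), ← E.conj hh hk]
  simp only [mul_assoc]

theorem eq {h h' : M3 F} (hh : hᴴ = h) (hh' : h'ᴴ = h') {a a' : S3 F} (ha : a ∈ UU F) (ha' : a' ∈ UU F)
    (e : el h a = el h' a') : h = h' ∧ a = a' := by
  have e1 := mul_inv_eq_one.2 e
  rw [E.inv hh', E.mul _ _ _ _ hh (herm_act hh' _)] at e1
  obtain ⟨-, c, hc⟩ := E.inj _ _ (herm_add hh (herm_act (herm_act hh' _) _)) e1
  obtain ⟨x, y, z, hx⟩ := (UU F).mul_mem ha ((UU F).inv_mem ha')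
  have c1 : c = 1 := by
    have := congrFun (congrFun hc 0) 0
    rw [hx] at this
    simpa [uu] using this.symm
  obtain rfl : a = a' := mul_inv_eq_one.1 (Subtype.ext (by rw [hc, c1, one_smul]; rfl))
  refine ⟨?_, rfl⟩
  have e2 : el (h + h') 1 * el h' a = el h' a := by rw [E.mul_one' (herm_add hh hh') hh', add_assoc, E.add_self, add_zero, e]
  have := (E.inj _ _ (herm_add hh hh') (mul_eq_right.1 e2)).1
  rw [← E.add_self h'] at this
  exact add_right_cancel this

/-- the preimage of a subgroup of `SL₃` -/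
def sub (S : Subgroup (S3 F)) : Subgroup L where
  carrier := {g | ∃ h a, hᴴ = h ∧ a ∈ S ∧ g = el h a}
  mul_mem' := by
    rintro _ _ ⟨h, a, hh, ha, rfl⟩ ⟨h', a', hh', ha', rfl⟩
    exact ⟨_, _, herm_add hh (herm_act hh' _), S.mul_mem ha ha', E.mul _ _ _ _ hh hh'⟩
  one_mem' := ⟨0, 1, by simp, S.one_mem, E.one.symm⟩
  inv_mem' := by
    rintro _ ⟨h, a, hh, ha, rfl⟩
    exact ⟨_, _, herm_act hh _, S.inv_mem ha, E.inv hh a⟩

theorem sub_mono {S S' : Subgroup (S3 F)} (h : S ≤ S') : E.sub S ≤ E.sub S' :=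
  fun _ ⟨k, a, hk, ha, e⟩ => ⟨k, a, hk, h ha, e⟩

theorem card_herm : Nat.card {h : M3 F // hᴴ = h} = 2 ^ 9 := by
  let X := {x : F // star x = x}
  let f : (X × X × X) × F × F × F → {h : M3 F // hᴴ = h} := fun p =>
    ⟨_, hm_herm p.1.1.2 p.1.2.1.2 p.1.2.2.2 p.2.1 p.2.2.1 p.2.2.2⟩
  have hf : Function.Bijective f := by
    constructor
    · rintro ⟨⟨a, b, c⟩, x, y, z⟩ ⟨⟨a', b', c'⟩, x', y', z'⟩ h
      have e : ∀ i j, hm a.1 b.1 c.1 x y z i j = hm a'.1 b'.1 c'.1 x' y' z' i j := fun i j =>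
        congrFun (congrFun (congrArg Subtype.val h) i) j
      rw [show a = a' from Subtype.ext (e 0 0), show b = b' from Subtype.ext (e 1 1),
        show c = c' from Subtype.ext (e 2 2), show x = x' from e 0 1, show y = y' from e 1 2, show z = z' from e 0 2]
    · rintro ⟨h, hh⟩
      exact ⟨⟨⟨⟨_, herm_apply hh 0 0⟩, ⟨_, herm_apply hh 1 1⟩, ⟨_, herm_apply hh 2 2⟩⟩, h 0 1, h 1 2, h 0 2⟩,
        Subtype.ext (eq_hm hh).symm⟩
  rw [← Nat.card_eq_of_bijective f hf]
  simp only [Nat.card_prod, X, E.card_fix, Nat.card_eq_fintype_card (α := F), E.card]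
  norm_num

theorem card_UU : Nat.card (UU F) = 2 ^ 6 := by
  let f : F × F × F → UU F := fun p => ⟨_, p.1, p.2.1, p.2.2, rfl⟩
  have hf : Function.Bijective f := by
    constructor
    · rintro ⟨x, y, z⟩ ⟨x', y', z'⟩ h
      obtain ⟨h1, h2, h3⟩ := uu_inj (congrArg Subtype.val h)
      exact Prod.ext h1 (Prod.ext h2 h3)
    · rintro ⟨_, x, y, z, rfl⟩
      exact ⟨(x, y, z), rfl⟩
  rw [← Nat.card_eq_of_bijective f hf]
  simp only [Nat.card_prod, Nat.card_eq_fintype_card (α := F), E.card]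
  norm_num

theorem card_sub {S : Subgroup (S3 F)} (hS : S ≤ UU F) : Nat.card (E.sub S) = 2 ^ 9 * Nat.card S := by
  let f : {h : M3 F // hᴴ = h} × S → E.sub S := fun p => ⟨_, _, _, p.1.2, p.2.2, rfl⟩
  have hf : Function.Bijective f := by
    constructor
    · rintro ⟨h, a⟩ ⟨h', a'⟩ e
      obtain ⟨h1, h2⟩ := E.eq h.2 h'.2 (hS a.2) (hS a'.2) (congrArg Subtype.val e)
      exact Prod.ext (Subtype.ext h1) (Subtype.ext h2)
    · rintro ⟨_, h, a, hh, ha, rfl⟩
      exact ⟨(⟨h, hh⟩, ⟨a, ha⟩), rfl⟩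
  rw [← Nat.card_eq_of_bijective f hf, Nat.card_prod, E.card_herm]

theorem irr (K : Subgroup L) (hK : K ≤ E.sub ⊥) (hn : E.sub ⊤ ≤ Subgroup.normalizer (K : Set L)) :
    K = ⊥ ∨ K = E.sub ⊥ := by
  rw [or_iff_not_imp_left]
  intro hne
  obtain ⟨ω, hω, -, -⟩ := E.exists_om
  let P : M3 F → Prop := fun k => kᴴ = k ∧ el k 1 ∈ K
  have p0 : P 0 := ⟨by simp, E.one ▸ K.one_mem⟩
  have pa : ∀ {k k'}, P k → P k' → P (k + k') := fun h h' =>
    ⟨herm_add h.1 h'.1, E.mul_one' h.1 h'.1 1 ▸ K.mul_mem h.2 h'.2⟩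
  have pc : ∀ {k} (a : S3 F), P k → P (a.1 * k * a.1ᴴ) := fun a h => ⟨herm_act h.1 _, by
    rw [← E.conj (h := 0) (by simp) h.1]
    exact (Subgroup.mem_normalizer_iff.1 (hn ⟨0, a, by simp, trivial, rfl⟩) _).1 h.2⟩
  have pd : ∀ {i j : Fin 3} (hij : i ≠ j) (t : F) {k k'}, P k → (∀ p q, k' p q = (if p = i then t * k j q else 0) +
      (if q = i then star t * k p j else 0) + if p = i ∧ q = i then t * star t * k j j else 0) → P k' :=
    fun hij t k k' h e => by
      convert pa h (pc (SpecialLinearGroup.transvection hij t) h) using 1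
      ext p q
      rw [Matrix.add_apply, tv_apply, e]
      linear_combination -k p q * E.two
  have sA : ∀ {i j : Fin 3} (_ : i ≠ j) {k}, P k → k j j = 1 → P (single i i 1) := fun {i j} hij k h e => by
    refine pd hij ω (pd hij 1 (k' := of fun p q => (if p = i then 1 * k j q else 0) +
      (if q = i then star 1 * k p j else 0) + if p = i ∧ q = i then 1 * star 1 * k j j else 0) h fun p q => rfl)
      fun p q => ?_
    by_cases hp : p = i <;> by_cases hq : q = i <;> simp [hp, hq, hij.symm, e, hω, eq_comm (a := i)]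
  obtain ⟨j, k, hk, e⟩ : ∃ j k, P k ∧ k j j = 1 := by
    obtain ⟨⟨g, hg⟩, g1⟩ := Subgroup.ne_bot_iff_exists_ne_one.1 hne
    obtain ⟨k, a, hk, ha, rfl⟩ := hK hg
    obtain rfl := Subgroup.mem_bot.1 ha
    by_cases hd : ∃ j, k j j = 1
    · obtain ⟨j, hj⟩ := hd
      exact ⟨j, k, ⟨hk, hg⟩, hj⟩
    have h0 : ∀ j, k j j = 0 := fun j => (E.fix (herm_apply hk j j)).resolve_right fun h => hd ⟨j, h⟩
    obtain ⟨j, i, hji⟩ : ∃ j i, k j i ≠ 0 := by
      by_contra hc
      push Not at hc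
      exact g1 (Subtype.ext ((congrArg (el · 1) (show k = 0 from Matrix.ext hc)).trans E.one))
    have hij : i ≠ j := by rintro rfl; exact hji (h0 i)
    refine ⟨i, _, pc (SpecialLinearGroup.transvection hij (ω / k j i)) ⟨hk, hg⟩, ?_⟩
    rw [tv_apply, ← herm_apply hk j i, ← star_mul']
    simp [h0, div_mul_cancel₀ _ hji, hω]
  have sC : ∀ i, P (single i i 1) := fun i => by
    by_cases h : i = j
    · obtain ⟨i', hi'⟩ := exists_ne i
      exact sA hi'.symm (sA (h ▸ hi') hk e) (by simp)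
    · exact sA h hk e
  have sE : ∀ i (c : F), star c = c → P (single i i c) := fun i c hc => by
    rcases E.fix hc with rfl | rfl
    · simpa using p0
    · exact sC i
  have sD : ∀ {i j : Fin 3} (_ : i ≠ j) (t : F), P (single i j t + single j i (star t)) := fun {i j} hij t => by
    have := pa (pd hij t (k' := single i j t + single j i (star t) + single i i (t * star t)) (sC j) fun p q => by
      by_cases hp : p = i <;> by_cases hq : q = i <;>
        simp [hp, hq, hij.symm, single_apply, eq_comm (a := i), eq_comm (a := j)])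
      (sE i (t * star t) (by simp [mul_comm]))
    rwa [add_assoc, E.add_self, add_zero] at this
  refine le_antisymm hK ?_
  rintro _ ⟨h, a, hh, ha, rfl⟩
  obtain rfl := Subgroup.mem_bot.1 ha
  have := pa (pa (pa (sE 0 _ (herm_apply hh 0 0)) (sE 1 _ (herm_apply hh 1 1))) (sE 2 _ (herm_apply hh 2 2)))
    (pa (pa (sD (i := 0) (j := 1) (by decide) (h 0 1)) (sD (i := 1) (j := 2) (by decide) (h 1 2)))
      (sD (i := 0) (j := 2) (by decide) (h 0 2)))
  convert this.2 using 2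
  ext p q
  fin_cases p <;> fin_cases q <;> simp [herm_apply hh]

theorem norm_sub [Finite L] : E.sub ⊤ ≤ Subgroup.normalizer (E.sub ⊥ : Set L) := by
  rintro _ ⟨h, a, hh, -, rfl⟩
  refine Subgroup.mem_normalizer_fintype ?_
  rintro _ ⟨k, b, hk, hb, rfl⟩
  obtain rfl := Subgroup.mem_bot.1 hb
  exact ⟨_, 1, herm_act hk _, Subgroup.one_mem _, E.conj hh hk a⟩

theorem perf [Finite L] : ⁅E.sub ⊤, E.sub ⊤⁆ = E.sub ⊤ := by
  refine le_antisymm (Subgroup.commutator_le_self _) ?_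
  have hA : E.sub ⊥ ≤ ⁅E.sub ⊤, E.sub ⊤⁆ := by
    have hn : E.sub ⊤ ≤ Subgroup.normalizer ((E.sub ⊥ ⊓ ⁅E.sub ⊤, E.sub ⊤⁆ : Subgroup L) : Set L) :=
      (le_inf E.norm_sub (Subgroup.normalizer_commutator_ge_left _ _)).trans Subgroup.inf_normalizer_le_normalizer_inf
    rcases E.irr _ inf_le_left hn with h | h
    · exfalso
      have hk : (single 2 2 1 : M3 F)ᴴ = single 2 2 1 := by simp
      have e := E.comm (h := 0) (by simp) hk (uu 0 0 1)
      have m : el (single 2 2 1 + (uu 0 0 1).1 * single 2 2 1 * (uu 0 0 1).1ᴴ) 1 ∈ (⊥ : Subgroup L) :=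
        h ▸ ⟨⟨_, 1, herm_add hk (herm_act hk _), Subgroup.one_mem _, rfl⟩,
          e ▸ Subgroup.commutator_mem_commutator ⟨_, 1, hk, trivial, rfl⟩ ⟨0, _, by simp, trivial, rfl⟩⟩
      have := congrFun (congrFun (E.inj _ _ (herm_add hk (herm_act hk _)) m).1 0) 0
      rw [Matrix.add_apply, uu_apply] at this
      simp at this
    · exact h ▸ inf_le_right
  let φ : S3 F →* L := MonoidHom.mk' (el 0) fun a b => by simpa using (E.mul 0 0 a b (by simp) (by simp)).symm
  have hφ : (⊤ : Subgroup (S3 F)).map φ ≤ E.sub ⊤ := by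
    rintro _ ⟨a, -, rfl⟩
    exact ⟨0, a, by simp, trivial, rfl⟩
  rintro _ ⟨h, a, hh, -, rfl⟩
  rw [← add_zero h, ← E.mul_one' hh (by simp)]
  refine Subgroup.mul_mem _ (hA ⟨h, 1, hh, Subgroup.one_mem _, rfl⟩) (Subgroup.commutator_mono hφ hφ ?_)
  rw [← Subgroup.map_commutator]
  exact ⟨a, (Classical.sl_commutator_eq_top (ι := Fin 3) (F := F) (by simp)).ge (Subgroup.mem_top a), rfl⟩

theorem ab (K : Subgroup L) (hK : K ≤ E.sub (UU F)) (hc : ∀ x ∈ K, ∀ y ∈ K, x * y = y * x)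
    (hn : E.sub (UU F) ≤ Subgroup.normalizer (K : Set L)) (hcard : 2 ^ 7 < Nat.card K) : K ≤ E.sub ⊥ := by
  by_contra hle
  have cj : ∀ g ∈ E.sub (UU F), ∀ x ∈ K, g * x * g⁻¹ * x⁻¹ ∈ K := fun g hg x hx =>
    K.mul_mem ((Subgroup.mem_normalizer_iff.1 (hn hg) _).1 hx) (K.inv_mem hx)
  have fx : ∀ {h k : M3 F} {a : S3 F}, hᴴ = h → kᴴ = k → el h a ∈ K → el k 1 ∈ K → a.1 * k * a.1ᴴ = k :=
    fun hh hk h1 h2 => (E.eq (herm_act hk _) hk (one_mem _) (one_mem _) (by
      rw [← E.conj hh hk, hc _ h1 _ h2, mul_inv_cancel_right])).1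
  have two : ∀ {h h' : M3 F} {t t' : F}, hᴴ = h → h'ᴴ = h' → el h (uu 0 0 t) ∈ K → el h' (uu 0 0 t') ∈ K →
      t ≠ 0 → t' ≠ 0 → t = t' := fun {h h' t t'} hh hh' h1 h2 t0 t0' => by
    have hk : (single 2 2 1 : M3 F)ᴴ = single 2 2 1 := by simp
    have m := cj _ ⟨_, 1, hk, one_mem _, rfl⟩ _ h1
    rw [E.comm hh hk] at m
    have := congrFun (congrFun (fx hh' (herm_add hk (herm_act hk _)) h2 m) 0) 0
    rw [uu_apply] at this
    simp only [Matrix.add_apply, uu_apply, uu_apply', E.hs] at this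
    simp at this
    have e : t * t' * (t - t') = 0 := by
      linear_combination this - (t * t' ^ 2 + t' ^ 3) * E.two
    exact sub_eq_zero.1 ((mul_eq_zero.1 e).resolve_left (mul_ne_zero t0 t0'))
  have cm : ∀ {h : M3 F} {x y z : F}, hᴴ = h → el h (uu x y z) ∈ K → ∀ x' y',
      ∃ k : M3 F, kᴴ = k ∧ el k (uu 0 0 (x' * y - x * y')) ∈ K := fun {h x y z} hh h1 x' y' => by
    have m := cj _ ⟨0, uu x' y' 0, by simp, ⟨_, _, _, rfl⟩, rfl⟩ _ h1
    have h0 : (0 : M3 F)ᴴ = 0 := by simp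
    have q1 := herm_add h0 (herm_act hh (uu x' y' 0).1)
    rw [E.inv h0, E.inv hh, E.mul _ _ _ _ h0 hh, E.mul _ _ _ _ q1 (herm_act h0 _),
      E.mul _ _ _ _ (herm_add q1 (herm_act (herm_act h0 _) _)) (herm_act hh _)] at m
    have e : uu x' y' 0 * uu x y z * (uu x' y' 0)⁻¹ * (uu x y z)⁻¹ = uu 0 0 (x' * y - x * y') := by
      simp only [uu_inv, uu_mul]
      congr 1 <;> ring
    rw [e] at m
    exact ⟨_, herm_add (herm_add q1 (herm_act (herm_act h0 _) _)) (herm_act (herm_act hh _) _), m⟩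
  have xy : ∀ {h : M3 F} {x y z : F}, hᴴ = h → el h (uu x y z) ∈ K → x = 0 ∧ y = 0 := fun {h x y z} hh h1 => by
    obtain ⟨ω, -, ω0, ω1⟩ := E.exists_om
    by_contra hne
    have all : ∀ t : F, ∃ k : M3 F, kᴴ = k ∧ el k (uu 0 0 t) ∈ K := fun t => by
      by_cases hx : x = 0
      · have hy : y ≠ 0 := fun hy => hne ⟨hx, hy⟩
        simpa [hy] using cm hh h1 (t / y) 0
      · simpa [mul_div_cancel₀ _ hx] using cm hh h1 0 (-(t / x))
    obtain ⟨k, hk, m⟩ := all ω
    obtain ⟨k', hk', m'⟩ := all 1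
    exact ω1 (two hk hk' m m' ω0 one_ne_zero)
  obtain ⟨g, hg, hg'⟩ := SetLike.not_le_iff_exists.1 hle
  obtain ⟨h0, _, hh0, ⟨x, y, t, rfl⟩, rfl⟩ := hK hg
  obtain ⟨rfl, rfl⟩ := xy hh0 hg
  have t0 : t ≠ 0 := by
    rintro rfl
    exact hg' ⟨h0, _, hh0, Subgroup.mem_bot.2 uu_zero, rfl⟩
  let X := {x : F // star x = x}
  let f : Bool × X × X × F × F → L := fun p =>
    el (hm p.2.1.1 p.2.2.1.1 0 p.2.2.2.1 0 p.2.2.2.2) 1 * if p.1 then el h0 (uu 0 0 t) else 1
  have hS : ∀ {k : M3 F}, kᴴ = k → el k 1 ∈ K → ∀ b : Bool,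
      (el k 1 * if b then el h0 (uu 0 0 t) else 1) ∈ Set.range f := fun {k} hk m b => by
    have e := fx hh0 hk hg m
    have e1 := congrFun (congrFun e 0) 1
    have e2 := congrFun (congrFun e 0) 2
    rw [uu_apply] at e1 e2
    simp [t0] at e1 e2
    have e3 : k 1 2 = 0 := by rw [← herm_apply hk, e1, star_zero]
    refine ⟨(b, ⟨_, herm_apply hk 0 0⟩, ⟨_, herm_apply hk 1 1⟩, k 0 1, k 0 2), ?_⟩
    conv_rhs => rw [eq_hm hk, e2, e3]
  have hr : (K : Set L) ⊆ Set.range f := fun g' hg1 => by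
    obtain ⟨h, _, hh, ⟨x, y, t', rfl⟩, rfl⟩ := hK hg1
    obtain ⟨rfl, rfl⟩ := xy hh hg1
    by_cases h1 : t' = 0
    · rw [h1, uu_zero] at hg1 ⊢
      simpa using hS hh hg1 false
    · obtain rfl := two hh hh0 hg1 hg h1 t0
      have e : el (h + h0) 1 * el h0 (uu 0 0 t') = el h (uu 0 0 t') := by
        rw [E.mul_one' (herm_add hh hh0) hh0, add_assoc, E.add_self, add_zero]
      have := hS (herm_add hh hh0) (by
        rw [eq_mul_inv_of_mul_eq e]; exact K.mul_mem hg1 (K.inv_mem hg)) true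
      rwa [if_pos rfl, e] at this
  have l1 : Nat.card K ≤ Nat.card (Set.range f) := Set.ncard_le_ncard hr (Set.finite_range f)
  have l2 := l1.trans (Finite.card_range_le f)
  simp only [Nat.card_prod, X, E.card_fix, Nat.card_eq_fintype_card (α := F), E.card, Nat.card_eq_fintype_card (α := Bool),
    Fintype.card_bool] at l2
  omega

theorem loc (hL : Nat.card L = 9196830720) : U6Loc (E.sub (UU F)) (E.sub ⊥) (E.sub ⊤) := by
  have : Finite L := Nat.finite_of_card_ne_zero (by rw [hL]; norm_num)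
  have hT : Nat.card (E.sub (UU F)) = 2 ^ 15 := by rw [E.card_sub le_rfl, E.card_UU]; norm_num
  refine ⟨IsPGroup.of_card hT, ?_, E.sub_mono bot_le, E.sub_mono le_top, E.norm_sub, ?_, E.ab, E.irr, E.perf⟩
  · have := (E.sub (UU F)).index_mul_card
    rw [hT, hL] at this
    rw [show (E.sub (UU F)).index = 280665 by omega]
    decide
  · rw [E.card_sub bot_le, Subgroup.card_bot, mul_one]

end El

/-- the block matrix of a pair -/
def blk (h : M3 F) (a : S3 F) : Matrix (Fin 3 ⊕ Fin 3) (Fin 3 ⊕ Fin 3) F :=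
  fromBlocks a.1 (h * a⁻¹.1ᴴ) 0 a⁻¹.1ᴴ

omit [Fintype F] in
theorem ct_mul (a : S3 F) : a.1ᴴ * a⁻¹.1ᴴ = 1 ∧ a⁻¹.1ᴴ * a.1ᴴ = 1 := by
  rw [← conjTranspose_mul, ← conjTranspose_mul, show a⁻¹.1 * a.1 = 1 from congrArg Subtype.val (inv_mul_cancel a),
    show a.1 * a⁻¹.1 = 1 from congrArg Subtype.val (mul_inv_cancel a), conjTranspose_one]
  exact ⟨rfl, rfl⟩

omit [Fintype F] in
theorem blk_mul (h h' : M3 F) (a a' : S3 F) : blk h a * blk h' a' = blk (h + a.1 * h' * a.1ᴴ) (a * a') := by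
  have e : (a * a')⁻¹.1ᴴ = a⁻¹.1ᴴ * a'⁻¹.1ᴴ := by rw [_root_.mul_inv_rev, ← conjTranspose_mul]; rfl
  simp only [blk, fromBlocks_multiply, e, Matrix.mul_zero, Matrix.zero_mul, add_zero, zero_add, Matrix.add_mul,
    Matrix.mul_assoc]
  rw [← Matrix.mul_assoc a.1ᴴ, (ct_mul a).1, Matrix.one_mul, add_comm]
  rfl

omit [Fintype F] in
theorem det_blk (h : M3 F) (a : S3 F) : (blk h a).det = 1 := by
  rw [blk, det_fromBlocks_zero₂₁, det_conjTranspose, a.2, a⁻¹.2]; simp

theorem exists_el (hF : Fintype.card F = 2 ^ 2) (hs : ∀ x : F, star x = x ^ 2) :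
    ∃ el : M3 F → S3 F → PSU 6 F 2, El el := by
  classical
  have h2 := FiType.two_zero hF
  obtain ⟨ω, hω⟩ := exists_trace_eq hF (one_pow 2)
  have ω3 : ω ^ 3 = 1 := Transv3.cube_eq_one hF (by rintro rfl; simp at hω)
  have as : ∀ h : M3 F, h + h = 0 := fun h => by rw [← two_smul F h, h2, zero_smul]
  let J : Matrix (Fin 3 ⊕ Fin 3) (Fin 3 ⊕ Fin 3) F := fromBlocks 0 1 1 0
  let e : Fin 6 ≃ Fin 3 ⊕ Fin 3 := (finSumFinEquiv (m := 3) (n := 3)).symm
  let M : Matrix (Fin 6) (Fin 3 ⊕ Fin 3) F := (fromBlocks 1 (ω • 1) 1 (ω ^ 2 • 1)).submatrix e id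
  have JJ : J * J = 1 := by simp [J, fromBlocks_multiply]
  have hJ : Jᴴ = J := by simp [J, fromBlocks_conjTranspose]
  have MM : Mᴴ * M = J := by
    simp only [M, conjTranspose_submatrix, submatrix_mul_equiv, submatrix_id_id, fromBlocks_conjTranspose,
      fromBlocks_multiply, conjTranspose_one, conjTranspose_smul, hs, Matrix.mul_smul,
      Matrix.mul_one, smul_smul, ← add_smul, as, J]
    rw [hω, show ω ^ 2 + (ω ^ 2) ^ 2 = 1 by linear_combination hω + ω * ω3,
      show ω * ω ^ 2 + ω ^ 2 * (ω ^ 2) ^ 2 = 0 by linear_combination h2 + (ω ^ 3 + 2) * ω3, one_smul, zero_smul]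
  let N := J * Mᴴ
  have NM : N * M = 1 := by rw [Matrix.mul_assoc, MM, JJ]
  have MN : M * N = 1 := (mul_eq_one_comm_of_equiv e.symm).1 NM
  have pres : ∀ {h : M3 F} (a : S3 F), hᴴ = h → (blk h a)ᴴ * (J * blk h a) = J := fun {h} a hh => by
    simp only [blk, J, fromBlocks_conjTranspose, fromBlocks_multiply, Matrix.mul_zero, Matrix.zero_mul, add_zero,
      zero_add, Matrix.one_mul, conjTranspose_zero, conjTranspose_conjTranspose, conjTranspose_mul, hh, (ct_mul a).1,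
      Matrix.mul_assoc, as]
    rw [show a⁻¹.1 * a.1 = 1 from congrArg Subtype.val (inv_mul_cancel a)]
  have hsu : ∀ {h : M3 F} (a : S3 F), hᴴ = h → ∀ u v, hermForm 6 F 2 ((M * blk h a * N) *ᵥ u)
      ((M * blk h a * N) *ᵥ v) = hermForm 6 F 2 u v := fun {h} a hh => (pres_iff hF _).2 (by
    have : (M * blk h a * N)ᴴ * (M * blk h a * N) = 1 := by
      calc _ = Nᴴ * ((blk h a)ᴴ * ((Mᴴ * M) * blk h a)) * N := by simp only [conjTranspose_mul, Matrix.mul_assoc]
        _ = M * (J * J) * N := by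
          rw [MM, pres a hh]; simp only [N, conjTranspose_mul, hJ, conjTranspose_conjTranspose, Matrix.mul_assoc]
        _ = 1 := by rw [JJ, Matrix.mul_one, MN]
    rw [← transpose_one, ← this, transpose_mul _ (M * blk h a * N)]
    congr 1
    ext i j
    exact (hs _).symm)
  let su : ∀ (h : M3 F), hᴴ = h → S3 F → SU 6 F 2 := fun h hh a =>
    mkSU _ ((det_conj_of_mul_eq_one MN NM).trans (det_blk h a)) (hsu a hh)
  refine ⟨fun h a => if hh : hᴴ = h then (su h hh a : PSU 6 F 2) else 1, hs, hF, fun h h' a a' hh hh' => ?_,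
    fun h a hh h1 => ?_⟩
  · rw [dif_pos hh, dif_pos hh', dif_pos (herm_add hh (herm_act hh' _)), ← QuotientGroup.mk_mul]
    congr 1
    refine Subtype.ext (Subtype.ext ?_)
    show M * blk h a * N * (M * blk h' a' * N) = M * blk _ _ * N
    rw [← blk_mul]
    calc _ = M * blk h a * (N * M) * blk h' a' * N := by simp only [Matrix.mul_assoc]
      _ = _ := by rw [NM]; simp only [Matrix.mul_assoc, Matrix.one_mul]
  · rw [dif_pos hh, QuotientGroup.eq_one_iff, mem_center_SU_iff hF (by norm_num)] at h1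
    obtain ⟨c, hc⟩ := h1
    have hb : blk h a = c • 1 := by
      calc _ = (N * M) * blk h a * (N * M) := by rw [NM, Matrix.one_mul, Matrix.mul_one]
        _ = N * (M * blk h a * N) * M := by simp only [Matrix.mul_assoc]
        _ = _ := by rw [show M * blk h a * N = c • 1 from hc, Matrix.mul_smul, Matrix.mul_one, Matrix.smul_mul, NM]
    rw [blk, ← fromBlocks_one, fromBlocks_smul, fromBlocks_inj] at hb
    refine ⟨?_, c, hb.1⟩
    rw [← Matrix.mul_one h, ← (ct_mul a).2, ← Matrix.mul_assoc, hb.2.1, smul_zero, Matrix.zero_mul]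

end UL

theorem u6Loc {F : Type*} [Field F] [Fintype F] (hF : Fintype.card F = 4) :
    ∃ T A P : Subgroup (Cfsg.PSU 6 F 2), U6Loc T A P := by
  have hF' : Fintype.card F = 2 ^ 2 := hF
  let _ : StarRing F :=
    { star := conj hF'
      star_involutive := conj_conj hF'
      star_mul := fun a b => by rw [map_mul, mul_comm]
      star_add := map_add _ }
  obtain ⟨el, E⟩ := UL.exists_el hF' fun _ => rfl
  refine ⟨_, _, _, E.loc ?_⟩
  have := card_PSU (n := 6) hF' (by norm_num)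
  norm_num [Finset.prod_range_succ, Nat.even_iff] at this
  omega

end CfsgLib.E62
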