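import Mathlib
import Cfsg.Agent.Lib.E62.RDefs
import Cfsg.Agent.Lib.FiType.U6Class

/-!
# Modules of `U₆(2)` over the field with two elements
-/

set_option autoImplicit false

namespace CfsgLib.E62

open Module Cfsg CfsgLib.Forms CfsgLib.Unitary CfsgLib.Transv3 CfsgLib.FiType

section Heis

variable {G W : Type*} [Group G] [AddCommGroup W] [DistribMulAction G W]

/-- the vectors of `Y` fixed by `a` -/
def fixIn (Y : AddSubgroup W) (a : G) : AddSubgroup W where
  carrier := {w | w ∈ Y ∧ a • w = w}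
  add_mem' := fun hu hv => ⟨Y.add_mem hu.1 hv.1, by rw [smul_add, hu.2, hv.2]⟩
  zero_mem' := ⟨Y.zero_mem, smul_zero _⟩
  neg_mem' := fun hu => ⟨Y.neg_mem hu.1, by rw [smul_neg, hu.2]⟩

/-- the vectors killed by `1 + x + x²` -/
def cycl (W : Type*) [AddCommGroup W] [DistribMulAction G W] (x : G) : AddSubgroup W where
  carrier := {w | w + x • w + x • x • w = 0}
  add_mem' := fun {u v} (hu : _ = _) (hv : _ = _) => by
    show u + v + x • (u + v) + x • x • (u + v) = 0
    simp only [smul_add]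
    calc _ = (u + x • u + x • x • u) + (v + x • v + x • x • v) := by abel
      _ = 0 := by rw [hu, hv, add_zero]
  zero_mem' := by simp
  neg_mem' := fun {u} (hu : _ = _) => by
    show -u + x • -u + x • x • -u = 0
    simp only [smul_neg]
    calc _ = -(u + x • u + x • x • u) := by abel
      _ = 0 := by rw [hu, neg_zero]

theorem smul3 {g : G} (h : g ^ 3 = 1) (w : W) : g • g • g • w = w := by
  rw [← mul_smul, ← mul_smul, show g * g * g = g ^ 3 by simp [pow_succ], h, one_smul]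

theorem heis_step [Finite W] (h2 : ∀ w : W, w + w = 0) {Y : AddSubgroup W} {H : Subgroup G}
    (hY : ∀ g ∈ H, ∀ y ∈ Y, g • y ∈ Y) {a b x : G} (ha : a ∈ H) (hb : b ∈ H) (hx : x ∈ H)
    (a3 : a ^ 3 = 1) (x3 : x ^ 3 = 1) (hax : a * x = x * a) (hbx : b * x = x * b) (hab : b * a = a * x * b)
    (hc : Y ≤ cycl W x) :
    Nat.card (fixIn Y a) ^ 3 ≤ Nat.card Y ∧ (Y ≠ ⊥ → fixIn Y a ≠ ⊥) := by
  have ax : ∀ w : W, x • a • w = a • x • w := fun w => by rw [← mul_smul, ← hax, mul_smul]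
  have bx : ∀ w : W, x • b • w = b • x • w := fun w => by rw [← mul_smul, ← hbx, mul_smul]
  have ba : ∀ w : W, b • a • w = a • b • x • w := fun w => by
    rw [← mul_smul, hab, mul_smul, mul_smul, bx]
  have hx3 := smul3 (W := W) x3
  have ha3 := smul3 (W := W) a3
  have neg : ∀ w : W, -w = w := fun w => neg_eq_of_add_eq_zero_left (h2 w)
  have cy : ∀ y ∈ Y, y + x • y + x • x • y = 0 := fun y hy => hc hy
  constructor
  · have key : ∀ u v w : W, u ∈ fixIn Y a → v ∈ fixIn Y a → w ∈ fixIn Y a → u + b • v + b • b • w = 0 →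
        u = 0 ∧ v = 0 ∧ w = 0 := by
      intro u v w hu hv hw h
      have e1 : ∀ v : W, a • v = v → a • b • v = x • x • b • v := fun v hv => by
        have := ba (x • x • v)
        rw [hx3, ← ax, ← ax, hv] at this
        rw [← this, bx, bx]
      have e2 : a • b • b • w = x • b • b • w := by
        have := ba (x • x • b • w)
        rw [hx3, ← ax, ← ax, e1 w hw.2, hx3] at this
        rw [← this, bx (b • w)]
      have hv' := cy _ (hY b hb v hv.1)
      have hw' := cy _ (hY b hb _ (hY b hb w hw.1))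
      have f1 := e1 v hv.2
      set v' := b • v with hv''
      set w' := b • b • w with hw''
      have g1 := congrArg (a • ·) h
      simp only [smul_add, smul_zero, hu.2, f1, e2] at g1
      have g2 := congrArg (a • ·) g1
      simp only [smul_add, smul_zero, hu.2, ← ax, f1, e2, hx3] at g2
      have u0 : u = 0 := by
        have : (u + v' + w') + (u + x • x • v' + x • w') + (u + x • v' + x • x • w') =
            u + (u + u) + (v' + x • v' + x • x • v') + (w' + x • w' + x • x • w') := by abel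
        rw [h, g1, g2, h2 u, hv', hw'] at this
        simpa using this.symm
      rw [u0, zero_add] at h g1
      have vw : w' = v' := by rw [← neg v']; exact (neg_eq_of_add_eq_zero_right h).symm
      rw [vw] at g1
      have v0 : v' = 0 := by
        rw [add_assoc, add_comm (x • v'), g1, add_zero] at hv'
        exact hv'
      refine ⟨u0, (smul_eq_zero_iff_eq b).1 v0, ?_⟩
      rw [v0] at vw
      exact (smul_eq_zero_iff_eq b).1 ((smul_eq_zero_iff_eq b).1 vw)
    let f : fixIn Y a × fixIn Y a × fixIn Y a → Y := fun p =>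
      ⟨p.1 + b • p.2.1 + b • b • p.2.2, Y.add_mem (Y.add_mem p.1.2.1 (hY b hb _ p.2.1.2.1))
        (hY b hb _ (hY b hb _ p.2.2.2.1))⟩
    have hf : Function.Injective f := by
      rintro ⟨u, v, w⟩ ⟨u', v', w'⟩ h
      have h' : (u : W) + b • (v : W) + b • b • (w : W) = u' + b • (v' : W) + b • b • (w' : W) := congrArg Subtype.val h
      obtain ⟨h1, h3, h4⟩ := key (u - u') (v - v') (w - w') (sub_mem u.2 u'.2) (sub_mem v.2 v'.2) (sub_mem w.2 w'.2) (by
        simp only [smul_sub]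
        rw [← sub_eq_zero] at h'
        rw [← h']; abel)
      rw [Subtype.ext (sub_eq_zero.1 h1), Subtype.ext (sub_eq_zero.1 h3), Subtype.ext (sub_eq_zero.1 h4)]
    have := Nat.card_le_card_of_injective f hf
    rw [Nat.card_prod, Nat.card_prod] at this
    calc _ = _ := by ring
      _ ≤ _ := this
  · intro hne hbot
    apply hne
    rw [eq_bot_iff] at hbot ⊢
    intro y hy
    have z0 : ∀ w ∈ Y, a • w = w → w = 0 := fun w hw h => hbot (show w ∈ fixIn Y a from ⟨hw, h⟩)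
    have z1 : ∀ w ∈ Y, a • x • w = w → w = 0 := fun w hw h => by
      have h1 : a • b⁻¹ • w = b⁻¹ • w := by
        rw [eq_inv_smul_iff, ba, ← bx, smul_inv_smul, h]
      exact (smul_eq_zero_iff_eq b⁻¹).1 (z0 _ (hY _ (H.inv_mem hb) w hw) h1)
    have z2 : ∀ w ∈ Y, a • x • x • w = w → w = 0 := fun w hw h => by
      have h1 : a • x • b⁻¹ • w = b⁻¹ • w := by
        rw [eq_inv_smul_iff, ba, ← bx, ← bx, smul_inv_smul, h]
      exact (smul_eq_zero_iff_eq b⁻¹).1 (z1 _ (hY _ (H.inv_mem hb) w hw) h1)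
    have m1 := hY x hx y hy
    have m2 := hY x hx _ m1
    have mm : ∀ u v, u ∈ Y → v ∈ Y → y + a • u + a • a • v ∈ Y := fun u v hu hv =>
      Y.add_mem (Y.add_mem hy (hY a ha _ hu)) (hY a ha _ (hY a ha _ hv))
    have k0 := z0 _ (mm _ _ hy hy) (by simp only [smul_add, ha3]; abel)
    have k1 := z1 _ (mm _ _ m1 m2) (by simp only [smul_add, ax, ha3, hx3]; abel)
    have k2 := z2 _ (mm _ _ m2 m1) (by simp only [smul_add, ax, ha3, hx3]; abel)
    have : (y + a • y + a • a • y) + (y + a • x • y + a • a • x • x • y) + (y + a • x • x • y + a • a • x • y) =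
        y + (y + y) + a • (y + x • y + x • x • y) + a • a • (y + x • y + x • x • y) := by
      simp only [smul_add]; abel
    rw [k0, k1, k2, h2 y, cy y hy] at this
    simpa using this.symm

theorem heis [Finite W] (h2 : ∀ w : W, w + w = 0) {a b c d x : G} (a3 : a ^ 3 = 1) (c3 : c ^ 3 = 1) (x3 : x ^ 3 = 1)
    (hax : a * x = x * a) (hbx : b * x = x * b) (hcx : c * x = x * c) (hdx : d * x = x * d)
    (hab : b * a = a * x * b) (hcd : d * c = c * x * d) (hca : c * a = a * c) (hda : d * a = a * d)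
    (hx : ∃ w : W, x • w ≠ w) : 2 ^ 18 ≤ Nat.card (cycl W x) := by
  have mc : ∀ {g k : G}, g * k = k * g → g ∈ Subgroup.centralizer {k} := fun h =>
    Subgroup.mem_centralizer_singleton_iff.2 h
  have sm : ∀ {g k : G}, g ∈ Subgroup.centralizer {k} → ∀ w : W, k • g • w = g • k • w := fun h w => by
    rw [← mul_smul, ← Subgroup.mem_centralizer_singleton_iff.1 h, mul_smul]
  have i1 : ∀ g ∈ Subgroup.centralizer {x}, ∀ y ∈ cycl W x, g • y ∈ cycl W x := fun g hg y (hy : _ = _) => by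
    show g • y + x • g • y + x • x • g • y = 0
    rw [sm hg, sm hg, ← smul_add, ← smul_add, hy, smul_zero]
  have i2 : ∀ {Y : AddSubgroup W} {H : Subgroup G} {k : G}, (∀ g ∈ H, ∀ y ∈ Y, g • y ∈ Y) →
      ∀ g ∈ H ⊓ Subgroup.centralizer {k}, ∀ y ∈ fixIn Y k, g • y ∈ fixIn Y k := fun h g hg y hy =>
    ⟨h g hg.1 y hy.1, by rw [sm hg.2, hy.2]⟩
  obtain ⟨l1, n1⟩ := heis_step h2 i1 (mc hax) (mc hbx) (mc rfl) a3 x3 hax hbx hab le_rfl
  obtain ⟨l2, n2⟩ := heis_step h2 (i2 (k := a) i1) ⟨mc hcx, mc hca⟩ ⟨mc hdx, mc hda⟩ ⟨mc rfl, mc hax.symm⟩ c3 x3 hcx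
    hdx hcd (fun y hy => hy.1)
  have n0 : cycl W x ≠ ⊥ := by
    obtain ⟨w, hw⟩ := hx
    intro h
    have : x • w - w ∈ cycl W x := by
      show _ + _ + _ = 0
      simp only [smul_sub, smul3 x3]; abel
    rw [h, AddSubgroup.mem_bot, sub_eq_zero] at this
    exact hw this
  obtain ⟨⟨y, hy⟩, y0⟩ := AddSubgroup.ne_bot_iff_exists_ne_zero.1 (n2 (n1 n0))
  have y0' : y ≠ 0 := fun h => y0 (Subtype.ext h)
  have xy : x • y ∈ fixIn (fixIn (cycl W x) a) c :=
    i2 (i2 i1) x ⟨⟨mc rfl, mc hax.symm⟩, mc hcx.symm⟩ y hy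
  have cy : y + x • y + x • x • y = 0 := hy.1.1
  have ne : x • y ≠ y := fun h => y0' (by rw [h, h, h2, zero_add] at cy; exact cy)
  have l3 : 4 ≤ Nat.card (fixIn (fixIn (cycl W x) a) c) := by
    have hs : ({0, y, x • y, y + x • y} : Set W) ⊆ fixIn (fixIn (cycl W x) a) c := by
      rintro _ (rfl | rfl | rfl | rfl)
      exacts [zero_mem _, hy, xy, add_mem hy xy]
    have x0 : x • y ≠ 0 := (smul_ne_zero_iff_ne x).2 y0'
    have s0 : y + x • y ≠ 0 := fun h => ne (add_left_cancel (h.trans (h2 y).symm))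
    have := Set.ncard_le_ncard hs
    rw [Set.ncard_insert_of_notMem (by simp [y0'.symm, x0.symm, s0.symm]),
      Set.ncard_insert_of_notMem (by simp [ne.symm, x0]), Set.ncard_pair (by simp [y0'])] at this
    exact this
  calc 2 ^ 18 = (4 ^ 3) ^ 3 := by norm_num
    _ ≤ (Nat.card (fixIn (fixIn (cycl W x) a) c) ^ 3) ^ 3 := by gcongr
    _ ≤ Nat.card (fixIn (cycl W x) a) ^ 3 := by gcongr
    _ ≤ _ := l1

end Heis

section Rank

variable {L W : Type*} [Group L] [AddCommGroup W] [Module (ZMod 2) W] [Finite W] (ρ : L →* (W ≃ₗ[ZMod 2] W))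

/-- the rank of `g - 1` -/
noncomputable def rk1 (g : L) : ℕ := finrank (ZMod 2) (LinearMap.range ((ρ g).toLinearMap - 1))

theorem rk1_mul (g h : L) : rk1 ρ (g * h) ≤ rk1 ρ g + rk1 ρ h := by
  have e : (ρ (g * h)).toLinearMap - 1 =
      ((ρ g).toLinearMap - 1) + (ρ g).toLinearMap ∘ₗ ((ρ h).toLinearMap - 1) := by
    ext w; simp
  unfold rk1
  rw [e]
  refine (Submodule.finrank_mono (LinearMap.range_add_le _ _)).trans
    ((Submodule.finrank_add_le_finrank_add_finrank _ _).trans ?_)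
  rw [LinearMap.range_comp]
  exact Nat.add_le_add_left (Submodule.finrank_map_le _ _) _

theorem rk1_conj (g h : L) : rk1 ρ (g * h * g⁻¹) ≤ rk1 ρ h := by
  have e : (ρ (g * h * g⁻¹)).toLinearMap - 1 =
      (ρ g).toLinearMap ∘ₗ (((ρ h).toLinearMap - 1) ∘ₗ (ρ g⁻¹).toLinearMap) := by
    ext w; simp
  unfold rk1
  rw [e, LinearMap.range_comp]
  exact (Submodule.finrank_map_le _ _).trans (Submodule.finrank_mono (LinearMap.range_comp_le_range _ _))

theorem rk1_heis {a b c d x : L} (a3 : a ^ 3 = 1) (c3 : c ^ 3 = 1) (x3 : x ^ 3 = 1)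
    (hax : a * x = x * a) (hbx : b * x = x * b) (hcx : c * x = x * c) (hdx : d * x = x * d)
    (hab : b * a = a * x * b) (hcd : d * c = c * x * d) (hca : c * a = a * c) (hda : d * a = a * d)
    (hx : ρ x ≠ 1) : 18 ≤ rk1 ρ x := by
  let _ : DistribMulAction L W := DistribMulAction.compHom W ρ
  have sm : ∀ (g : L) (w : W), g • w = ρ g w := fun _ _ => rfl
  have h2 : ∀ w : W, w + w = 0 := fun w => by
    rw [← two_smul (ZMod 2) w, show (2 : ZMod 2) = 0 from rfl, zero_smul]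
  have h := heis (W := W) h2 a3 c3 x3 hax hbx hcx hdx hab hcd hca hda (by
    by_contra hn
    push Not at hn
    exact hx (LinearEquiv.ext hn))
  have hs : (cycl W x : Set W) ⊆ LinearMap.range ((ρ x).toLinearMap - 1) := fun w (hw : _ = _) =>
    ⟨x • w, by
      show x • x • w - x • w = w
      have : x • x • w - x • w - w = (w + x • w + x • x • w) - (w + w) - (x • w + x • w) := by abel
      rw [hw, h2, h2, sub_zero, sub_zero, sub_eq_zero] at this
      exact this⟩
  have h3 : Nat.card (cycl W x) ≤ Nat.card (LinearMap.range ((ρ x).toLinearMap - 1)) := Set.ncard_le_ncard hs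
  rw [Module.natCard_eq_pow_finrank (K := ZMod 2) (V := LinearMap.range _), Nat.card_zmod] at h3
  exact (Nat.pow_le_pow_iff_right (by norm_num)).1 (h.trans h3)

end Rank

variable {F : Type*} [Field F] [Fintype F]

omit [Fintype F] in
theorem mk_eq_of_smul {g h : SU 6 F 2} (s : F) (e : ∀ v : Fin 6 → F, g • v = s • h • v) :
    (g : PSU 6 F 2) = h := by
  symm
  rw [QuotientGroup.eq, Subgroup.mem_center_iff]
  have sc : ∀ (k : SU 6 F 2) (v : Fin 6 → F), k • s • v = s • k • v := fun k v => by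
    rw [su_smul_def, su_smul_def, Matrix.mulVec_smul]
  intro k
  refine su_ext fun v => ?_
  simp only [mul_smul, e, sc, inv_smul_smul]

theorem pair_conj (hF : Fintype.card F = 2 ^ 2) {v w v' w' : IsoV 6 F} (h : hermForm 6 F 2 w.1 v.1 ≠ 0)
    (h' : hermForm 6 F 2 w'.1 v'.1 ≠ 0) : ∃ g, g * (pT hF v * pT hF w) * g⁻¹ = pT hF v' * pT hF w' := by
  obtain ⟨g1, i1, d1, s, hs⟩ := exists_special_move (uPQ_isHerm hF 6) (uPQ_nondeg hF 6) v.2.1 v'.2.1 v.2.2 v'.2.2
  obtain ⟨k1, hk1⟩ : ∃ k : SU 6 F 2, ∀ v, k • v = g1 v := exists_su_of_equiv hF 6 g1 i1 d1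
  have e1 : hermForm 6 F 2 (k1 • w.1) v'.1 ≠ 0 := fun h0 => h (by
    rw [← herm_su_smul k1, hk1 v.1, hs, herm_smul_right, h0, mul_zero])
  have ns : ∀ u : Fin 6 → F, hermForm 6 F 2 u v'.1 ≠ 0 → u ∉ Submodule.span F {v'.1} := fun u hu hm => by
    obtain ⟨c, rfl⟩ := Submodule.mem_span_singleton.1 hm
    exact hu (by rw [herm_smul_left, v'.2.2, mul_zero])
  set c := hermForm 6 F 2 (k1 • w.1) v'.1 / hermForm 6 F 2 w'.1 v'.1
  have e2 : hermForm 6 F 2 (c • w'.1) v'.1 = hermForm 6 F 2 (k1 • w.1) v'.1 := by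
    rw [herm_smul_left, div_mul_cancel₀ _ h']
  obtain ⟨g2, i2, d2, ⟨s2, hs2⟩, t, ht⟩ := exists_special_fix_move (uPQ_isHerm hF 6) (uPQ_nondeg hF 6)
    (a := v'.1) (b := k1 • w.1) (b' := c • w'.1) v'.2.1 v'.2.2 ((herm_su_smul k1 _ _).trans w.2.2)
    (by rw [uPQ_B, herm_smul_left, herm_smul_right, w'.2.2, mul_zero, mul_zero]) (ns _ e1) (ns _ (e2 ▸ e1)) e2
  obtain ⟨k2, hk2⟩ : ∃ k : SU 6 F 2, ∀ v, k • v = g2 v := exists_su_of_equiv hF 6 g2 i2 d2
  refine ⟨(k2 * k1 : SU 6 F 2), ?_⟩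
  rw [← conj_mul, mk_conj_pT, mk_conj_pT]
  congr 1
  · exact pT_eq_of_smul hF (a := s * s2) (by
      show (k2 * k1) • v.1 = _
      rw [mul_smul, hk1, hs, hk2, map_smul, hs2, smul_smul])
  · exact pT_eq_of_smul hF (a := t * c) (by
      show (k2 * k1) • w.1 = _
      rw [mul_smul, hk2, ht, smul_smul])

theorem iso_pair (hF : Fintype.card F = 2 ^ 2) {i j : Fin 6} (hij : i ≠ j) {a : F} (ha : a ≠ 0) :
    (Pi.single i 1 + Pi.single j a : Fin 6 → F) ≠ 0 ∧
      hermForm 6 F 2 (Pi.single i 1 + Pi.single j a) (Pi.single i 1 + Pi.single j a) = 0 :=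
  ⟨fun h => by simpa [hij] using congrFun h i,
    herm_pair_isotropic hij (by rw [cube_eq_one hF ha]; linear_combination two_zero hF)⟩

theorem uT_pair (hF : Fintype.card F = 2 ^ 2) {i j : Fin 6} (hij : i ≠ j) {a : F} (ha : a ≠ 0) (w : Fin 6 → F)
    (k : Fin 6) : (uT hF ⟨_, iso_pair hF hij ha⟩ • w) k =
      if k = i then a ^ 2 * w j else if k = j then a * w i else w k := by
  have h2 := two_zero hF
  have h3 := cube_eq_one hF ha
  rw [uT_smul]
  simp only [herm_add_right hF, herm_single_right hF, Pi.add_apply, Pi.smul_apply, smul_eq_mul]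
  by_cases hi : k = i
  · subst hi
    simp only [Pi.single_eq_same, Pi.single_eq_of_ne hij, if_true]
    linear_combination w k * h2
  · by_cases hj : k = j
    · subst hj
      simp only [Pi.single_eq_same, Pi.single_eq_of_ne hi, if_neg hi, if_true]
      linear_combination w k * h2 + w k * h3
    · simp [hi, hj]

theorem nine_le (hF : Fintype.card F = 2 ^ 2) {W : Type*} [AddCommGroup W] [Module (ZMod 2) W] [Finite W]
    (ρ : PSU 6 F 2 →* (W ≃ₗ[ZMod 2] W)) (hρ : ρ ≠ 1) :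
    18 ≤ finrank (ZMod 2) W ∧
      ∀ v w : IsoV 6 F, hermForm 6 F 2 w.1 v.1 ≠ 0 → 9 ≤ rk1 ρ (pT hF v * pT hF w) := by
  have := isSimpleGroup_PSU (n := 6) hF (by norm_num) (by norm_num)
  have inj : ∀ g, ρ g = 1 → g = 1 := fun g hg => by
    rcases (MonoidHom.normal_ker ρ).eq_bot_or_eq_top with h | h
    · exact Subgroup.mem_bot.1 (h ▸ (show g ∈ ρ.ker from hg))
    · exact absurd (MonoidHom.ker_eq_top_iff.1 h) hρ
  obtain ⟨ω, ω1, ω3⟩ := exists_norm_one_ne_one hF
  have h2 := two_zero hF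
  have ω0 : ω ≠ 0 := by rintro rfl; simp at ω3
  have ω3' : ω ^ 3 = 1 := ω3
  have om : ω ^ 2 + ω + 1 = 0 := by
    have : (ω - 1) * (ω ^ 2 + ω + 1) = 0 := by linear_combination ω3'
    exact (mul_eq_zero.1 this).resolve_left (sub_ne_zero.2 ω1)
  let s : ∀ i j : Fin 6, i ≠ j → SU 6 F 2 := fun i j h => uT hF ⟨_, iso_pair hF h one_ne_zero⟩
  let y : ∀ i j : Fin 6, i ≠ j → SU 6 F 2 := fun i j h => s i j h * uT hF ⟨_, iso_pair hF h ω0⟩
  have hs : ∀ i j h (w : Fin 6 → F) k, (s i j h • w) k = if k = i then w j else if k = j then w i else w k :=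
    fun i j h w k => by rw [uT_pair hF h one_ne_zero, one_pow, one_mul, one_mul]
  have hy : ∀ i j h (w : Fin 6 → F) k, (y i j h • w) k =
      if k = i then ω * w i else if k = j then ω ^ 2 * w j else w k := fun i j h w k => by
    rw [mul_smul, hs i j h, uT_pair hF h ω0, uT_pair hF h ω0, uT_pair hF h ω0]
    by_cases hi : k = i
    · simp [hi, h.symm]
    · by_cases hj : k = j <;> simp [hi, hj, h.symm]
  obtain ⟨x, hx, ex⟩ : ∃ x : SU 6 F 2, x = y 0 1 (by decide) * y 0 2 (by decide) ∧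
      ∀ w : Fin 6 → F, x • w = ![ω ^ 2 * w 0, ω ^ 2 * w 1, ω ^ 2 * w 2, w 3, w 4, w 5] :=
    ⟨_, rfl, fun w => by
      funext k; rw [mul_smul]; fin_cases k <;> simp [hy]; ring⟩
  obtain ⟨a, ea⟩ : ∃ a : SU 6 F 2, ∀ w : Fin 6 → F, a • w = ![w 0, ω * w 1, ω ^ 2 * w 2, w 3, w 4, w 5] :=
    ⟨y 1 2 (by decide), fun w => by funext k; fin_cases k <;> simp [hy]⟩
  obtain ⟨c, ec⟩ : ∃ c : SU 6 F 2, ∀ w : Fin 6 → F, c • w = ![w 0, w 1, w 2, w 3, ω * w 4, ω ^ 2 * w 5] :=
    ⟨y 4 5 (by decide), fun w => by funext k; fin_cases k <;> simp [hy]⟩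
  obtain ⟨b, eb⟩ : ∃ b : SU 6 F 2, ∀ w : Fin 6 → F, b • w = ![w 2, w 0, w 1, w 3, w 4, w 5] :=
    ⟨s 0 1 (by decide) * s 1 2 (by decide), fun w => by funext k; rw [mul_smul]; fin_cases k <;> simp [hs]⟩
  obtain ⟨d, ed⟩ : ∃ d : SU 6 F 2, ∀ w : Fin 6 → F, d • w = ![w 0, w 1, w 2, w 4, w 5, w 3] :=
    ⟨s 4 5 (by decide) * s 3 4 (by decide), fun w => by funext k; rw [mul_smul]; fin_cases k <;> simp [hs]⟩
  have p4 : ω ^ 4 = ω := by rw [pow_succ, ω3', one_mul]
  have p5 : ω ^ 5 = ω ^ 2 := by rw [show 5 = 3 + 2 from rfl, pow_add, ω3', one_mul]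
  have p6 : ω ^ 6 = 1 := by rw [show 6 = 3 * 2 from rfl, pow_mul, ω3', one_pow]
  have tr : ∀ {g h : SU 6 F 2} (t : F), (∀ (v : Fin 6 → F) k, (g • v) k = t * (h • v) k) → (g : PSU 6 F 2) = h :=
    fun t e => mk_eq_of_smul t fun v => funext (e v)
  have h18 : 18 ≤ rk1 ρ x := by
    refine rk1_heis ρ (a := a) (b := b) (c := c) (d := d) ?_ ?_ ?_ ?_ ?_ ?_ ?_ ?_ ?_ ?_ ?_ fun h => ?_
    iterate 3
      rw [← QuotientGroup.mk_pow, ← QuotientGroup.mk_one]
      refine tr 1 fun v k => ?_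
      simp only [pow_succ _ 2, pow_two (M := SU 6 F 2), mul_smul, one_smul, ea, ec, ex]
      fin_cases k <;> simp <;> ring_nf <;> simp [ω3', p6]
    iterate 5
      simp only [← QuotientGroup.mk_mul]
      refine tr 1 fun v k => ?_
      simp only [mul_smul, ea, eb, ec, ed, ex]
      fin_cases k <;> simp <;> ring_nf <;> simp [ω3', p4]
    · simp only [← QuotientGroup.mk_mul]
      refine tr ω fun v k => ?_
      simp only [mul_smul, ec, ed, ex]
      fin_cases k <;> simp <;> ring_nf <;> simp [ω3']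
    iterate 2
      simp only [← QuotientGroup.mk_mul]
      refine tr 1 fun v k => ?_
      simp only [mul_smul, ea, ec, ed]
      fin_cases k <;> simp
    obtain ⟨t, ht⟩ := center_smul hF (by norm_num) ((QuotientGroup.eq_one_iff x).1 (inj _ h))
    have e := (ex 1).symm.trans (ht 1)
    have e0 := congrFun e 0
    have e3 := congrFun e 3
    simp at e0 e3
    exact ω0 (by linear_combination om - e0 + e3 - h2)
  refine ⟨h18.trans (Submodule.finrank_le _), fun v w hvw => ?_⟩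
  have hk : ∀ i j h, rk1 ρ (y i j h) ≤ rk1 ρ (pT hF v * pT hF w) := fun i j h => by
    obtain ⟨g, hg⟩ := pair_conj hF hvw (v' := ⟨_, iso_pair hF h one_ne_zero⟩) (w' := ⟨_, iso_pair hF h ω0⟩) (by
      simp only [herm_add_right hF, herm_single_right hF, Pi.add_apply, Pi.single_eq_same, Pi.single_eq_of_ne h,
        Pi.single_eq_of_ne h.symm]
      exact fun e => ω1 (by linear_combination e - h2))
    have := rk1_conj ρ g (pT hF v * pT hF w)
    rwa [hg] at this
  have := rk1_mul ρ (y 0 1 (by decide)) (y 0 2 (by decide))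
  rw [← QuotientGroup.mk_mul, ← hx] at this
  have := hk 0 1 (by decide)
  have := hk 0 2 (by decide)
  omega

theorem u6Mod {F : Type*} [Field F] [Fintype F] (hF : Fintype.card F = 4) : U6Mod (Cfsg.PSU 6 F 2) := by
  have hF' : Fintype.card F = 2 ^ 2 := hF
  refine ⟨isSimpleGroup_PSU hF' (by norm_num) (by norm_num), fun ρ hρ => (nine_le hF' ρ hρ).1, fun α hα => ?_⟩
  obtain ⟨h1, ⟨d, hd, -⟩, h3⟩ := pT_class (n := 6) hF' (by norm_num)
  have hD : α '' Set.range (pT hF') = Set.range (pT hF') := by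
    refine eq_range_pT hF' (by norm_num) ⟨?_, ?_⟩ ?_ ⟨_, d, hd, rfl⟩
    · rintro _ ⟨t, ht, rfl⟩
      rw [MulEquiv.orderOf_eq, h1.1 t ht]
    · rintro _ ⟨t, ht, rfl⟩ _ ⟨u, hu, rfl⟩
      simp only [← map_mul, ← map_pow, EmbeddingLike.map_eq_one_iff]
      exact h1.2 t ht u hu
    · rintro x _ ⟨_, ⟨v, rfl⟩, rfl⟩
      obtain ⟨g, hg⟩ := QuotientGroup.mk_surjective (α.symm x)
      exact ⟨_, ⟨_, (mk_conj_pT hF' g v).symm⟩, by simp [hg]⟩
  obtain ⟨v, hv⟩ : ∃ v, α (pT hF' v) ≠ pT hF' v := by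
    by_contra hn
    push Not at hn
    refine hα (MulEquiv.ext fun x => ?_)
    have : x ∈ Subgroup.closure (Set.range (pT hF')) := h3 ▸ Subgroup.mem_top x
    exact MonoidHom.eqOn_closure (f := α.toMonoidHom) (g := MonoidHom.id _) (by rintro _ ⟨v, rfl⟩; exact hn v) this
  obtain ⟨v', hv'⟩ : α (pT hF' v) ∈ Set.range (pT hF') := hD ▸ ⟨_, ⟨v, rfl⟩, rfl⟩
  refine ⟨pT hF' v, fun ρ hρ => ?_⟩
  have iv : ∀ u : IsoV 6 F, (pT hF' u)⁻¹ = pT hF' u := fun u => inv_eq_of_mul_eq_one_right (pT_mul_self hF' u)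
  rw [← hv', iv]
  show 5 ≤ rk1 ρ _
  have h9 := (nine_le hF' ρ hρ).2
  by_cases h0 : hermForm 6 F 2 v.1 v'.1 = 0
  swap
  · exact le_trans (by norm_num) (h9 v' v h0)
  have h0' := (herm_eq_zero_comm hF').1 h0
  obtain ⟨w0, k1, k2⟩ : ∃ w0, hermForm 6 F 2 w0 v.1 = 1 ∧ hermForm 6 F 2 w0 v'.1 = 0 := by
    by_contra hn
    obtain ⟨u, hu⟩ := exists_herm_eq_one hF' v'.2.1
    have hz : ∀ y, hermForm 6 F 2 y v'.1 = 0 → hermForm 6 F 2 y v.1 = 0 := fun y hy => by
      by_contra h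
      exact hn ⟨(hermForm 6 F 2 y v.1)⁻¹ • y, by rw [herm_smul_left, inv_mul_cancel₀ h],
        by rw [herm_smul_left, hy, mul_zero]⟩
    have : v.1 - (hermForm 6 F 2 u v.1) ^ 2 • v'.1 = 0 := eq_zero_of_herm_right hF' fun y => by
      have := hz (y - hermForm 6 F 2 y v'.1 • u) (by rw [herm_sub_left, herm_smul_left, hu, mul_one, sub_self])
      rw [herm_sub_left, herm_smul_left] at this
      rw [herm_sub_right hF', herm_smul_right, pow_q_pow_q hF', mul_comm, this]
    exact hv (hv' ▸ (pT_eq_of_smul hF' (sub_eq_zero.1 this)).symm)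
  obtain ⟨c, hc⟩ := exists_trace_eq hF' (herm_self_pow_q hF' w0)
  have k1' : hermForm 6 F 2 v.1 w0 = 1 := by rw [← herm_conj hF', k1, one_pow]
  have wv : hermForm 6 F 2 (w0 + c • v.1) v.1 = 1 := by
    rw [herm_add_left, herm_smul_left, k1, v.2.2, mul_zero, add_zero]
  let w : IsoV 6 F := ⟨w0 + c • v.1, fun h => by rw [h, herm_zero_left] at wv; exact zero_ne_one wv, by
    rw [herm_add_right hF', herm_smul_right, wv, herm_add_left, herm_smul_left, k1']
    linear_combination hc + hermForm 6 F 2 w0 w0 * two_zero hF'⟩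
  have vw : hermForm 6 F 2 v.1 w.1 = 1 := by rw [← herm_conj hF', wv, one_pow]
  have v'w : hermForm 6 F 2 v'.1 w.1 = 0 := (herm_eq_zero_comm hF').1 (by
    show hermForm 6 F 2 (w0 + c • v.1) v'.1 = 0
    rw [herm_add_left, herm_smul_left, k2, h0, mul_zero, add_zero])
  have uv : hermForm 6 F 2 v.1 (v.1 + w.1) = 1 := by rw [herm_add_right hF', v.2.2, vw, zero_add]
  let u : IsoV 6 F := ⟨v.1 + w.1, fun h => by rw [h, herm_zero_right hF'] at uv; exact zero_ne_one uv, by
    rw [herm_add_left, uv, herm_add_right hF', w.2.2, wv]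
    linear_combination two_zero hF'⟩
  have c1 := pT_conj hF' w v u (by rw [vw, one_smul])
  have c2 := pT_conj hF' w v' v' (by rw [v'w, zero_smul, add_zero])
  have c3 := pT_conj hF' v v' v' (by rw [h0', zero_smul, add_zero])
  have e : pT hF' u * pT hF' v = pT hF' v' * ((pT hF' w * (pT hF' v' * pT hF' v) * (pT hF' w)⁻¹) *
      (pT hF' v' * pT hF' v)) * (pT hF' v')⁻¹ := by
    have q : ∀ (t : IsoV 6 F) g, pT hF' t * (pT hF' t * g) = g := fun t g => by
      rw [← mul_assoc, pT_mul_self, one_mul]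
    have c2' : ∀ g, pT hF' w * (pT hF' v' * g) = pT hF' v' * (pT hF' w * g) := fun g => by
      conv_rhs => rw [← c2]
      simp only [mul_assoc, q]
    have c3' : pT hF' v' * (pT hF' v * pT hF' v') = pT hF' v := by
      nth_rewrite 2 [← c3]
      simp only [mul_assoc, q]
    rw [← c1, iv, iv]
    simp only [mul_assoc, c3']
    rw [c2', q]
  have l1 := h9 u v (by rw [uv]; exact one_ne_zero)
  rw [e] at l1
  have l2 := l1.trans ((rk1_conj ρ _ _).trans (rk1_mul ρ _ _))
  have l3 := rk1_conj ρ (pT hF' w) (pT hF' v' * pT hF' v)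
  omega

end CfsgLib.E62
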