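import Mathlib
import Cfsg.Agent.Lib.E62.RModel
import Cfsg.Agent.Lib.E62.RModelC
import Cfsg.Agent.Lib.E62.RMain
import Cfsg.Agent.Lib.E62.RExt
import Cfsg.Agent.Lib.E62.RU6Loc
import Cfsg.Agent.Lib.E62.RU6Mod

/-!
# Recognition of `²E₆(2)` from the centralizer `2^(1+20).U₆(2)`
-/

set_option autoImplicit false

namespace CfsgLib.E62

open Subgroup Cfsg.Lie CfsgLib.LargeExtra

variable {G : Type*} [Group G] [Finite G] {F : Type*} [Field F] [Fintype F]

theorem Six.recog (hF : Fintype.card F = 4) {Q : Subgroup G} {z : G}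
    {f : centralizer ({z} : Set G) →* Cfsg.PSU 6 F 2} (h : Six Q z f)
    (hw : ∃ g, g * z * g⁻¹ ∈ Q ∧ g * z * g⁻¹ ≠ z) : Nonempty (G ≃* twistedE6 F 2) ∧ IsSimpleGroup G := by
  have hK : Fintype.card F = 2 ^ 2 := hF
  have : Fact (Nat.Prime 2) := ⟨Nat.prime_two⟩
  have := charP_of_card_eq_prime_pow (f := 2) hK
  have hφ : ∀ t, frobenius F 2 t = t ^ 2 := fun _ => rfl
  have hφ2 : ∀ t, frobenius F 2 (frobenius F 2 t) = t := fun t => by
    rw [hφ, hφ, ← pow_mul]; exact (congrArg (t ^ ·) hF.symm).trans (FiniteField.pow_card t)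
  obtain ⟨U, m₁, m₂, x₁, x₂, f', m⟩ := exists_model_conc hφ hφ2 hK (z := el hφ hφ2 [71]) (mul_one _)
  obtain ⟨T, A, P, hL⟩ := u6Loc hF
  obtain ⟨e⟩ := nonempty_equiv_of_model (u6Mod hF) hL h hw m (zf_model hφ hφ2 (mul_one _))
  have := m.simple
  exact ⟨⟨e⟩, e.isSimpleGroup⟩

theorem six_of_fstar {z : G} (hz : orderOf z = 2) {Q : Subgroup (centralizer ({z} : Set G))} [Q.Normal]
    (hFQ : Cfsg.generalizedFittingSubgroup (centralizer ({z} : Set G)) = Q) (hex : Cfsg.IsExtraspecial 2 Q)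
    (hcard : Nat.card Q = 2 ^ 21) {X : Type*} [Group X] (e : centralizer ({z} : Set G) ⧸ Q ≃* X) :
    Six (amb Q) z (e.toMonoidHom.comp (QuotientGroup.mk' Q)) :=
  ⟨pre_of_fstar hz Q hFQ hex, (card_amb Q).trans hcard, e.surjective.comp (QuotientGroup.mk'_surjective Q),
    fun g => e.map_eq_one_iff.trans ((QuotientGroup.eq_one_iff g).trans coe_mem_amb.symm)⟩

theorem exists_ov {C L : Type*} [Group C] [Finite C] [Group L] {T A P : Subgroup L} (hM : U6Mod L) (hL : U6Loc T A P)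
    {H : Subgroup C} (hH : H.index = 2) (hQ : Cfsg.pCore 2 C ≤ H) [((Cfsg.pCore 2 C).subgroupOf H).Normal]
    (e : H ⧸ (Cfsg.pCore 2 C).subgroupOf H ≃* L) : ∃ ι : L →* C ⧸ Cfsg.pCore 2 C, Ov ι ∧ ι.range.index = 2 := by
  have : Fact (Nat.Prime 2) := ⟨Nat.prime_two⟩
  let j := QuotientGroup.map ((Cfsg.pCore 2 C).subgroupOf H) (Cfsg.pCore 2 C) H.subtype le_rfl
  have hj : Function.Injective j := by
    rw [injective_iff_map_eq_one]
    intro a ha
    obtain ⟨a, rfl⟩ := QuotientGroup.mk_surjective a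
    exact (QuotientGroup.eq_one_iff a).2 ((QuotientGroup.eq_one_iff (a : C)).1 ha)
  have hr : (j.comp e.symm.toMonoidHom).range = H.map (QuotientGroup.mk' _) := by
    ext x
    constructor
    · rintro ⟨l, rfl⟩
      obtain ⟨a, ha⟩ := QuotientGroup.mk_surjective (e.symm l)
      exact ⟨a, a.2, (congrArg j ha :)⟩
    · rintro ⟨a, ha, rfl⟩
      exact ⟨e (QuotientGroup.mk ⟨a, ha⟩), (congrArg j (e.symm_apply_apply _) :)⟩
  have hi : (j.comp e.symm.toMonoidHom).range.index = 2 := by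
    rw [hr, index_map_eq _ (QuotientGroup.mk'_surjective _) (by rwa [QuotientGroup.ker_mk']), hH]
  refine ⟨j.comp e.symm.toMonoidHom, ⟨hj.comp e.symm.injective, hi.le, fun a ha h2 => ?_⟩, hi⟩
  have hι := hj.comp e.symm.injective
  change Function.Injective (j.comp e.symm.toMonoidHom) at hι
  generalize j.comp e.symm.toMonoidHom = ι at ha hi hι
  by_cases h1 : a ∈ ι.range
  · obtain ⟨l, rfl⟩ := h1
    rw [hL.eq_one hM (a := l) fun m => hι (by rw [map_mul, map_mul]; exact ha m), map_one]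
  have h3 : ∀ x, Commute a x := fun x => by
    by_cases h4 : x ∈ ι.range
    · obtain ⟨l, rfl⟩ := h4; exact ha l
    · obtain ⟨l, hl⟩ := (mul_mem_iff_of_index_two hi).2 (iff_of_false h1 h4)
      have := (Commute.refl a).mul_right (ha l)
      rwa [hl, ← mul_assoc, h2, one_mul] at this
  have : (zpowers a).Normal := ⟨fun _ ⟨n, hn⟩ x => ⟨n, by
    rw [← hn, ← ((h3 x).zpow_left n).eq, mul_inv_cancel_right]⟩⟩
  have h5 : IsPGroup 2 (zpowers a) := .of_card_dvd_pow (n := 1)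
    (by rw [Nat.card_zpowers]; exact orderOf_dvd_of_pow_eq_one (by rwa [pow_one, sq]))
  obtain ⟨c, rfl⟩ := QuotientGroup.mk_surjective a
  exact (QuotientGroup.eq_one_iff c).2 (Core.le_pCore (h5.comap_of_ker_isPGroup (QuotientGroup.mk' _)
    (by rw [QuotientGroup.ker_mk']; exact Core.isPGroup_pCore 2 C)) (mem_zpowers _))

end CfsgLib.E62
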