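import Mathlib
import Cfsg.Agent.Lib.E62.SData

/-!
# The group `2²⁰ : U₆(2) : 2`: kernel checks
-/

set_option autoImplicit false
set_option maxRecDepth 100000
set_option Elab.async false

namespace CfsgLib.E62.S38

open CfsgLib.Comput CfsgLib.FiTool CfsgLib.FiLoc CfsgLib.FiType

theorem chk_one : cosOK MLa good U0 trone 0 = true := by decide +kernel

end CfsgLib.E62.S38
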