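import Mathlib
import Cfsg.Agent.Lib.E62.SData

/-!
# The group `2²⁰ : U₆(2) : 2`: kernel checks
-/

set_option autoImplicit false
set_option maxRecDepth 100000
set_option Elab.async false

namespace CfsgLib.E62.S38

open CfsgLib.Comput CfsgLib.FiTool CfsgLib.FiLoc CfsgLib.FiType

theorem chk_defs1 : defsOK (app2 (ones 21 21)) (ok2 21) (ones (21 + 1) 21) gens1 ML1 ML1 defs1 0 = true := by
  decide +kernel

theorem chk_gens1 : gens1 = (gN ++ [m6, m7]).map (· ++ [2 ^ 20]) ∧ mg1 = mg ++ [2 ^ 20] := by decide +kernel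

theorem chk_MLa : ∀ m < 44, MLa.getD m [] = if m < 20 then (List.range 20).map (2 ^ ·) ++ [2 ^ 20 ^^^ flag.getD m 0] else
    ML1.getD (if m < 35 then m - 12 else if m < 43 then m - 35 else 23) [] := by decide +kernel

theorem chk_flag : ∀ m < 20, flag.getD m 0 < 2 ^ 20 := by decide +kernel

theorem chk_bas : allLt (fun k => band (inA (rngA 20 0) (nth 0 basW k))
    (Nat.beq (act (stepL (ap 21) MLa) (nth 0 basW k) (2 ^ 20)) (Nat.xor (2 ^ 20) (Nat.pow 2 k)))) 20 = true := by
  decide +kernel

theorem chk_extA0 : extOK (eqM MLa) 20 extA0 = true := by decide +kernel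

theorem chk_extA1 : extOK (eqM MLa1) 20 extA1 = true := by decide +kernel

theorem chk_serB : serOK (eqM MLb) 15 2 serB 0 = true := by decide +kernel

theorem chk_extB : extOK (eqM MLb1) 15 extB = true := by decide +kernel

theorem chk_ch : allLt (fun j => chOK j (nth (0, 0, []) chV j)) 14 = true := by decide +kernel

theorem chk_chW : ∀ l < 14, ∃ k < 15, 1 ≤ k ∧ nth 0 chW l = 20 + k + 1 := by decide +kernel

theorem chk_good : allL (goodOK MLa) good = true := by decide +kernel

theorem chk_goodO : allL (goodOK MLa1) goodO = true := by decide +kernel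

theorem chk_tau : cosOK MLa good U0 trtau 35 = true := by decide +kernel

theorem chk_c : cosOK MLa good U0 trc 44 = true := by decide +kernel

theorem chk_gam : cosOK MLa1 goodO U1 trgam 45 = true := by decide +kernel

theorem chk_wgam : cosOK MLa1 goodO U1 trwgam 0x2c2d = true := by decide +kernel

theorem chk_K0 : trK0.ok (eqM MLb) (leafC (eqM MLb) [15, 14, 24] (rngA 15 0) (2 ^ 24 - 1) 15 2) (rngA 15 0) 15 2 0 0 = true := by
  decide +kernel

theorem chk_K1 : trK1.ok (eqM MLb1) (leafC (eqM MLb1) [25, 0x1819] UB1 (2 ^ 24 - 1) 15 2) UB1 15 2 0 25 = true := by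
  decide +kernel

theorem chk_Y : trY.ok (eqM MLb) (leafC (eqM MLb) (ycs.map Prod.fst) (rngA 15 1) 0 15 2) (rngA 15 1) 15 2 1 0 = true := by
  decide +kernel

theorem chk_yc : allL ycOK ycs = true := by decide +kernel

theorem chk_del : allLt (fun j => eqM MLa ([34, j + 1, 34, j + 1], [if j < 8 then 12 + j + 1 else 0])) 20 = true := by
  decide +kernel

theorem chk_tc : allLt (fun m => tcOK m (nth (0, 0, 0, 0, 0) tcs m)) 16 = true := by decide +kernel

theorem chk_r : band (band (inA U0 rw0) (inA (2 ^ 35 - 2 ^ 21) rw0)) (eqM MLa ([rw0, 0x220c], [0x220c, rw0])) = true := by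
  decide +kernel

theorem chk_lifts : allLt (fun j => FiType.bor (Nat.beq j 0) (band (band (inA (rngA 20 0) (nth 0 lifts j))
    (eqM MLa ([nth 0 lifts j, 20 + j + 1, 0x220c], [0x220c, nth 0 lifts j, 20 + j + 1])))
    (eqM MLb ([j + 1, 14], [14, j + 1])))) 15 = true := by
  decide +kernel

theorem chk_five : band (allL (fun c => band (inA (rngA 15 11) c.1) (eqM MLb ([c.2, c.1], [15, c.2]))) five)
    (eqM MLb (five.map Prod.fst, [])) = true := by decide +kernel

theorem chk_misc : band (band (band (eqM MLb ([14], [16, 18])) (eqM MLb ([14, 14], []))) (neM MLb 0x10e010e 1))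
    (band (band (neM MLb 15 1) (neM MLb 24 4))
      (band (eqM MLa1 ([45, 0x220c], [0x220c, 45])) (eqM MLb1 ([25, 14], [14, 25])))) = true := by
  decide +kernel

end CfsgLib.E62.S38
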