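import Mathlib
import Cfsg.Agent.Lib.E62.SChkA
import Cfsg.Agent.Lib.E62.SChkB
import Cfsg.Agent.Lib.W2.Tools

/-!
# The involutions of `2²⁰ : U₆(2)` and `2²⁰ : U₆(2) : 2`
-/

set_option autoImplicit false
set_option maxRecDepth 100000

namespace CfsgLib.E62.S38

open Subgroup CfsgLib.Comput CfsgLib.FiTool CfsgLib.FiLoc CfsgLib.Tech CfsgLib.W2

variable {G : Type*} [Group G]

/-- centralised by an element of order three -/
def Good (z : G) : Prop := ∃ d : G, d ^ 3 = 1 ∧ d ≠ 1 ∧ d * z = z * d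

theorem Good.of_conj {z g x : G} (h : Good x) (e : g * z * g⁻¹ = x) : Good z := by
  obtain ⟨d, h1, h2, h3⟩ := h
  refine ⟨g⁻¹ * d * g⁻¹⁻¹, by rw [conj_pow, h1]; group, fun e => h2 (by simpa [mul_eq_one_iff_eq_inv] using e), ?_⟩
  rw [← e] at h3
  calc _ = g⁻¹ * (d * (g * z * g⁻¹)) * g := by group
    _ = _ := by rw [h3]; group

/-- a word model with a test of non-triviality -/
structure Mdl (ML : List (List ℕ)) (α : ℕ → G) : Prop where
  eq : ∀ e, eqM ML e = true → e.Holds α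
  ne : ∀ w x, neM ML w x = true → ev α w ≠ 1

theorem two_mul_card_le [Finite G] {H K : Subgroup G} (h : H ≤ K) {x : G} (hx : x ∈ K) (hx' : x ∉ H) :
    2 * Nat.card H ≤ Nat.card K := by
  obtain ⟨n, hn⟩ := card_dvd_of_le h
  have h1 : n ≠ 1 := fun e => hx' (eq_of_le_of_card_ge h (by rw [hn, e, mul_one]) ▸ hx)
  have h0 : n ≠ 0 := fun e => (Nat.card_pos (α := K)).ne' (by rw [hn, e, mul_zero])
  rw [hn, mul_comm]
  exact Nat.mul_le_mul_left _ (by omega)

theorem chain_card [Finite G] {w : ℕ → G} {n : ℕ} {C : ℕ → Subgroup G} (h1 : ∀ j < n, w j ∉ C j)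
    (h2 : ∀ j l, j < l → l < n → w l ∈ C j) (k : ℕ) {i : ℕ} (h : i + k = n) : 2 ^ k ≤ Nat.card (pcSub w n i) := by
  induction k generalizing i with
  | zero => exact Nat.card_pos
  | succ k ih =>
    refine le_trans ?_ (two_mul_card_le (pcSub_anti w n (Nat.le_succ i)) (mem_pcSub w le_rfl (by omega)) fun e =>
      h1 i (by omega) (pcSub_le.2 (fun l hl hl' => h2 i l hl hl') e))
    rw [pow_succ']
    exact Nat.mul_le_mul_left _ (ih (by omega))

/-- the stabiliser of the coset `v N` -/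
def cosSt (v : G) (N : Subgroup G) : Subgroup G where
  carrier := {g | g ∈ normalizer (N : Set G) ∧ v⁻¹ * g * v * g⁻¹ ∈ N}
  mul_mem' := fun {g h} hg hh => ⟨mul_mem hg.1 hh.1, by
    convert N.mul_mem hg.2 (conj_mem_of_mem_normalizer hg.1 hh.2) using 1; group⟩
  one_mem' := ⟨one_mem _, by simp⟩
  inv_mem' := fun {g} hg => ⟨inv_mem hg.1, by
    convert conj_mem_of_mem_normalizer' hg.1 (N.inv_mem hg.2) using 1; group⟩

theorem pcSub_congr {α α' : ℕ → G} {s : ℕ} (h : ∀ j < s, α' j = α j) (i : ℕ) : pcSub α' s i = pcSub α s i :=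
  le_antisymm (pcSub_le.2 fun j h1 h2 => h j h2 ▸ mem_pcSub α h1 h2)
    (pcSub_le.2 fun j h1 h2 => h j h2 ▸ mem_pcSub α' h1 h2)

theorem ser_congr {α α' : ℕ → G} {s p : ℕ} (h : ∀ j < s, α' j = α j) (S : Ser α s p) : Ser α' s p :=
  ⟨S.small, S.pos, fun j hj => by rw [pcSub_congr h, h j hj]; exact S.pow j hj,
    fun j hj i => by rw [pcSub_congr h, h j hj]; exact S.nall j hj i⟩

namespace Mdl

variable {ML : List (List ℕ)} {α : ℕ → G} (M : Mdl ML α)
include M

theorem eq22 {a b c d : ℕ} (h : eqM ML ([a, b], [c, d]) = true) : ev α a * ev α b = ev α c * ev α d := by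
  simpa only [Eqn.Holds, evL_two] using M.eq _ h

theorem good {g : ℕ × ℕ × ℕ} (h : goodOK ML g = true) : Good (ev α g.1) ∧ Good (1 : G) := by
  obtain ⟨h1, h2⟩ := band_eq_true.1 h
  obtain ⟨h0, h1⟩ := band_eq_true.1 h1
  have h3 : ev α g.2.1 ^ 3 = 1 := by simpa only [Eqn.Holds, evL_three, evL_nil, pow_three'] using M.eq _ h1
  exact ⟨⟨_, h3, M.ne _ _ h2, M.eq22 h0⟩, _, h3, M.ne _ _ h2, by simp⟩

theorem good_lw {gd : List (ℕ × ℕ × ℕ)} (h : allL (goodOK ML) gd = true) (h1 : Good (1 : G)) (i : ℕ) :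
    Good (lw α (gd.map Prod.fst) i) := by
  rcases nth_mem_or 0 (gd.map Prod.fst) i with e | e
  · obtain ⟨g, hg, e⟩ := List.mem_map.1 e
    rw [lw, ← e]; exact (M.good (allL_sound h g hg)).1
  · rw [lw, e]; exact h1

theorem cos [Finite G] (S : Ser α 20 2) (hc : 2 ^ 20 ≤ Nat.card (pcSub α 20 0)) {U : ℕ} (hU : InA α U (nAllSub α 20))
    {gd : List (ℕ × ℕ × ℕ)} (h : allL (goodOK ML) gd = true) (h1 : Good (1 : G)) {t : CT} {x : ℕ}
    (ht : cosOK ML gd U t x = true) {y : G} (hy : y ∈ pcSub α 20 0) (h2 : (ev α x * y) ^ 2 = 1) : Good (ev α x * y) := by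
  rw [cosOK, force_eq] at ht
  obtain ⟨k, -, i, e⟩ := S.classes Nat.prime_two hc M.eq hU (L := ⊤) (fun _ _ => trivial) (fun _ _ => trivial) _ ht y hy h2
  exact (M.good_lw h h1 i).of_conj e

end Mdl

/-- the letters of the complement -/
def bt (α : ℕ → G) (m : ℕ) : G := α (20 + m)

theorem ev_bt (α : ℕ → G) {m : ℕ} (hm : m < 200) : ev (bt α) (m + 1) = ev α (20 + m + 1) :=
  (ev_letter _ (by omega)).trans (ev_letter α (m := 20 + m) (by omega)).symm

/-- the model of `2²⁰ : U₆(2)`; `π` is the projection onto the complement -/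
structure St (α : ℕ → G) (π : G →* G) : Prop where
  a : Mdl MLa α
  b : Mdl MLb (bt α)
  card : Nat.card (pcSub α 20 0) = 2 ^ 20
  sq : ∀ x ∈ pcSub α 20 0, x * x = 1
  ker : π.ker = pcSub α 20 0
  idem : ∀ x, π (π x) = π x
  fix : ∀ m, π (bt α m) = bt α m

namespace St

variable [Finite G] {α : ℕ → G} {π : G →* G} (S : St α π)
include S

omit [Finite G] in
theorem comm {x y : G} (hx : x ∈ pcSub α 20 0) (hy : y ∈ pcSub α 20 0) : x * y = y * x := by
  have e := inv_eq_of_mul_eq_one_right (S.sq _ (mul_mem hx hy))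
  rw [mul_inv_rev, inv_eq_of_mul_eq_one_right (S.sq x hx), inv_eq_of_mul_eq_one_right (S.sq y hy)] at e
  exact e.symm

omit [Finite G] in
theorem serA : Ser α 20 2 :=
  ⟨by norm_num, two_pos, fun j hj => by rw [pow_two, S.sq _ (mem_pcSub α (Nat.zero_le _) hj)]; exact one_mem _,
    fun j hj i => centralizer_le_normalizer _ (mem_centralizer_iff.2 fun y hy =>
      S.comm (pcSub_anti α 20 (Nat.zero_le _) hy) (mem_pcSub α (Nat.zero_le _) hj))⟩

theorem hU0 : InA α U0 (nAllSub α 20) := S.serA.inA_ext S.a.eq chk_extA0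

omit [Finite G] in
theorem good_one : Good (1 : G) := (S.a.good (allL_sound chk_good _ List.mem_cons_self)).2

theorem good_A {y : G} (hy : y ∈ pcSub α 20 0) : Good y := by
  simpa [ev_zero] using S.a.cos S.serA S.card.ge S.hU0 chk_good S.good_one chk_one hy
    (by rw [ev_zero, one_mul, pow_two, S.sq y hy])

theorem serB : Ser (bt α) 15 2 := Ser.of_ok S.b.eq (by norm_num) two_pos chk_serB

theorem card1 : 2 ^ 14 ≤ Nat.card (pcSub (bt α) 15 1) := by
  refine (chain_card (w := lw α chW) (n := 14) (C := fun j => cosSt (ev α (nth (0, 0, []) chV j).1)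
    (pcSub α 20 ((nth (0, 0, []) chV j).2.1 + 1))) (fun j hj h => ?_) (fun j l hl hl' => ?_) 14 (zero_add _)).trans
    (card_le_of_le (pcSub_le.2 fun l _ hl => ?_))
  · have h0 := (band_eq_true.1 (allLt_sound chk_ch j hj)).1
    generalize nth (0, 0, []) chV j = c at h h0
    obtain ⟨h1, h3⟩ := band_eq_true.1 h0
    obtain ⟨h1, h2⟩ := band_eq_true.1 h1
    have h4 := S.a.eq _ h3
    have := lt_of_blt h1
    simp only [Eqn.Holds, evL_cons, evL_nil, mul_one, Nat.succ_eq_add_one, ev_letter α (show c.2.1 < 255 by omega)] at h4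
    have h5 := h.2
    rw [mul_assoc _ _ (ev α c.1), h4] at h5
    refine S.serA.not_mem Nat.prime_two S.card.ge this one_pos one_lt_two ?_
    simpa [lw, mul_assoc, mul_mem_cancel_right (ev_mem (inA_rngA α 20 _) h2)] using h5
  · have h0 := FiType.bimp_sound (allLt_sound (band_eq_true.1 (allLt_sound chk_ch j (by omega))).2 l hl')
      (Nat.ble_eq.symm ▸ hl)
    generalize nth (0, 0, []) chV j = c at h0 ⊢
    obtain ⟨h1, h3⟩ := band_eq_true.1 h0
    obtain ⟨h1, h2⟩ := band_eq_true.1 h1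
    have h4 := S.a.eq _ h3
    simp only [Eqn.Holds, evL_cons, evL_nil, mul_one] at h4
    refine ⟨mem_nAllSub.1 (ev_mem S.hU0 h1) _, ?_⟩
    rw [mul_assoc _ _ (ev α c.1), h4]
    simpa using ev_mem (inA_rngA α 20 _) h2
  · obtain ⟨k, hk, h1, e⟩ := chk_chW l hl
    rw [lw, e, ev_letter _ (by omega)]
    exact mem_pcSub (bt α) h1 hk

omit [Finite G] in
theorem misc : ev α 34 = ev α 36 * ev α 38 ∧ ev α 34 * ev α 34 = 1 ∧ bt α 0 ∉ Cx (ev α 34) ∧ ev α 35 ≠ 1 ∧ ev α 44 ≠ 1 := by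
  have h := chk_misc
  simp only [band_eq_true] at h
  obtain ⟨⟨⟨h1, h2⟩, h3⟩, ⟨h4, h5⟩, -⟩ := h
  have h1 := S.b.eq _ h1
  have h2 := S.b.eq _ h2
  have e := ev_bt α (show 13 < 200 by norm_num)
  simp only [Eqn.Holds, evL_two, evL_one, evL_nil] at h1 h2
  rw [e] at h1 h2
  refine ⟨by rwa [ev_bt α (show 15 < 200 by norm_num), ev_bt α (show 17 < 200 by norm_num)] at h1, h2, fun h => ?_,
    ev_bt α (show 14 < 200 by norm_num) ▸ S.b.ne _ _ h4, ev_bt α (show 23 < 200 by norm_num) ▸ S.b.ne _ _ h5⟩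
  refine S.b.ne _ _ h3 ?_
  have e1 : ev (bt α) 0x10e010e = bt α 0 * ev α 34 * bt α 0 * ev α 34 := by
    rw [show ev α 34 = bt α 13 from ev_letter α (m := 33) (by norm_num)]
    exact (ev_app _ (app (app 1 13) 0) (j := 13) (by norm_num)).trans (by
      rw [ev_app _ _ (by norm_num), ev_app _ _ (by norm_num), ev_letter _ (show 0 < 255 by norm_num)])
  have e2 := S.b.eq ([0 + 1, 0 + 1], []) (by decide +kernel)
  simp only [Eqn.Holds, evL_two, evL_nil, ev_letter _ (show 0 < 255 by norm_num)] at e2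
  rw [e1, mem_Cx.1 h, mul_assoc (ev α 34), e2, mul_one]
  exact h2

omit [Finite G] in
theorem lift {j : ℕ} (h1 : 1 ≤ j) (hj : j < 15) :
    (∃ a ∈ pcSub α 20 0, a * bt α j ∈ Cx (ev α 0x220c)) ∧ bt α j ∈ Cx (ev α 34) := by
  rcases FiType.bor_eq_true.1 (allLt_sound chk_lifts j hj) with h | h
  · have := Nat.eq_of_beq_eq_true h; omega
  simp only [band_eq_true] at h
  have h2 := S.a.eq _ h.1.2
  have h3 := S.b.eq22 h.2
  simp only [Eqn.Holds, evL_three, ev_letter α (show 20 + j < 255 by omega)] at h2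
  rw [ev_letter _ (by omega), ev_bt α (show 13 < 200 by norm_num)] at h3
  exact ⟨⟨_, ev_mem (inA_rngA α 20 0) h.1.1, mem_Cx.2 (h2.trans (mul_assoc _ _ _))⟩, mem_Cx.2 h3⟩

theorem card0 : 2 ^ 15 ≤ Nat.card (pcSub (bt α) 15 0) :=
  (Nat.mul_le_mul_left 2 S.card1).trans (two_mul_card_le (pcSub_anti _ 15 zero_le_one)
    (mem_pcSub _ le_rfl (by norm_num)) fun e => S.misc.2.2.1 (pcSub_le.2 (fun _ h1 h2 => (S.lift h1 h2).2) e))

omit [Finite G] in
theorem fix_of_mem {x : G} (h : x ∈ π.range) : π x = x := by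
  obtain ⟨y, rfl⟩ := h; exact S.idem y

omit [Finite G] in
theorem inK (U : ℕ) : InA (bt α) U π.range := fun m _ => ⟨_, S.fix m⟩

omit [Finite G] in
theorem pc_le (i : ℕ) : pcSub (bt α) 15 i ≤ π.range := pcSub_le.2 fun m _ _ => ⟨_, S.fix m⟩

omit [Finite G] in
theorem split {z x : G} (h : π z = x) : x⁻¹ * z ∈ pcSub α 20 0 := by
  rw [← S.ker, MonoidHom.mem_ker, map_mul, map_inv, ← h, S.idem, inv_mul_cancel]

theorem good_tau {z : G} (h2 : z * z = 1) (h : π z = ev α 35) : Good z := by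
  simpa using S.a.cos S.serA S.card.ge S.hU0 chk_good S.good_one chk_tau (S.split h) (by simpa [pow_two] using h2)

theorem good_c {z : G} (h2 : z * z = 1) (h : π z = ev α 44) : Good z := by
  simpa using S.a.cos S.serA S.card.ge S.hU0 chk_good S.good_one chk_c (S.split h) (by simpa [pow_two] using h2)

theorem clsK {y : G} (hy : y ∈ pcSub (bt α) 15 0) (h2 : y * y = 1) : ∃ k ∈ π.range,
    k * y * k⁻¹ = ev α 35 ∨ k * y * k⁻¹ = ev α 34 ∨ k * y * k⁻¹ = ev α 44 ∨ k * y * k⁻¹ = 1 := by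
  obtain ⟨k, hk, i, e⟩ := (S.serB.classes Nat.prime_two S.card0 S.b.eq S.serB.inA (S.inK _) (S.inK _) _ chk_K0).root y hy
    (by rwa [pow_two])
  refine ⟨k, hk, ?_⟩
  rw [e, ← ev_bt α (show 14 < 200 by norm_num), ← ev_bt α (show 13 < 200 by norm_num),
    ← ev_bt α (show 23 < 200 by norm_num)]
  rcases i with _ | _ | _ | i
  exacts [.inl rfl, .inr (.inl rfl), .inr (.inr (.inl rfl)), .inr (.inr (.inr rfl))]

end St

/-- the model of `2²⁰ : U₆(2) : 2` -/
structure St1 (α : ℕ → G) (π : G →* G) (γ : G) : Prop extends St α π where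
  a1 : Mdl MLa1 (snoc α 44 γ)
  b1 : Mdl MLb1 (snoc (bt α) 24 γ)
  fix1 : π γ = γ

omit [Group G] in
theorem snoc_lt {g : ℕ → G} {n : ℕ} (a : G) {j : ℕ} (h : j < n) : snoc g n a j = g j := if_neg h.ne

theorem ev_snoc {g : ℕ → G} {n : ℕ} (a : G) (h : n < 255) : ev (snoc g n a) (n + 1) = a :=
  (ev_letter _ h).trans (if_pos rfl)

namespace St1

variable [Finite G] {α : ℕ → G} {π : G →* G} {γ : G} (S : St1 α π γ)
include S

theorem good_out {z : G} (h2 : z * z = 1) (h : γ⁻¹ * π z ∈ pcSub (bt α) 15 0) : Good z := by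
  have ea : ∀ j < 20, snoc α 44 γ j = α j := fun j hj => snoc_lt _ (by omega)
  have eb : ∀ j < 15, snoc (bt α) 24 γ j = bt α j := fun j hj => snoc_lt _ (by omega)
  have SA := ser_congr ea S.serA
  have SB := ser_congr eb S.serB
  have hK : ∀ U, InA (snoc (bt α) 24 γ) U π.range := fun U m _ => by
    unfold snoc; split_ifs; exacts [⟨_, S.fix1⟩, ⟨_, S.fix m⟩]
  have hU : InA (snoc α 44 γ) U1 (nAllSub (snoc α 44 γ) 20) := by
    refine InA.lor (fun m hm => mem_nAllSub.2 fun i => ?_) (SA.inA_ext S.a1.eq chk_extA1)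
    have : m ≠ 44 := by rintro rfl; exact absurd hm (by decide +kernel)
    rw [pcSub_congr ea, snoc, if_neg this]
    exact mem_nAllSub.1 (S.hU0 m hm) i
  have key : ∀ {t x}, cosOK MLa1 goodO U1 t x = true → ∀ k ∈ π.range, k * π z * k⁻¹ = ev (snoc α 44 γ) x → Good z :=
    fun ht k hk e => by
      have h3 := S.split (z := k * z * k⁻¹) (by rw [map_mul, map_mul, map_inv, S.fix_of_mem hk, e])
      refine Good.of_conj (g := k) ?_ rfl
      have := S.a1.cos SA (by rw [pcSub_congr ea, S.card]) hU chk_goodO S.good_one ht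
        (by rw [pcSub_congr ea]; exact h3) (by simpa [pow_two] using h2)
      rwa [mul_inv_cancel_left] at this
  obtain ⟨k, hk, i, e⟩ := SB.classes Nat.prime_two (by rw [pcSub_congr eb]; exact S.card0) S.b1.eq
    (SB.inA_ext S.b1.eq chk_extB) (hK _) (hK _) _ chk_K1 _ (by rw [pcSub_congr eb]; exact h)
    (by rw [ev_snoc _ (by norm_num), mul_inv_cancel_left, pow_two, ← map_mul, h2, map_one])
  rw [ev_snoc _ (by norm_num), mul_inv_cancel_left] at e
  rcases i with _ | _ | i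
  · exact key chk_gam k hk (e.trans ((ev_snoc _ (by norm_num)).trans (ev_snoc _ (by norm_num)).symm))
  · refine key chk_wgam k hk (e.trans ((ev_app _ 24 (j := 24) (by norm_num)).trans
      (Eq.trans ?_ (ev_app _ 44 (j := 44) (by norm_num)).symm)))
    rw [ev_letter _ (show 23 < 255 by norm_num), ev_letter _ (show 43 < 255 by norm_num)]
    rfl
  · have : π z = 1 := by simpa [mul_eq_one_iff_eq_inv] using (show k * π z * k⁻¹ = 1 from e)
    exact S.good_A (S.ker ▸ this)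

theorem gam : γ ∈ Cx (ev α 0x220c) ∧ γ ∈ Cx (ev α 34) ∧ ∀ i, γ ∈ normalizer (pcSub (bt α) 15 i : Set G) := by
  have h := chk_misc
  simp only [band_eq_true] at h
  have h1 := S.a1.eq22 h.2.2.1
  have h2 := S.b1.eq22 h.2.2.2
  have eb : ∀ j < 15, snoc (bt α) 24 γ j = bt α j := fun j hj => snoc_lt _ (by omega)
  rw [ev_snoc _ (by norm_num), ev_congr (g := snoc α 44 γ) (g' := α) (A := 2 ^ 33 + 2 ^ 11) (fun m hm => if_neg (by
    rintro rfl; exact absurd hm (by decide))) (by decide +kernel)] at h1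
  rw [ev_snoc _ (by norm_num), ev_letter _ (show 13 < 255 by norm_num), eb _ (by norm_num)] at h2
  refine ⟨mem_Cx.2 h1, mem_Cx.2 (by rwa [ev_letter _ (show 33 < 255 by norm_num)]), fun i => ?_⟩
  have := mem_nAllSub.1 ((ser_congr eb S.serB).inA_ext S.b1.eq chk_extB 24 (by decide +kernel)) i
  rwa [pcSub_congr eb, snoc, if_pos rfl] at this

end St1

end CfsgLib.E62.S38
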