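import Mathlib
import Cfsg.Agent.Lib.E62.SFactA

/-!
# The class of involutions of `2²⁰ : U₆(2)` with a centraliser of order prime to three
-/

set_option autoImplicit false
set_option maxRecDepth 100000

namespace CfsgLib.E62.S38

open Subgroup CfsgLib.Comput CfsgLib.FiTool CfsgLib.FiLoc CfsgLib.Tech CfsgLib.W2

variable {G : Type*} [Group G]

theorem card_ker_map {G' : Type*} [Group G'] (f : G →* G') (E : Subgroup G) :
    Nat.card E = Nat.card (E ⊓ f.ker : Subgroup G) * Nat.card (E.map f) := by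
  rw [← relIndex_ker, ← inf_relIndex_left, card_mul_relIndex' inf_le_left]

namespace St

variable [Finite G] {α : ℕ → G} {π : G →* G} (S : St α π)
include S

omit [Finite G] in
theorem nrm (g : G) {a : G} (ha : a ∈ pcSub α 20 0) : g * a * g⁻¹ ∈ pcSub α 20 0 := by
  rw [← S.ker] at ha ⊢
  exact π.normal_ker.conj_mem a ha g

omit [Finite G] in
theorem tinv : (ev α 34)⁻¹ = ev α 34 := inv_eq_of_mul_eq_one_right S.misc.2.1

omit [Finite G] S in
theorem eJ : ev α 0x220c = ev α 34 * α 11 := ev_app α 34 (j := 11) (by norm_num)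

/-- the commutator with `t` -/
def del : pcSub α 20 0 →* G := MonoidHom.mk' (fun a => ev α 34 * a * ev α 34 * a) fun a b => by
  have h1 := S.nrm (ev α 34) b.2
  rw [S.tinv] at h1
  have h2 := S.comm h1 a.2
  calc _ = ev α 34 * a * ((ev α 34 * ev α 34) * b * ev α 34 * a) * b := by rw [S.misc.2.1]; simp [mul_assoc]
    _ = ev α 34 * a * ev α 34 * (ev α 34 * b * ev α 34 * a) * b := by simp only [mul_assoc]
    _ = _ := by rw [h2]; simp only [mul_assoc]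

omit [Finite G] in
theorem del_let {j : ℕ} (hj : j < 20) :
    S.del ⟨α j, mem_pcSub α (Nat.zero_le _) hj⟩ = if j < 8 then α (12 + j) else 1 := by
  have h := S.a.eq _ (allLt_sound chk_del j hj)
  simp only [Eqn.Holds, evL_cons, evL_nil, mul_one, ev_letter α (show j < 255 by omega), ← mul_assoc] at h
  refine h.trans ?_
  split_ifs
  exacts [ev_letter _ (by omega), rfl]

omit [Finite G] in
theorem del_mem (j : ℕ) {a : pcSub α 20 0} (ha : (a : G) ∈ pcSub α 20 j) : S.del a ∈ pcSub α 20 (12 + j) := by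
  have : pcSub α 20 j ≤ ((pcSub α 20 (12 + j)).comap S.del).map (pcSub α 20 0).subtype := pcSub_le.2 fun l h1 h2 =>
    ⟨⟨α l, mem_pcSub α (Nat.zero_le _) h2⟩, by
      rw [SetLike.mem_coe, mem_comap, S.del_let h2]
      split_ifs
      exacts [mem_pcSub α (by omega) (by omega), one_mem _], rfl⟩
  obtain ⟨b, hb, e⟩ := this ha
  rwa [← Subtype.ext e]

theorem del_ker {a : pcSub α 20 0} (h : S.del a = 1) : (a : G) ∈ pcSub α 20 8 := by
  have : ∀ j ≤ 8, (a : G) ∈ pcSub α 20 j := fun j hj => by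
    induction j with
    | zero => exact a.2
    | succ j ih =>
      obtain ⟨k, hk, y, hy, e⟩ := S.serA.split (show j < 20 by omega) (ih (by omega))
      interval_cases k
      · simpa [e] using hy
      · have e1 : a = ⟨α j, mem_pcSub α (Nat.zero_le _) (by omega)⟩ * ⟨y, pcSub_anti α 20 (Nat.zero_le _) hy⟩ :=
          Subtype.ext (by simpa using e)
        rw [e1, map_mul, S.del_let (by omega), if_pos (by omega), mul_eq_one_iff_eq_inv] at h
        refine absurd ?_ (S.serA.not_mem Nat.prime_two S.card.ge (show 12 + j < 20 by omega) one_pos one_lt_two)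
        rw [pow_one, h]
        exact inv_mem (S.del_mem (j + 1) hy)
  exact this 8 le_rfl

omit [Finite G] in
theorem conj_cos {c b : G} (hc : c ∈ pcSub α 20 0) (hb : b ∈ pcSub α 20 12) :
    ∃ a, a * (ev α 0x220c * c) * a⁻¹ = ev α 0x220c * (c * b) := by
  have : pcSub α 20 12 ≤ S.del.range := pcSub_le.2 fun l h1 h2 =>
    ⟨_, (S.del_let (show l - 12 < 20 by omega)).trans (by rw [if_pos (by omega), Nat.add_sub_cancel' h1])⟩
  obtain ⟨a, rfl⟩ := this hb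
  have h1 := S.nrm (ev α 34) a.2
  rw [S.tinv] at h1
  have h2 := S.comm h1 (mul_mem (mem_pcSub α (Nat.zero_le 11) (by norm_num)) hc)
  refine ⟨a, ?_⟩
  rw [inv_eq_of_mul_eq_one_right (S.sq _ a.2), eJ]
  calc _ = (ev α 34 * ev α 34) * a * ev α 34 * (α 11 * c) * a := by rw [S.misc.2.1]; simp only [mul_assoc, one_mul]
    _ = ev α 34 * (ev α 34 * a * ev α 34 * (α 11 * c)) * a := by simp only [mul_assoc]
    _ = _ := by rw [h2]; simp only [del, MonoidHom.mk'_apply, mul_assoc]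

theorem mem8 {i : G} (hi : i ∈ pcSub α 20 0) (h : ev α 0x220c * i * (ev α 0x220c * i) = 1) : i ∈ pcSub α 20 8 := by
  have h1 := S.del_ker (a := ⟨α 11 * i, mul_mem (mem_pcSub α (Nat.zero_le 11) (by norm_num)) hi⟩)
    (by simpa only [del, MonoidHom.mk'_apply, eJ, mul_assoc] using h)
  exact (mul_mem_cancel_left (mem_pcSub α (show 8 ≤ 11 by norm_num) (by norm_num))).1 h1

theorem tcos {i : G} (hi : i ∈ pcSub α 20 0) (h : ev α 0x220c * i * (ev α 0x220c * i) = 1) :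
    ∃ m < 16, evL α (cw m) ∈ pcSub α 20 0 ∧ ∃ b ∈ pcSub α 20 12, i = evL α (cw m) * b := by
  obtain ⟨k0, h0, y0, hy0, rfl⟩ := S.serA.split (by norm_num) (S.mem8 hi h)
  obtain ⟨k1, h1, y1, hy1, rfl⟩ := S.serA.split (by norm_num) hy0
  obtain ⟨k2, h2, y2, hy2, rfl⟩ := S.serA.split (by norm_num) hy1
  obtain ⟨k3, h3, y3, hy3, rfl⟩ := S.serA.split (by norm_num) hy2
  have e : evL α (cw (k0 + 2 * k1 + 4 * k2 + 8 * k3)) = α 8 ^ k0 * (α 9 ^ k1 * (α 10 ^ k2 * α 11 ^ k3)) := by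
    have e8 : ev α 9 = α 8 := ev_letter α (by norm_num)
    have e9 : ev α 10 = α 9 := ev_letter α (by norm_num)
    have e10 : ev α 11 = α 10 := ev_letter α (by norm_num)
    have e11 : ev α 12 = α 11 := ev_letter α (by norm_num)
    interval_cases k0 <;> interval_cases k1 <;> interval_cases k2 <;> interval_cases k3 <;>
      simp [cw, evL_cons, evL_nil, ev_zero, e8, e9, e10, e11]
  refine ⟨k0 + 2 * k1 + 4 * k2 + 8 * k3, by omega, ?_, y3, hy3, by rw [e]; simp only [mul_assoc]⟩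
  have := fun j (hj : j < 20) k => (pcSub α 20 0).pow_mem (mem_pcSub α (Nat.zero_le j) hj) k
  rw [e]
  exact mul_mem (this _ (by norm_num) _) (mul_mem (this _ (by norm_num) _)
    (mul_mem (this _ (by norm_num) _) (this _ (by norm_num) _)))

omit [Finite G] in
theorem tc_fact {m : ℕ} (hm : m < 16) :
    (Good (ev α 0x220c * evL α (cw m)) ∨ ∃ u, u * (ev α 0x220c * evL α (cw m)) * u⁻¹ = ev α 0x220c) ∧
    (m = 0 ∨ Good (ev α 0x220c * evL α (cw m)) ∨
      Good (ev α 0x220c * (evL α (cw m) * (ev α rw0 * evL α (cw m) * (ev α rw0)⁻¹)))) := by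
  have h := allLt_sound chk_tc m hm
  generalize nth (0, 0, 0, 0, 0) tcs m = c at h
  simp only [tcOK, band_eq_true, FiType.bor_eq_true] at h
  obtain ⟨⟨h1, h2⟩, h3, h4⟩ := h
  have h1 := S.a.eq _ h1
  have h2 := S.a.eq _ h2
  have h3 := S.a.eq _ h3
  simp only [Eqn.Holds, evL_cons, evL_nil, evL_append, mul_one] at h1 h2 h3
  have g1 : ∀ i < 11, Good (ev α (nth 0 (good.map Prod.fst ++ [0x220c]) i)) := fun i hi => by
    rw [(by decide +kernel : ∀ i < 11, nth 0 (good.map Prod.fst ++ [0x220c]) i = nth 0 (good.map Prod.fst) i) i hi]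
    exact S.a.good_lw chk_good S.good_one i
  have h1 := mul_inv_eq_of_eq_mul h1
  have h3 := mul_inv_eq_of_eq_mul h3
  rw [← mul_inv_eq_of_eq_mul h2] at h3
  refine ⟨?_, h4.imp Nat.eq_of_beq_eq_true (Or.imp (fun h => (g1 _ (lt_of_blt h)).of_conj h1)
    fun h => (g1 _ (lt_of_blt h)).of_conj h3)⟩
  rcases nth_mem_or 0 (good.map Prod.fst ++ [0x220c]) c.2.1 with e | e
  · rcases List.mem_append.1 e with e | e
    · obtain ⟨g, hg, e⟩ := List.mem_map.1 e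
      exact .inl ((S.a.good (allL_sound chk_good g hg)).1.of_conj (e ▸ h1))
    · exact .inr ⟨_, h1.trans (congrArg _ (List.mem_singleton.1 e))⟩
  · exact .inl (S.good_one.of_conj (h1.trans (congrArg _ e)))

omit [Finite G] in
theorem pi_t : π (ev α 34) = ev α 34 ∧ π (ev α 0x220c) = ev α 34 ∧ ev α 34 ≠ 1 ∧ Good (ev α 34) := by
  have h : π (ev α 34) = ev α 34 := by rw [ev_letter α (m := 33) (by norm_num)]; exact S.fix 13
  have h1 : π (α 11) = 1 := by rw [← MonoidHom.mem_ker, S.ker]; exact mem_pcSub α (Nat.zero_le 11) (by norm_num)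
  exact ⟨h, by rw [eJ, map_mul, h, h1, mul_one], fun e => S.misc.2.2.1 (mem_Cx.2 (by simp [e])),
    S.a.good_lw chk_good S.good_one 5⟩

theorem inv_in {z : G} (h2 : z * z = 1) (h : π z ∈ pcSub (bt α) 15 0) :
    z ∈ pcSub α 20 0 ∨ Good z ∨ ∃ u, u * z * u⁻¹ = ev α 0x220c := by
  obtain ⟨k, hk, e⟩ := S.clsK h (by rw [← map_mul, h2, map_one])
  have e1 : π (k * z * k⁻¹) = k * π z * k⁻¹ := by rw [map_mul, map_mul, map_inv, S.fix_of_mem hk]
  have e2 : k * z * k⁻¹ * (k * z * k⁻¹) = 1 := by simpa using h2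
  rcases e with e | e | e | e
  · exact .inr (.inl ((S.good_tau e2 (e1.trans e)).of_conj rfl))
  · have h3 : (ev α 0x220c)⁻¹ * (k * z * k⁻¹) ∈ pcSub α 20 0 := by
      rw [← S.ker, MonoidHom.mem_ker, map_mul, map_inv, e1, e, S.pi_t.2.1, inv_mul_cancel]
    obtain ⟨m, hm, h4, b, hb, e3⟩ := S.tcos h3 (by rwa [mul_inv_cancel_left])
    obtain ⟨a, ha⟩ := S.conj_cos h4 hb
    rw [← e3, mul_inv_cancel_left] at ha
    have e4 : a⁻¹ * k * z * (a⁻¹ * k)⁻¹ = ev α 0x220c * evL α (cw m) := by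
      rw [show a⁻¹ * k * z * (a⁻¹ * k)⁻¹ = a⁻¹ * (k * z * k⁻¹) * a by group, ← ha]; group
    rcases (S.tc_fact hm).1 with h5 | ⟨u, hu⟩
    · exact .inr (.inl (h5.of_conj e4))
    · exact .inr (.inr ⟨u * (a⁻¹ * k), by rw [← hu, ← e4]; group⟩)
  · exact .inr (.inl ((S.good_c e2 (e1.trans e)).of_conj rfl))
  · exact .inl (S.ker ▸ (show π z = 1 by simpa [mul_eq_one_iff_eq_inv] using e))

omit [Finite G] in
theorem conj_t (hF : ∀ z, z * z = 1 → z ∈ pcSub α 20 0 ∨ Good z ∨ ∃ u, u * z * u⁻¹ = ev α 0x220c) {E : Subgroup G}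
    (h2 : ∀ x ∈ E, x * x = 1) (hg : ∀ x ∈ E, x ∉ pcSub α 20 0 → ¬ Good x) {x : G} (hx : x ∈ E.map π) (h1 : x ≠ 1) :
    ∃ k ∈ π.range, k * x * k⁻¹ = ev α 34 := by
  obtain ⟨y, hy, rfl⟩ := hx
  have h3 : y ∉ pcSub α 20 0 := fun h => h1 (by rwa [← S.ker] at h)
  obtain ⟨u, hu⟩ := ((hF y (h2 y hy)).resolve_left h3).resolve_left (hg y hy h3)
  exact ⟨π u, ⟨u, rfl⟩, by rw [← S.pi_t.2.1, ← hu, map_mul, map_mul, map_inv]⟩

theorem weak (hF : ∀ z, z * z = 1 → z ∈ pcSub α 20 0 ∨ Good z ∨ ∃ u, u * z * u⁻¹ = ev α 0x220c)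
    (hW : ∀ Q : Subgroup G, IsPGroup 2 Q → (∀ x ∈ Q, x ≠ 1 → ∃ k ∈ π.range, k * x * k⁻¹ = ev α 34) →
      Nat.card Q ≤ 2 ^ 8) {E : Subgroup G} (hJ : ev α 0x220c ∈ E) (h2 : ∀ x ∈ E, x * x = 1)
    (hg : ∀ x ∈ E, x ∉ pcSub α 20 0 → ¬ Good x) : Nat.card E < 2 ^ 20 := by
  have h3 := hW (E.map π) ((isPGroup_iff_mem.2 fun x hx => ⟨1, by rw [pow_one, pow_two, h2 x hx]⟩).map π)
    fun x hx => S.conj_t hF h2 hg hx
  have h4 := two_mul_card_le (H := E ⊓ π.ker) (K := pcSub α 20 8)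
    (fun i hi => S.mem8 (S.ker ▸ hi.2) (h2 _ (mul_mem hJ hi.1))) (mem_pcSub α (show 8 ≤ 11 by norm_num) (by norm_num))
    fun h => hg _ ((mul_mem_cancel_right (mem_inf.1 h).1).1 (eJ (α := α) ▸ hJ))
      (fun e => S.pi_t.2.2.1 (S.pi_t.1.symm.trans (by rwa [← S.ker] at e))) S.pi_t.2.2.2
  rw [S.serA.card_eq S.card.ge (by norm_num)] at h4
  rw [card_ker_map π E]
  calc _ ≤ 2 ^ 11 * 2 ^ 8 := Nat.mul_le_mul (by omega) h3
    _ < _ := by norm_num

theorem bar_le {Y : Subgroup G} (ht : ev α 34 ∈ Y) (h1 : Y ≤ pcSub (bt α) 15 1)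
    (hn : pcSub (bt α) 15 1 ≤ normalizer (Y : Set G)) (h2 : ∀ x ∈ Y, x * x = 1)
    (hp : ∀ x ∈ Y, ∀ u ∈ π.range, u * x * u⁻¹ ≠ ev α 35 ∧ u * x * u⁻¹ ≠ ev α 44) : Nat.card Y ≤ 4 := by
  have e15 := ev_bt α (show 14 < 200 by norm_num)
  have e24 := ev_bt α (show 23 < 200 by norm_num)
  have hK : ∀ w, ev (bt α) w ∈ π.range := ev_mem_of_all fun m => ⟨_, S.fix m⟩
  have h3 : Y ≤ pcSub (bt α) 15 11 := fun x hx => by
    obtain ⟨k, hk, i, e⟩ := S.serB.classes Nat.prime_two S.card0 S.b.eq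
      ((inA_rngA _ 15 1).mono (pcSub_le.2 fun k _ hk => mem_nAllSub.2 (S.serB.nall k hk))) (inA_rngA _ 15 1)
      (InA.zero _ _) _ chk_Y x (h1 hx) (by rw [ev_zero, one_mul, pow_two, h2 x hx])
    rw [ev_zero, one_mul] at e
    refine (mem_normalizer_iff.1 (S.serB.le_norm 1 11 hk) x).2 ?_
    have h4 := conj_mem_of_mem_normalizer (hn hk) hx
    rw [e, lw] at h4 ⊢
    rcases nth_mem_or 0 (ycs.map Prod.fst) i with e | e
    swap
    · rw [e]; exact one_mem _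
    obtain ⟨c, hc, e⟩ := List.mem_map.1 e
    rw [← e] at h4 ⊢
    have h5 := allL_sound chk_yc c hc
    simp only [ycOK, band_eq_true, FiType.bor_eq_true] at h5
    refine h5.elim (ev_mem (inA_rngA _ 15 11)) fun h5 => ?_
    have h6 : ev (bt α) c.2.2.1 ∈ Y := by
      rcases h5.1 with h | h
      · exact ev_mem (InA.single (m := 13) (by rwa [← ev_letter (bt α) (show 13 < 255 by norm_num), ev_bt α (by norm_num)])) h
      · rw [← mul_inv_eq_of_eq_mul (S.b.eq22 h.2)]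
        exact conj_mem_of_mem_normalizer (hn (ev_mem (inA_rngA _ 15 1) h.1)) h4
    have h7 := hp _ (mul_mem h4 h6) _ (hK c.2.2.2.1)
    rcases h5.2 with h | h <;> have h8 := S.b.eq _ h <;>
      simp only [Eqn.Holds, evL_cons, evL_nil, mul_one] at h8
    · exact absurd ((mul_inv_eq_of_eq_mul h8).trans e15) h7.1
    · exact absurd ((mul_inv_eq_of_eq_mul h8).trans e24) h7.2
  have h4 := card_mul_relIndex' h3
  rw [S.serB.card_eq S.card0 (by norm_num)] at h4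
  obtain ⟨h5, h6⟩ := band_eq_true.1 chk_five
  have h7 : ∀ c ∈ five, ev (bt α) c.1 ∈ pcSub (bt α) 15 11 ∧ ev (bt α) c.1 ∉ Y := fun c hc => by
    obtain ⟨h8, h9⟩ := band_eq_true.1 (allL_sound h5 c hc)
    exact ⟨ev_mem (inA_rngA _ 15 11) h8, fun h => (hp _ h _ (hK c.2)).1 ((mul_inv_eq_of_eq_mul (S.b.eq22 h9)).trans e15)⟩
  have h6 := S.b.eq _ h6
  simp only [five, List.forall_mem_cons, List.map, Eqn.Holds, evL_cons, evL_nil, mul_one] at h6 h7
  obtain ⟨⟨a1, b1⟩, ⟨a2, b2⟩, ⟨a3, b3⟩, ⟨a4, b4⟩, ⟨a5, b5⟩, -⟩ := h7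
  by_contra hc
  have h8 : Y.relIndex (pcSub (bt α) 15 11) ≤ 3 := by
    by_contra h
    have := Nat.mul_le_mul (show 5 ≤ Nat.card Y by omega) (show 4 ≤ Y.relIndex (pcSub (bt α) 15 11) by omega)
    omega
  have h9 : Y.relIndex (pcSub (bt α) 15 11) ≠ 1 := fun h => b1 (relIndex_eq_one.1 h a1)
  have h10 : Y.relIndex (pcSub (bt α) 15 11) = 2 := by
    generalize Y.relIndex (pcSub (bt α) 15 11) = n at *
    interval_cases n <;> omega
  have k : ∀ {a b}, a ∈ pcSub (bt α) 15 11 → b ∈ pcSub (bt α) 15 11 → a ∉ Y → b ∉ Y → a * b ∈ Y := fun ha hb h h' =>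
    (mul_mem_iff_of_index_two h10 (a := ⟨_, ha⟩) (b := ⟨_, hb⟩)).2 (iff_of_false h h')
  refine b1 ?_
  rw [eq_inv_of_mul_eq_one_left h6, ← mul_assoc]
  exact inv_mem (mul_mem (k a2 a3 b2 b3) (k a4 a5 b4 b5))

theorem strong (hF : ∀ z, z * z = 1 → z ∈ pcSub α 20 0 ∨ Good z ∨ ∃ u, u * z * u⁻¹ = ev α 0x220c) {T : Subgroup G}
    (hT : IsPGroup 2 T) (h1 : pcSub (bt α) 15 1 ≤ T) (hl : T ≤ (Cx (ev α 0x220c)).map π)
    (ht : ∀ x ∈ T, (∃ k ∈ π.range, k * x * k⁻¹ = ev α 34) → x ∈ pcSub (bt α) 15 1) :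
    ∃ R : Subgroup G, IsPGroup 2 R ∧ R ≤ Cx (ev α 0x220c) ∧ ev α 0x220c ∈ R ∧ 2 ^ 12 * Nat.card T ≤ Nat.card R ∧
      ∀ Y ≤ R, ev α 0x220c ∈ Y → R ≤ normalizer (Y : Set G) → (∀ x ∈ Y, x * x = 1) →
        (∀ x ∈ Y, x ∉ pcSub α 20 0 → ¬ Good x) → Nat.card Y ≤ 2 ^ 10 := by
  have hl' : T ≤ (Cx (ev α 0x220c) ⊓ T.comap π).map π := fun x hx => by
    obtain ⟨y, hy, rfl⟩ := hl hx
    exact ⟨y, ⟨hy, hx⟩, rfl⟩
  have t1 : ev α 34 ∈ pcSub (bt α) 15 1 := by
    rw [ev_letter α (m := 33) (by norm_num)]; exact mem_pcSub (bt α) (show 1 ≤ 13 by norm_num) (by norm_num)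
  refine ⟨Cx (ev α 0x220c) ⊓ T.comap π, (hT.comap_of_ker_isPGroup π (S.ker ▸ S.serA.isPGroup 0)).to_inf_right,
    inf_le_left, ⟨mem_Cx.2 rfl, mem_comap.2 (by rw [S.pi_t.2.1]; exact h1 t1)⟩, ?_,
    fun Y hY hJ hn h2 hg => ?_⟩
  · rw [card_ker_map π (_ ⊓ _), ← S.serA.card_eq S.card.ge (show 8 ≤ 20 by norm_num)]
    refine Nat.mul_le_mul (card_le_of_le (pcSub_le.2 fun j h3 h4 => ?_)) (card_le_of_le hl')
    have h5 := mem_pcSub α (Nat.zero_le j) h4
    have h6 : π (α j) = 1 := by rwa [← S.ker] at h5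
    refine ⟨⟨mem_Cx.2 ?_, mem_comap.2 (by rw [h6]; exact one_mem _)⟩, h6⟩
    have h7 : ev α 34 * α j * (ev α 34 * α j) = 1 := by
      simpa only [del, MonoidHom.mk'_apply, mul_assoc, if_neg (not_lt.2 h3)] using S.del_let h4
    have h8 := inv_eq_of_mul_eq_one_right h7
    rw [mul_inv_rev, S.tinv, inv_eq_of_mul_eq_one_right (S.sq _ h5)] at h8
    rw [eJ, ← mul_assoc, h8, mul_assoc, mul_assoc, S.comm h5 (mem_pcSub α (Nat.zero_le 11) (by norm_num))]
  have hJA : ∀ i ∈ pcSub α 20 0, ev α 0x220c * i ∉ pcSub α 20 0 := fun i hi h => S.pi_t.2.2.1 (by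
    rw [mul_mem_cancel_right hi, ← S.ker, MonoidHom.mem_ker, S.pi_t.2.1] at h; exact h)
  have h3 : Y ⊓ π.ker ≤ pcSub α 20 12 := fun i hi => by
    have hi' : i ∈ pcSub α 20 0 := S.ker ▸ hi.2
    obtain ⟨m, hm, h4, b, hb, e⟩ := S.tcos hi' (h2 _ (mul_mem hJ hi.1))
    obtain ⟨h5, h6⟩ := band_eq_true.1 chk_r
    obtain ⟨h5, h7⟩ := band_eq_true.1 h5
    have r1 : ev α rw0 ∈ pcSub (bt α) 15 1 := ev_mem (fun m hm => by
      have h8 : m < 35 := by
        by_contra h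
        rw [Nat.testBit_lt_two_pow ((show 2 ^ 35 - 2 ^ 21 < 2 ^ 35 by norm_num).trans_le
          (Nat.pow_le_pow_right two_pos (not_lt.1 h)))] at hm
        exact absurd hm (by simp)
      have h9 := (by decide +kernel : ∀ m < 35, (2 ^ 35 - 2 ^ 21).testBit m = true → 21 ≤ m) m h8 hm
      rw [show m = 20 + (m - 20) by omega]
      exact mem_pcSub (bt α) (by omega) (by omega)) h7
    have r2 := hn (show ev α rw0 ∈ _ from ⟨mem_Cx.2 (S.a.eq22 h6), mem_comap.2 (by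
      rw [S.fix_of_mem (S.pc_le 1 r1)]; exact h1 r1)⟩)
    rcases (S.tc_fact hm).2 with rfl | h | h
    · rw [e]; simpa [cw, evL_cons, evL_nil, ev_zero] using hb
    · obtain ⟨a, ha⟩ := S.conj_cos h4 hb
      exact absurd (h.of_conj (g := a⁻¹) (by rw [e, ← ha]; group)) (hg _ (mul_mem hJ hi.1) (hJA i hi'))
    · have r3 := conj_mem_of_mem_normalizer (mem_nAllSub.1 (ev_mem S.hU0 h5) 12) hb
      obtain ⟨a, ha⟩ := S.conj_cos (mul_mem h4 (S.nrm (ev α rw0) h4)) (mul_mem hb r3)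
      refine absurd (h.of_conj (g := a⁻¹) ?_) (hg _ (mul_mem hJ (mul_mem hi.1 (conj_mem_of_mem_normalizer r2 hi.1)))
        (hJA _ (mul_mem hi' (S.nrm _ hi'))))
      have e1 := S.comm (pcSub_anti α 20 (Nat.zero_le _) hb) (S.nrm (ev α rw0) h4)
      have e2 : i * (ev α rw0 * i * (ev α rw0)⁻¹) = evL α (cw m) * (ev α rw0 * evL α (cw m) * (ev α rw0)⁻¹) *
          (b * (ev α rw0 * b * (ev α rw0)⁻¹)) := by
        rw [mul_assoc (evL α _), ← mul_assoc _ b, ← e1, e]; group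
      rw [e2, ← ha]; group
  have h4 : Nat.card (Y.map π) ≤ 4 := by
    refine S.bar_le ⟨_, hJ, S.pi_t.2.1⟩ (fun x hx => ?_) (fun k hk => ?_) ?_ ?_
    · by_cases h : x = 1
      · rw [h]; exact one_mem _
      · exact ht x (map_le_iff_le_comap.2 (hY.trans inf_le_right) hx) (S.conj_t hF h2 hg hx h)
    · obtain ⟨y, hy, rfl⟩ := hl' (h1 hk)
      refine mem_normalizer_of_cj_le (cj_le_iff.2 ?_)
      rintro _ ⟨x, hx, rfl⟩
      exact ⟨_, conj_mem_of_mem_normalizer (hn hy) hx, by rw [map_mul, map_mul, map_inv]⟩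
    · rintro _ ⟨x, hx, rfl⟩
      rw [← map_mul, h2 x hx, map_one]
    · rintro _ ⟨x, hx, rfl⟩ u hu
      have e1 : π (u * x * u⁻¹) = u * π x * u⁻¹ := by rw [map_mul, map_mul, map_inv, S.fix_of_mem hu]
      have e2 : u * x * u⁻¹ * (u * x * u⁻¹) = 1 := by simpa using h2 x hx
      have e3 : ∀ {w}, w ≠ 1 → u * π x * u⁻¹ = w → x ∉ pcSub α 20 0 := fun hw e h => hw (by
        rw [← S.ker, MonoidHom.mem_ker] at h; rw [← e, h]; group)
      exact ⟨fun e => hg x hx (e3 S.misc.2.2.2.1 e) ((S.good_tau e2 (e1.trans e)).of_conj rfl),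
        fun e => hg x hx (e3 S.misc.2.2.2.2 e) ((S.good_c e2 (e1.trans e)).of_conj rfl)⟩
  have h5 := card_le_of_le h3
  rw [S.serA.card_eq S.card.ge (by norm_num)] at h5
  rw [card_ker_map π Y]
  exact (Nat.mul_le_mul h5 h4).trans (by norm_num)

end St

end CfsgLib.E62.S38
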