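import Mathlib
import Cfsg.Agent.Lib.E62.SFactB

/-!
# A split extension of a module of order `2²⁰` as a group of affine maps
-/

set_option autoImplicit false
set_option maxRecDepth 100000

namespace CfsgLib.E62.S38

open Finset Multiplicative Cfsg CfsgLib.Comput CfsgLib.FiTool CfsgLib.FiType CfsgLib.U62K

variable {G V : Type*} [Group G] [AddCommGroup V] [DistribMulAction G V]

/-- `G` is a split extension of the faithful module `V`; `π` is the projection onto the complement -/
structure Sd (π : G →* G) (tr : Multiplicative V →* G) : Prop where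
  two : ∀ v : V, v + v = 0
  inj : Function.Injective tr
  ker : π.ker = tr.range
  idem : ∀ x, π (π x) = π x
  conj : ∀ g v, g * tr (ofAdd v) * g⁻¹ = tr (ofAdd (g • v))
  faith : ∀ g, (∀ v : V, g • v = v) → π g = 1

/-- multiplication by an element of the field of order two -/
def sel (n : ZMod 2) (v : V) : V := if n = 0 then 0 else v

theorem actL_drop {D : Type} {R : D → G → Prop} {ML : List D} {g : ℕ → G} (h : ActL R ML g) (n : ℕ) :
    ActL R (ML.drop n) fun m => g (n + m) :=
  ⟨fun m hm => by rw [List.getElem_drop]; exact h.1 _ _, fun m hm => h.2 _ (by rw [List.length_drop] at hm; omega)⟩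

/-- the basis of the affine model -/
def eA (e : ℕ → V) : ℕ → V × ZMod 2 := snoc (fun k => (e k, 0)) 20 (0, 1)

theorem dec_eA (e : ℕ → V) (x : ℕ) : dec2 21 (eA e) x 0 = (dec2 20 e x 0, if x.testBit 20 then 1 else 0) := by
  rw [dec2, sum_range_succ, sum_congr rfl (g := fun k => ((if x.testBit (0 * 20 + k) then e k else 0), (0 : ZMod 2)))
    fun k hk => by rw [eA, snoc_lt _ (mem_range.1 hk)]; simp only [zero_mul, zero_add]; split_ifs <;> rfl]
  rw [← prod_mk_sum, eA, snoc, if_pos rfl, sum_const_zero, dec2]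
  simp only [zero_mul, zero_add]
  split_ifs <;> simp

namespace Sd

variable {π : G →* G} {tr : Multiplicative V →* G} (S : Sd π tr)
include S

theorem pi_tr (v : Multiplicative V) : π (tr v) = 1 := by
  rw [← MonoidHom.mem_ker, S.ker]; exact ⟨v, rfl⟩

theorem tr_smul (w : Multiplicative V) (v : V) : tr w • v = v := by
  have := S.conj (tr w) v
  rw [← map_mul, mul_comm, map_mul, mul_inv_cancel_right] at this
  exact (ofAdd.injective (S.inj this)).symm

theorem exists_aff : ∃ (c : G → V) (_ : DistribMulAction G (V × ZMod 2)), (∀ g, tr (ofAdd (c g)) = g * (π g)⁻¹) ∧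
    ∀ (g : G) v n, g • (v, n) = (g • v + sel n (c g), n) := by
  have h : ∀ g, ∃ v, tr (ofAdd v) = g * (π g)⁻¹ := fun g =>
    (show g * (π g)⁻¹ ∈ tr.range by rw [← S.ker, MonoidHom.mem_ker, map_mul, map_inv, S.idem, mul_inv_cancel])
  choose c hc using h
  have h1 : c 1 = 0 := ofAdd.injective (S.inj (by rw [hc]; simp))
  have hm : ∀ g h, c (g * h) = g • c h + c g := fun g h => ofAdd.injective (S.inj (by
    rw [ofAdd_add, map_mul tr, ← S.conj, hc, hc, hc, map_mul]; group))
  have z : ∀ n : ZMod 2, n = 0 ∨ n = 1 := by decide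
  refine ⟨c, { smul := fun g p => (g • p.1 + sel p.2 (c g), p.2), one_smul := fun p => ?a, mul_smul := fun g h p => ?b,
               smul_zero := fun g => ?c, smul_add := fun g p q => ?d }, hc, fun _ _ _ => rfl⟩
  case a =>
    change ((1 : G) • p.1 + sel p.2 (c 1), p.2) = p
    simp [h1, sel]
  · change ((g * h) • p.1 + sel p.2 (c (g * h)), p.2) = (g • (h • p.1 + sel p.2 (c h)) + sel p.2 (c g), p.2)
    rw [hm, sel, sel, sel]
    split_ifs <;> simp [mul_smul, add_assoc]
  · change (g • (0 : V) + sel 0 (c g), (0 : ZMod 2)) = 0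
    simp [sel]
  · change (g • (p.1 + q.1) + sel (p.2 + q.2) (c g), p.2 + q.2) =
      (g • p.1 + sel p.2 (c g) + (g • q.1 + sel q.2 (c g)), p.2 + q.2)
    rw [add_add_add_comm, smul_add]
    rcases z p.2 with h | h <;> rcases z q.2 with h' | h' <;> rw [h, h'] <;>
      simp [sel, S.two, show (1 + 1 : ZMod 2) = 0 from rfl]

theorem two' (p : V × ZMod 2) : p + p = 0 := Prod.ext (S.two _) (CharTwo.add_self_eq_zero _)

section
variable {c : G → V} [DistribMulAction G (V × ZMod 2)] (hc : ∀ g, tr (ofAdd (c g)) = g * (π g)⁻¹)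
  (hs : ∀ (g : G) v n, g • (v, n) = (g • v + sel n (c g), n)) {e : ℕ → V}
include hc hs

theorem act_lin {M : List ℕ} {g : G} (h : Act2 20 e M g) (hg : π g = g) : Act2 21 (eA e) (M ++ [2 ^ 20]) g := by
  have h0 : c g = 0 := ofAdd.injective (S.inj (by rw [hc, hg]; simp))
  refine ⟨by rw [List.length_append, h.1]; rfl, fun x hx => ?_, fun k hk => ?_⟩
  · rcases List.mem_append.1 hx with hx | hx
    · exact (h.2.1 x hx).trans (by norm_num)
    · rw [List.mem_singleton.1 hx]; norm_num
  · rcases Nat.lt_succ_iff_lt_or_eq.1 hk with hk | rfl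
    · have h1 : k < M.length := h.1 ▸ hk
      rw [List.getD_append _ _ _ _ h1, dec_eA, eA, snoc_lt _ hk, hs, h0, h.2.2 k hk, List.getD_eq_getElem _ _ h1,
        Nat.testBit_lt_two_pow (h.2.1 _ (List.getElem_mem h1))]
      simp [sel]
    · rw [List.getD_append_right _ _ _ _ h.1.le, h.1, Nat.sub_self, List.getD_cons_zero, dec2_two_pow _ hk, eA, snoc,
        if_pos rfl, hs, h0]
      simp [sel]

theorem tr_base (v : V) : tr (ofAdd v) • ((0, 1) : V × ZMod 2) = (v, 1) := by
  rw [hs, smul_zero, zero_add, sel, if_neg one_ne_zero,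
    ofAdd.injective (S.inj ((hc _).trans (by rw [S.pi_tr, inv_one, mul_one])))]

omit hc hs [DistribMulAction G (V × ZMod 2)] in
theorem dec_base {f : ℕ} (hf : f < 2 ^ 20) : dec2 21 (eA e) (2 ^ 20 ^^^ f) 0 = (dec2 20 e f 0, 1) := by
  rw [dec2_xor S.two', dec2_two_pow _ (by norm_num), dec_eA, Nat.testBit_lt_two_pow hf, eA, snoc, if_pos rfl]
  simp

theorem act_tr {f : ℕ} (hf : f < 2 ^ 20) :
    Act2 21 (eA e) ((List.range 20).map (2 ^ ·) ++ [2 ^ 20 ^^^ f]) (tr (ofAdd (dec2 20 e f 0))) := by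
  refine ⟨by simp, fun x hx => ?_, fun k hk => ?_⟩
  · rcases List.mem_append.1 hx with hx | hx
    · obtain ⟨k, hk, rfl⟩ := List.mem_map.1 hx
      exact Nat.pow_lt_pow_right one_lt_two (by have := List.mem_range.1 hk; omega)
    · rw [List.mem_singleton.1 hx]
      exact Nat.xor_lt_two_pow (by norm_num) (hf.trans (by norm_num))
  · rcases Nat.lt_succ_iff_lt_or_eq.1 hk with hk' | rfl
    · rw [List.getD_append _ _ _ _ (by simpa using hk'), List.getD_eq_getElem _ _ (by simpa using hk'), List.getElem_map,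
        List.getElem_range, dec2_two_pow _ hk, eA, snoc_lt _ hk', hs, S.tr_smul]
      simp [sel]
    · rw [List.getD_append_right _ _ _ _ (by simp), show 20 - ((List.range 20).map (2 ^ ·)).length = 0 by simp,
        List.getD_cons_zero, S.dec_base hf, eA, snoc, if_pos rfl, S.tr_base hc hs]

theorem mdl (hi : ∀ {x y}, dec2 20 e x 0 = dec2 20 e y 0 → x % 2 ^ 20 = y % 2 ^ 20) (hj : ∀ v, ∃ x, dec2 20 e x 0 = v)
    {ML : List (List ℕ)} {g : ℕ → G} (hL : ActL (Act2 21 (eA e)) ML g) : Mdl ML g := by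
  refine ⟨fun _ h => (wm2 S.two' (by norm_num) hL (MonoidHom.id G) fun a h => ?_).holds h, fun w x h h1 => ?_⟩
  · have h1 := S.faith a fun v => by
      obtain ⟨x, rfl⟩ := hj v
      rw [dec2, smul_sum]
      refine sum_congr rfl fun k hk => ?_
      have := h k ((mem_range.1 hk).trans (by norm_num))
      rw [eA, snoc_lt _ (mem_range.1 hk), hs] at this
      split_ifs
      exacts [by simpa [sel] using this, smul_zero _]
    have h2 := h 20 (by norm_num)
    rw [eA, snoc, if_pos rfl, hs] at h2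
    have h3 := hc a
    rw [show c a = 0 by simpa [sel] using h2, h1] at h3
    simpa using h3.symm
  · have h2 := smul_dec2_actL S.two' (by norm_num) hL [w] x
    change _ = dec2 21 _ (act (stepL (ap 21) ML) w x) 0 at h2
    rw [evL_one, h1, one_smul, dec_eA, dec_eA, Prod.mk.injEq] at h2
    have h3 : act (stepL (ap 21) ML) w x % 2 ^ 21 = x % 2 ^ 21 := Nat.eq_of_testBit_eq fun i => by
      have h4 := congrArg (·.testBit i) (hi h2.1)
      simp only [Nat.testBit_mod_two_pow] at h4 ⊢
      rcases lt_trichotomy i 20 with h5 | rfl | h5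
      · simpa [h5, show i < 21 by omega] using h4.symm
      · have h6 := h2.2
        revert h6
        cases x.testBit 20 <;> cases (act (stepL (ap 21) ML) w x).testBit 20 <;> simp
      · simp [show ¬ i < 21 by omega]
    rw [neM, show Nat.beq _ _ = true from Nat.beq_eq ▸ h3] at h
    exact absurd h (by simp)

end

variable {F : Type*} [Field F] [Fintype F] {ω : F} (C : Ctx ω) {ι : SU 6 F 2 →* G}

theorem exists_St [Finite V] (hV : Nat.card V = 2 ^ 20) (hι : ∀ s, π (ι s) = ι s) (hz : ι.ker = Subgroup.center _) :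
    ∃ α, St α π ∧ (∀ m < 8, α (35 + m) = ι (g8 C m)) ∧ (∀ m, bt α m ∈ ι.range) ∧
      ∀ γ, π γ = γ → (∀ s s' : SU 6 F 2, (∀ v : Fin 6 → F, s' • (fun i => v i ^ 2) = fun i => (s • v) i ^ 2) →
        γ * ι s = ι s' * γ) → St1 α π γ := by
  obtain ⟨e, h1, hi, hj, hγ⟩ := exists_mod C S.two hV hz.ge fun g h => hz.le ((hι g).symm.trans (S.faith _ h))
  obtain ⟨c, _, hc, hs⟩ := S.exists_aff
  have h2 : ActL (Act2 21 (eA e)) gens1 fun m => ι (g8 C m) := by
    rw [chk_gens1.1]
    exact ⟨fun m hm => by rw [List.getElem_map]; exact S.act_lin hc hs (h1.1 m _) (hι _),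
      fun m hm => h1.2 m (by rwa [List.length_map] at hm)⟩
  have h3 := staged2 S.two' (by norm_num) h2 chk_defs1
  obtain ⟨α, hα⟩ : ∃ α : ℕ → G, ∀ m, α m = if m < 20 then tr (ofAdd (dec2 20 e (flag.getD m 0) 0)) else if m < 44 then
    letters (fun m => ι (g8 C m)) defs1 (if m < 35 then m - 12 else if m < 43 then m - 35 else 23) else 1 := ⟨_, fun _ => rfl⟩
  have h4 : ActL (Act2 21 (eA e)) MLa α := by
    refine ⟨fun m hm => ?_, fun m hm => by
      change 44 ≤ m at hm; rw [hα, if_neg (by omega), if_neg (not_lt.2 hm)]⟩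
    have hm' : m < 44 := hm
    rw [← List.getD_eq_getElem _ [] hm, chk_MLa m hm', hα, if_pos hm']
    split_ifs with h
    · exact S.act_tr hc hs (chk_flag m h)
    all_goals
      rw [List.getD_eq_getElem _ _ (by change _ < 24; omega)]
      exact h3.1 _ _
  have h5 : ActL (Act2 21 (eA e)) MLb (bt α) := actL_drop h4 20
  have h6 : ∀ m, bt α m ∈ ι.range := fun m => by
    rw [bt, hα, if_neg (by omega)]
    split_ifs
    any_goals exact letters_mem (K := ι.range) (fun j => ⟨g8 C j, rfl⟩) _ _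
    exact one_mem _
  have h7 : pcSub α 20 0 ≤ tr.range := pcSub_le.2 fun j _ h => by rw [hα, if_pos h]; exact ⟨_, rfl⟩
  have h8 : pcSub α 20 0 = tr.range := h7.antisymm (by
    rintro _ ⟨v, rfl⟩
    obtain ⟨x, hx⟩ := hj v.toAdd
    rw [← ofAdd_toAdd v, ← hx, dec2]
    refine sum_induction _ (fun v => tr (ofAdd v) ∈ pcSub α 20 0) (fun a b ha hb => by
      rw [ofAdd_add, map_mul]; exact mul_mem ha hb) (by simp) fun k hk => ?_
    split_ifs
    swap
    · simp
    obtain ⟨h9, h10⟩ := band_eq_true.1 (allLt_sound chk_bas k (mem_range.1 hk))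
    have h9 := ev_mem (inA_rngA α 20 0) h9
    obtain ⟨u, hu⟩ := h7 h9
    have h11 := smul_dec2_actL S.two' (by norm_num) h4 [nth 0 basW k] (2 ^ 20)
    change _ = dec2 21 _ (act (stepL (ap 21) MLa) (nth 0 basW k) (2 ^ 20)) 0 at h11
    rw [Nat.eq_of_beq_eq_true h10, evL_one, ← hu, dec2_two_pow _ (by norm_num), eA, snoc, if_pos rfl, ← ofAdd_toAdd u,
      S.tr_base hc hs] at h11
    have h12 := (h11.trans (S.dec_base (f := 2 ^ k) (Nat.pow_lt_pow_right one_lt_two (mem_range.1 hk))))
    rw [dec2_two_pow _ (mem_range.1 hk), Prod.mk.injEq] at h12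
    rwa [← h12.1, ofAdd_toAdd, hu])
  have T : St α π := ⟨S.mdl hc hs hi hj h4, S.mdl hc hs hi hj h5,
    by rw [h8, ← hV]; exact (Nat.card_congr (MonoidHom.ofInjective S.inj).toEquiv).symm,
    by rw [h8]; rintro _ ⟨v, rfl⟩; rw [← map_mul, ← ofAdd_toAdd v, ← ofAdd_add, S.two]; simp,
    h8 ▸ S.ker, S.idem, fun m => by obtain ⟨s, e⟩ := h6 m; rw [← e, hι]⟩
  refine ⟨α, T, fun m hm => ?_, h6, fun γ h9 h10 => ?_⟩
  · rw [hα, if_neg (by omega), if_pos (by omega), if_neg (by omega), if_pos (by omega), Nat.add_sub_cancel_left]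
    exact letters_gen _ (by interval_cases m <;> rfl)
  have h11 := chk_gens1.2 ▸ S.act_lin hc hs (hγ γ h10) h9
  exact ⟨T, S.mdl hc hs hi hj (actL_snoc h4 h11), S.mdl hc hs hi hj (actL_snoc h5 h11), h9⟩

end Sd

end CfsgLib.E62.S38
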