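import Mathlib
import Cfsg.Agent.Lib.Comput.Lin2

/-!
# Weight spaces of the monomial group `3⁴ : S₆` on a module of order `2²⁰`
-/

set_option autoImplicit false

namespace CfsgLib.E62.S38

open Finset Equiv CfsgLib.Comput

/-- exponent vectors -/
abbrev A6 : Type := Fin 6 → ZMod 3

variable {K V : Type*} [Group K] [AddCommGroup V] [DistribMulAction K V]

/-- `1 + g + g²` -/
def tr3 (g : K) (v : V) : V := v + g • v + g • g • v

theorem tr3_add (g : K) (v w : V) : tr3 g (v + w) = tr3 g v + tr3 g w := by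
  simp only [tr3, smul_add]; abel

theorem tr3_zero (g : K) : tr3 g (0 : V) = 0 := by simp [tr3]

theorem smul_tr3 {g h : K} (e : h * g = g * h) (v : V) : h • tr3 g v = tr3 g (h • v) := by
  have : ∀ w : V, h • g • w = g • h • w := fun w => by rw [← mul_smul, e, mul_smul]
  simp only [tr3, smul_add, this]

theorem tr3_fix (h2 : ∀ v : V, v + v = 0) {g : K} {v : V} (h : g • v = v) : tr3 g v = v := by
  rw [tr3, h, h, h2, zero_add]

theorem smul_tr3_self {g : K} (h : g * g * g = 1) (v : V) : g • tr3 g v = tr3 g v := by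
  simp only [tr3, smul_add, ← mul_smul, ← mul_assoc, h, one_smul]; abel

/-- the diagonal and the permutation part of the monomial group -/
structure ND (D : A6 → K) (P : Perm (Fin 6) →* K) : Prop where
  add : ∀ a b, ∑ i, a i = 0 → ∑ i, b i = 0 → D (a + b) = D a * D b
  one : D 1 = 1
  pd : ∀ σ a, ∑ i, a i = 0 → D a * P σ = P σ * D (a ∘ σ)

/-- the weight space of `c` -/
def Wt (D : A6 → K) (V : Type*) [AddCommGroup V] [DistribMulAction K V] (c : A6) : AddSubgroup V where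
  carrier := {v | ∀ a : A6, ∑ i, a i = 0 → (c ⬝ᵥ a = 0 → D a • v = v) ∧ (c ⬝ᵥ a ≠ 0 → tr3 (D a) v = 0)}
  add_mem' := fun hu hv a ha => ⟨fun h => by rw [smul_add, (hu a ha).1 h, (hv a ha).1 h],
    fun h => by rw [tr3_add, (hu a ha).2 h, (hv a ha).2 h, add_zero]⟩
  zero_mem' := fun a _ => ⟨fun _ => smul_zero _, fun _ => tr3_zero _⟩
  neg_mem' := fun {v} hu a ha => ⟨fun h => by rw [smul_neg, (hu a ha).1 h], fun h => by
    have := (hu a ha).2 h
    simp only [tr3, smul_neg] at this ⊢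
    rw [← neg_add, ← neg_add, this, neg_zero]⟩

/-- `e_i - e_j` -/
def ee (i j : Fin 6) : A6 := Pi.single i 1 - Pi.single j 1

theorem sum_ee (i j : Fin 6) : ∑ k, ee i j k = 0 := by simp [ee, sum_sub_distrib]

theorem dot_ee (c : A6) (i j : Fin 6) : c ⬝ᵥ ee i j = c i - c j := by simp [ee, dotProduct_sub]

theorem sum_comp {a : A6} (h : ∑ i, a i = 0) (σ : Perm (Fin 6)) : ∑ i, (a ∘ σ) i = 0 :=
  (Equiv.sum_comp σ a).trans h

theorem sum_add' {a b : A6} (h : ∑ i, a i = 0) (h' : ∑ i, b i = 0) : ∑ i, (a + b) i = 0 := by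
  simp [sum_add_distrib, h, h']

theorem sum_smul' {a : A6} (h : ∑ i, a i = 0) (k : ZMod 3) : ∑ i, (k • a) i = 0 := by
  simp [← mul_sum, h]

/-- the weights `c` and `c'` have different kernels -/
def Sep (c c' : A6) : Prop := ∃ i j, c i = c j ∧ c' i ≠ c' j

instance (c c' : A6) : Decidable (Sep c c') := inferInstanceAs (Decidable (∃ _ _, _))

theorem indep (h2 : ∀ v : V, v + v = 0) {D : A6 → K} {ι : Type*} [DecidableEq ι] {c : ι → A6}
    (hc : ∀ i j, i ≠ j → Sep (c i) (c j)) (s : Finset ι) {y : ι → V} (hy : ∀ i, y i ∈ Wt D V (c i))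
    (h : ∑ i ∈ s, y i = 0) : ∀ i ∈ s, y i = 0 := by
  induction s using Finset.strongInduction with
  | H s ih =>
    intro i hi
    by_cases h1 : ∃ j ∈ s, j ≠ i
    · obtain ⟨j, hj, hji⟩ := h1
      obtain ⟨p, q, e1, e2⟩ := hc i j hji.symm
      have h3 : ∀ t : Finset ι, tr3 (D (ee p q)) (∑ l ∈ t, y l) = ∑ l ∈ t with c l p = c l q, y l := by
        intro t
        induction t using Finset.induction_on with
        | empty => simp [tr3_zero]
        | insert l t hl iht =>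
          rw [sum_insert hl, tr3_add, iht, filter_insert]
          split_ifs with h4
          · rw [sum_insert (fun h5 => hl (mem_filter.1 h5).1),
              tr3_fix h2 ((hy l _ (sum_ee p q)).1 (by rw [dot_ee, h4, sub_self]))]
          · rw [(hy l _ (sum_ee p q)).2 (by rwa [dot_ee, sub_ne_zero]), zero_add]
      refine ih _ (filter_ssubset.2 ⟨j, hj, e2⟩) (by rw [← h3, h, tr3_zero]) i (mem_filter.2 ⟨hi, e1⟩)
    · push Not at h1
      rwa [sum_eq_single_of_mem i hi fun j hj hji => absurd (h1 j hj) hji] at h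

namespace ND

variable {D : A6 → K} {P : Perm (Fin 6) →* K} (N : ND D P)
include N

theorem zero : D 0 = 1 := by
  have := N.add 0 0 (by simp) (by simp)
  rwa [add_zero, left_eq_mul] at this

theorem comm {a b : A6} (ha : ∑ i, a i = 0) (hb : ∑ i, b i = 0) : D a * D b = D b * D a := by
  rw [← N.add a b ha hb, add_comm, N.add b a hb ha]

theorem cube {a : A6} (ha : ∑ i, a i = 0) : D a * D a * D a = 1 := by
  rw [← N.add a a ha ha, ← N.add _ a (sum_add' ha ha) ha, ← N.zero]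
  congr 1
  funext i
  have : ∀ x : ZMod 3, x + x + x = 0 := by decide
  exact this _

theorem mem_D {c b : A6} (hb : ∑ i, b i = 0) {v : V} (h : v ∈ Wt D V c) : D b • v ∈ Wt D V c := fun a ha =>
  ⟨fun e => by rw [← mul_smul, N.comm ha hb, mul_smul, (h a ha).1 e],
    fun e => by rw [← smul_tr3 (N.comm hb ha), (h a ha).2 e, smul_zero]⟩

theorem mem_P {c c' : A6} {σ : Perm (Fin 6)} (hc : c' ∘ σ = c) {v : V} (h : v ∈ Wt D V c) : P σ • v ∈ Wt D V c' := by
  intro a ha
  have e : c' ⬝ᵥ a = c ⬝ᵥ (a ∘ σ) := by rw [← hc]; exact (Equiv.sum_comp σ fun i => c' i * a i).symm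
  have e1 : ∀ w : V, D a • P σ • w = P σ • D (a ∘ σ) • w := fun w => by rw [← mul_smul, N.pd σ a ha, mul_smul]
  rw [e]
  refine ⟨fun h1 => by rw [e1, (h _ (sum_comp ha σ)).1 h1], fun h1 => ?_⟩
  rw [tr3, e1, e1, ← smul_add, ← smul_add]
  exact (congrArg _ ((h _ (sum_comp ha σ)).2 h1)).trans (smul_zero _)

theorem same {c a b : A6} (ha : ∑ i, a i = 0) (hb : ∑ i, b i = 0) (e : c ⬝ᵥ a = c ⬝ᵥ b) {v : V}
    (h : v ∈ Wt D V c) : D a • v = D b • v := by
  have h1 : ∑ i, (a - b) i = 0 := by simp [sum_sub_distrib, ha, hb]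
  rw [← add_sub_cancel b a, N.add _ _ hb h1, mul_smul, (h _ h1).1 (by rw [dotProduct_sub, e, sub_self])]

theorem step (h2 : ∀ v : V, v + v = 0) {a b : A6} (ha : ∑ i, a i = 0) (hb : ∑ i, b i = 0) {v : V} (h0 : v ≠ 0)
    (hv : tr3 (D a) v = 0) : ∃ k : ZMod 3, tr3 (D (b + k • a)) v ≠ 0 := by
  by_contra hn
  push Not at hn
  have e0 := hn 0
  have e1 := hn 1
  have e2 := hn (1 + 1)
  have c1 : ∀ w : V, D a • D b • w = D b • D a • w := fun w => by rw [← mul_smul, N.comm ha hb, mul_smul]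
  have c2 : D a • D a • D a • v = v := by rw [← mul_smul, ← mul_smul, N.cube ha, one_smul]
  rw [add_smul, ← add_assoc] at e2
  simp only [zero_smul, one_smul, add_zero, tr3, N.add _ _ hb ha, N.add _ _ (sum_add' hb ha) ha, mul_smul, c1,
    c2] at e0 e1 e2
  have e3 := congrArg (D b • ·) hv
  have e4 := congrArg (D b • D b • ·) hv
  simp only [tr3, smul_add, smul_zero] at e3 e4
  refine h0 ?_
  have e5 := h2 v
  linear_combination (norm := abel) e0 + e1 + e2 - e3 - e4 - e5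

theorem exists_wt (h2 : ∀ v : V, v + v = 0) (hne : ∃ v : V, D (ee 0 1) • v ≠ v) :
    ∃ (c : A6) (v : V), v ≠ 0 ∧ v ∈ Wt D V c ∧ c 0 ≠ c 1 := by
  have ha := sum_ee 0 1
  have key : ∀ s : Finset (Fin 6), ∃ v : V, v ≠ 0 ∧ tr3 (D (ee 0 1)) v = 0 ∧
      ∀ i ∈ s, ∃ k : ZMod 3, D (ee i 0 + k • ee 0 1) • v = v := by
    intro s
    induction s using Finset.induction_on with
    | empty =>
      obtain ⟨w, hw⟩ := hne
      refine ⟨w + D (ee 0 1) • w, fun h => hw ?_, ?_, by simp⟩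
      · rw [← add_left_cancel_iff (a := w), h, h2]
      · rw [tr3_add, ← smul_tr3 rfl, smul_tr3_self (N.cube ha), h2]
    | insert i s _ ih =>
      obtain ⟨v, h0, h1, h3⟩ := ih
      obtain ⟨k, hk⟩ := N.step h2 ha (sum_ee i 0) h0 h1
      have hs := fun (i : Fin 6) k => sum_add' (sum_ee i 0) (sum_smul' ha k)
      refine ⟨_, hk, ?_, fun j hj => ?_⟩
      · simp only [tr3, smul_add] at h1 ⊢
        have c1 : ∀ w : V, D (ee 0 1) • D (ee i 0 + k • ee 0 1) • w = D (ee i 0 + k • ee 0 1) • D (ee 0 1) • w :=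
          fun w => by rw [← mul_smul, N.comm ha (hs i k), mul_smul]
        have e3 := congrArg (D (ee i 0 + k • ee 0 1) • ·) h1
        have e4 := congrArg (D (ee i 0 + k • ee 0 1) • D (ee i 0 + k • ee 0 1) • ·) h1
        simp only [smul_add, smul_zero, c1] at e3 e4 ⊢
        linear_combination (norm := abel) h1 + e3 + e4
      · rcases mem_insert.1 hj with rfl | hj
        · exact ⟨k, smul_tr3_self (N.cube (hs j k)) v⟩
        · obtain ⟨l, hl⟩ := h3 j hj
          exact ⟨l, by rw [smul_tr3 (N.comm (hs j l) (hs i k)), hl]⟩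
  obtain ⟨v, h0, h1, h3⟩ := key univ
  choose k hk using fun i => h3 i (mem_univ i)
  let Z : AddSubgroup A6 :=
    { carrier := {m | ∑ i, m i = 0 ∧ D m • v = v}
      add_mem' := fun hu hv => ⟨sum_add' hu.1 hv.1, by rw [N.add _ _ hu.1 hv.1, mul_smul, hv.2, hu.2]⟩
      zero_mem' := ⟨by simp, by rw [N.zero, one_smul]⟩
      neg_mem' := fun {m} hu => ⟨by simp [hu.1], by
        have : ∑ i, (-m) i = 0 := by simp [hu.1]
        conv_lhs => rw [← hu.2]
        rw [← mul_smul, ← N.add _ _ this hu.1, neg_add_cancel, N.zero, one_smul]⟩ }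
  have h4 : ∀ b : A6, ∑ i, b i = 0 → D b • v = D (((-k) ⬝ᵥ b) • ee 0 1) • v := fun b hb => by
    have h5 : ∑ i, b i • (ee i 0 + k i • ee 0 1) ∈ Z :=
      Z.sum_mem fun i _ => ZMod.smul_mem (show _ ∈ Z from ⟨sum_add' (sum_ee i 0) (sum_smul' ha _), hk i⟩) _
    have h6 : b = ((-k) ⬝ᵥ b) • ee 0 1 + ∑ i, b i • (ee i 0 + k i • ee 0 1) := by
      have h7 : ∑ i, b i • ee i 0 = b := by
        simp only [ee, smul_sub, sum_sub_distrib]
        rw [← sum_smul, hb, zero_smul, sub_zero]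
        simp only [← Pi.single_smul', smul_eq_mul, mul_one, univ_sum_single]
      rw [neg_dotProduct, neg_smul]
      simp only [smul_add, sum_add_distrib, smul_smul, ← sum_smul, dotProduct, mul_comm (b _), h7]
      abel
    conv_lhs => rw [h6]
    rw [N.add _ _ (sum_smul' ha _) h5.1, mul_smul, h5.2]
  have h5 : v ∈ Wt D V (-k) := fun b hb => by
    refine ⟨fun e => by rw [h4 b hb, e, zero_smul, N.zero, one_smul], fun e => ?_⟩
    have h6 : D b • D b • v = D (((-k) ⬝ᵥ b) • ee 0 1) • D (((-k) ⬝ᵥ b) • ee 0 1) • v := by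
      rw [h4 b hb, ← mul_smul, N.comm hb (sum_smul' ha _), mul_smul, h4 b hb]
    rw [tr3, h6, h4 b hb]
    rcases (by decide : ∀ x : ZMod 3, x ≠ 0 → x = 1 ∨ x = 1 + 1) _ e with e | e <;> rw [e]
    · rw [one_smul]; exact h1
    · rw [add_smul, one_smul, N.add _ _ ha ha]
      simp only [← mul_smul, ← mul_assoc, N.cube ha, one_mul]
      rw [add_right_comm, mul_smul]
      exact h1
  refine ⟨-k, v, h0, h5, fun e => h0 ?_⟩
  rw [← tr3_fix h2 ((h5 _ ha).1 (by rw [dot_ee, e, sub_self])), h1]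

theorem card_pow_le [Finite V] (h2 : ∀ v : V, v + v = 0) {c : A6} {n : ℕ} {σ : Fin n → Perm (Fin 6)}
    (hs : ∀ i j, i ≠ j → Sep (c ∘ σ i) (c ∘ σ j)) : Nat.card (Wt D V c) ^ n ≤ Nat.card V := by
  have := Nat.card_le_card_of_injective (fun y : Fin n → Wt D V c => ∑ i, P (σ i)⁻¹ • (y i : V)) fun y z h => by
    have h1 : ∑ i, P (σ i)⁻¹ • ((y i - z i : Wt D V c) : V) = 0 := by
      simp only [AddSubgroupClass.coe_sub, smul_sub, sum_sub_distrib]; exact sub_eq_zero.2 h
    have h3 := indep h2 hs univ (fun i => N.mem_P (by funext x; simp) (y i - z i).2) h1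
    funext i
    exact sub_eq_zero.1 (Subtype.ext ((smul_eq_zero_iff_eq _).1 (h3 i (mem_univ i))))
  rwa [Nat.card_fun, Nat.card_eq_fintype_card (α := Fin n), Fintype.card_fin] at this

theorem four (h2 : ∀ v : V, v + v = 0) {a : A6} (ha : ∑ i, a i = 0) {v : V} (h0 : v ≠ 0) (h1 : tr3 (D a) v = 0) :
    D a • v ≠ 0 ∧ D a • v ≠ v ∧ D a • D a • v = v + D a • v ∧ D a • (v + D a • v) = v := by
  have h3 : D a • D a • v = v + D a • v := by
    rw [← add_left_cancel_iff (a := v + D a • v), h2]; exact h1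
  refine ⟨(smul_ne_zero_iff_ne _).2 h0, fun e => h0 (by rw [← tr3_fix h2 e, h1]), h3, ?_⟩
  rw [← h3, ← mul_smul, ← mul_smul, N.cube ha, one_smul]

theorem card_four (h2 : ∀ v : V, v + v = 0) {a : A6} (ha : ∑ i, a i = 0) {v : V} (h0 : v ≠ 0)
    (h1 : tr3 (D a) v = 0) : ({0, v, D a • v, v + D a • v} : Set V).ncard = 4 := by
  obtain ⟨h3, h4, -, h5⟩ := N.four h2 ha h0 h1
  have h6 : v + D a • v ≠ 0 := fun e => h0 (by rw [← h5, e, smul_zero])
  refine Set.ncard_eq_four.2 ⟨_, _, _, _, h0.symm, h3.symm, h6.symm, h4.symm, ?_, ?_, rfl⟩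
  · simpa using h3
  · simpa using h0

end ND

end CfsgLib.E62.S38
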