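import Mathlib
import Cfsg.Agent.Lib.E62.SWt

/-!
# A basis of a module of order `2²⁰` for the monomial group `3⁴ : S₆`
-/

set_option autoImplicit false

namespace CfsgLib.E62.S38

open Finset Equiv CfsgLib.Comput

variable {K V : Type*} [Group K] [AddCommGroup V] [DistribMulAction K V]

/-- the weight of `e₀ ∧ e₁ ∧ e₂` -/
def c0 : A6 := ![1, 1, 1, 0, 0, 0]

/-- eleven permutations -/
def L11 : Fin 11 → Perm (Fin 6) := ![⟨![3, 2, 0, 5, 1, 4], ![2, 4, 1, 0, 5, 3], by decide, by decide⟩,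
  ⟨![1, 0, 5, 4, 2, 3], ![1, 0, 4, 5, 3, 2], by decide, by decide⟩,
  ⟨![5, 0, 1, 4, 2, 3], ![1, 2, 4, 5, 3, 0], by decide, by decide⟩,
  ⟨![3, 1, 2, 0, 5, 4], ![3, 1, 2, 0, 5, 4], by decide, by decide⟩,
  ⟨![3, 5, 1, 4, 2, 0], ![5, 2, 4, 0, 3, 1], by decide, by decide⟩,
  ⟨![1, 4, 2, 0, 3, 5], ![3, 0, 2, 4, 1, 5], by decide, by decide⟩,
  ⟨![3, 4, 5, 1, 2, 0], ![5, 3, 4, 0, 1, 2], by decide, by decide⟩,
  ⟨![5, 3, 1, 0, 2, 4], ![3, 2, 4, 1, 5, 0], by decide, by decide⟩,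
  ⟨![3, 0, 2, 4, 5, 1], ![1, 5, 2, 0, 3, 4], by decide, by decide⟩,
  ⟨![0, 4, 1, 2, 5, 3], ![0, 2, 3, 5, 1, 4], by decide, by decide⟩,
  ⟨![1, 2, 4, 3, 5, 0], ![5, 0, 1, 3, 2, 4], by decide, by decide⟩]

/-- the three kinds of sorted weights -/
def Kind (c : A6) : Prop := (∀ i j, c i = c j) ∨ (c 0 ≠ c 3 ∧ c0 = (c 0 - c 3) • c - ((c 0 - c 3) * c 3) • 1) ∨
  ∀ i j, i ≠ j → Sep (c ∘ L11 i) (c ∘ L11 j)

instance (c : A6) : Decidable (Kind c) := inferInstanceAs (Decidable (_ ∨ _ ∨ _))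

set_option synthInstance.maxSize 1000 in
theorem sorted_cases : ∀ x0 x1 x2 x3 x4 x5 : ZMod 3, x0.val ≤ x1.val → x1.val ≤ x2.val → x2.val ≤ x3.val →
    x3.val ≤ x4.val → x4.val ≤ x5.val → x0 + x1 + x2 + x3 + x4 + x5 = 0 → Kind ![x0, x1, x2, x3, x4, x5] := by
  decide +kernel

theorem mem_scale {D : A6 → K} {c : A6} {k : ZMod 3} (hk : k ≠ 0) (t : ZMod 3) {v : V} (h : v ∈ Wt D V c) :
    v ∈ Wt D V (k • c - t • 1) := fun a ha => by
  have e : (k • c - t • 1) ⬝ᵥ a = k * (c ⬝ᵥ a) := by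
    rw [sub_dotProduct, smul_dotProduct, smul_dotProduct, one_dotProduct, ha, smul_zero, sub_zero, smul_eq_mul]
  have : Fact (Nat.Prime 3) := ⟨Nat.prime_three⟩
  rw [e, ne_eq, mul_eq_zero_iff_left hk]
  exact h a ha

/-- the transposition `(m, m+1)` -/
def sp (m : ℕ) : Perm (Fin 6) := swap (Fin.ofNat 6 m) (Fin.ofNat 6 (m + 1))

/-- words for the ten partitions -/
def uw : List (List ℕ) := [[], [2], [1, 2], [3, 2], [0, 1, 2], [3, 1, 2], [4, 3, 2], [3, 0, 1, 2], [2, 3, 1, 2], [4, 3, 1, 2]]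

/-- coset representatives -/
def uu (i : ℕ) : Perm (Fin 6) := ((uw.getD i []).map sp).prod

/-- the exchange of the two blocks -/
def rr : Perm (Fin 6) := swap 0 3 * swap 1 4 * swap 2 5

/-- the vector of weight `c0` fixed by the stabiliser of the partition -/
structure Base (D : A6 → K) (P : Perm (Fin 6) →* K) (e0 : V) : Prop where
  ne : e0 ≠ 0
  mem : e0 ∈ Wt D V c0
  all : ∀ v ∈ Wt D V c0, v ≠ 0 → v = e0 ∨ v = D (ee 2 3) • e0 ∨ v = e0 + D (ee 2 3) • e0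
  fix : ∀ h ∈ [sp 0, sp 1, sp 3, sp 4, rr, 1], P h • e0 = e0

/-- the basis -/
def bas (D : A6 → K) (P : Perm (Fin 6) →* K) (e0 : V) (k : ℕ) : V :=
  P (uu (k / 2)) • D (((k % 2 : ℕ) : ZMod 3) • ee 2 3) • e0

/-- the code of `ω ^ n` at the place `i` -/
def cd (i : ℕ) (n : ZMod 3) : ℕ :=
  if n = 0 then 2 ^ (2 * i) else if n = 1 then 2 ^ (2 * i + 1) else 2 ^ (2 * i) ^^^ 2 ^ (2 * i + 1)

theorem dec2_mod (d : ℕ) (e : ℕ → V) (x : ℕ) : dec2 d e (x % 2 ^ d) 0 = dec2 d e x 0 :=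
  sum_congr rfl fun k hk => by rw [zero_mul, zero_add, Nat.testBit_mod_two_pow, decide_eq_true (mem_range.1 hk),
    Bool.true_and]

theorem sum_two_mul (f : ℕ → V) (n : ℕ) : ∑ k ∈ range (2 * n), f k = ∑ i ∈ range n, (f (2 * i) + f (2 * i + 1)) := by
  induction n with
  | zero => rfl
  | succ n ih => rw [mul_add, mul_one, sum_range_succ, sum_range_succ, ih, sum_range_succ, add_assoc]

namespace ND

variable {D : A6 → K} {P : Perm (Fin 6) →* K} (N : ND D P) (h2 : ∀ v : V, v + v = 0)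
include N h2

theorem four_le [Finite V] {c : A6} {i j : Fin 6} (hc : c i ≠ c j) {v : V} (h0 : v ≠ 0) (h : v ∈ Wt D V c) :
    ({0, v, D (ee i j) • v, v + D (ee i j) • v} : Set V) ⊆ Wt D V c ∧ 4 ≤ Nat.card (Wt D V c) := by
  have h1 : ({0, v, D (ee i j) • v, v + D (ee i j) • v} : Set V) ⊆ Wt D V c := by
    have := N.mem_D (sum_ee i j) h
    rintro _ (rfl | rfl | rfl | rfl)
    exacts [zero_mem _, h, this, add_mem h this]
  refine ⟨h1, ?_⟩
  rw [← N.card_four h2 (sum_ee i j) h0 ((h _ (sum_ee i j)).2 (by rwa [dot_ee, sub_ne_zero]))]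
  exact Set.ncard_le_ncard h1

theorem exists_c0 [Finite V] (hV : Nat.card V = 2 ^ 20) (hne : ∃ v : V, D (ee 0 1) • v ≠ v) :
    ∃ v : V, v ≠ 0 ∧ v ∈ Wt D V c0 := by
  obtain ⟨c, v, h0, h1, h3⟩ := N.exists_wt h2 hne
  have h4 : ∑ i, c i = 0 := by
    by_contra h
    have := (h1 1 (by decide)).2 (by rwa [dotProduct_one])
    rw [N.one, tr3_fix h2 (one_smul _ _)] at this
    exact h0 this
  let σ := Tuple.sort fun i => (c i).val
  have h5 : Monotone ((fun i => (c i).val) ∘ σ) := Tuple.monotone_sort _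
  have h6 : P σ⁻¹ • v ∈ Wt D V (c ∘ σ) := N.mem_P (by funext x; simp) h1
  have h7 : P σ⁻¹ • v ≠ 0 := (smul_ne_zero_iff_ne _).2 h0
  have e : c ∘ σ = ![c (σ 0), c (σ 1), c (σ 2), c (σ 3), c (σ 4), c (σ 5)] := by
    funext i; fin_cases i <;> rfl
  have h8 := sum_comp h4 σ
  rw [Fin.sum_univ_six] at h8
  have h := sorted_cases _ _ _ _ _ _ (h5 (by decide : (0 : Fin 6) ≤ 1)) (h5 (by decide : (1 : Fin 6) ≤ 2))
    (h5 (by decide : (2 : Fin 6) ≤ 3)) (h5 (by decide : (3 : Fin 6) ≤ 4)) (h5 (by decide : (4 : Fin 6) ≤ 5)) h8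
  rw [← e] at h
  rcases h with h | h | h
  · exact absurd (by simpa using h (σ⁻¹ 0) (σ⁻¹ 1)) h3
  · exact ⟨_, h7, h.2 ▸ mem_scale (sub_ne_zero.2 h.1) _ h6⟩
  · have h9 := N.card_pow_le (V := V) h2 h
    have := Nat.pow_le_pow_left (N.four_le h2 (i := σ⁻¹ 0) (j := σ⁻¹ 1) (by simpa using h3) h7 h6).2 11
    omega

theorem exists_base [Finite V] (hV : Nat.card V = 2 ^ 20) (hne : ∃ v : V, D (ee 0 1) • v ≠ v) :
    ∃ e0 : V, Base D P e0 := by
  obtain ⟨v, h0, h1⟩ := N.exists_c0 h2 hV hne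
  have ha := sum_ee 2 3
  have h3 : Nat.card (Wt D V c0) ≤ 4 := by
    have h9 := N.card_pow_le (V := V) h2 (c := c0) (n := 10) (σ := fun i => (uu i)⁻¹) (by decide +kernel)
    by_contra h
    have := Nat.pow_le_pow_left (show 5 ≤ Nat.card (Wt D V c0) by omega) 10
    omega
  have t3 : ∀ w ∈ Wt D V c0, tr3 (D (ee 2 3)) w = 0 := fun w hw => (hw _ ha).2 (by decide)
  have h4 : ∀ w ∈ Wt D V c0, w ≠ 0 → ∀ x ∈ Wt D V c0, x ≠ 0 →
      x = w ∨ x = D (ee 2 3) • w ∨ x = w + D (ee 2 3) • w := fun w hw hw0 x hx hx0 => by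
    have := Set.eq_of_subset_of_ncard_le (N.four_le h2 (i := 2) (j := 3) (by decide) hw0 hw).1
      (by rw [N.card_four h2 ha hw0 (t3 w hw)]; exact h3)
    exact (show x ∈ ({0, w, D (ee 2 3) • w, w + D (ee 2 3) • w} : Set V) from this ▸ hx).resolve_left hx0
  have hr : ∀ w ∈ Wt D V c0, P rr • w ∈ Wt D V c0 := fun w hw =>
    N.mem_P (c := (-1 : ZMod 3) • c0 - (-1 : ZMod 3) • 1) (by decide +kernel) (mem_scale (by decide) _ hw)
  have r2 : ∀ (σ : Perm (Fin 6)), σ * σ = 1 → ∀ w : V, P σ • P σ • w = w := fun σ h w => by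
    rw [← mul_smul, ← map_mul, h, map_one, one_smul]
  obtain ⟨e0, h5, h6, h7⟩ : ∃ e0, e0 ≠ 0 ∧ e0 ∈ Wt D V c0 ∧ P rr • e0 = e0 := by
    by_cases h : P rr • v = v
    · exact ⟨v, h0, h1, h⟩
    · refine ⟨v + P rr • v, fun e => h ?_, add_mem h1 (hr v h1), by rw [smul_add, r2 rr (by decide +kernel), add_comm]⟩
      rw [← add_left_cancel_iff (a := v), e, h2]
  have h8 : ∀ σ : Perm (Fin 6), c0 ∘ σ = c0 → σ * σ = 1 → P σ • e0 = e0 := fun σ h h' => by
    have c1 : ∀ w ∈ Wt D V c0, P σ • D (ee 2 3) • w = D (ee 2 3) • P σ • w := fun w hw => by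
      rw [← mul_smul (D _), N.pd σ _ ha, mul_smul, N.same (sum_comp ha σ) ha _ hw]
      conv_lhs => rw [← h]
      exact Equiv.sum_comp σ fun i => c0 i * ee 2 3 i
    obtain ⟨f1, f2, f3, f4⟩ := N.four h2 ha h5 (t3 _ h6)
    have f5 := r2 σ h' e0
    rcases h4 _ h6 h5 _ (N.mem_P h h6) ((smul_ne_zero_iff_ne _).2 h5) with e | e | e
    · exact e
    · rw [e, c1 _ h6, e, f3] at f5
      exact absurd (by simpa using f5) f1
    · rw [e, smul_add, c1 _ h6, e, f4, add_comm, ← add_assoc, h2, zero_add] at f5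
      exact absurd f5 f2
  refine ⟨e0, h5, h6, h4 _ h6 h5, fun h hh => ?_⟩
  simp only [List.mem_cons, List.not_mem_nil, or_false] at hh
  rcases hh with rfl | rfl | rfl | rfl | rfl | rfl
  iterate 4 exact h8 _ (by decide +kernel) (swap_mul_self _ _)
  exacts [h7, by rw [map_one, one_smul]]

variable {e0 : V} (B : Base D P e0)
include B

theorem dec_cd {i : ℕ} (hi : i < 10) {a : A6} (ha : ∑ i, a i = 0) :
    P (uu i) • D a • e0 = dec2 20 (bas D P e0) (cd i (c0 ⬝ᵥ a)) 0 := by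
  have h3 := sum_ee 2 3
  have e1 : dec2 20 (bas D P e0) (2 ^ (2 * i)) 0 = P (uu i) • e0 := by
    rw [dec2_two_pow _ (by omega), bas, Nat.mul_div_cancel_left _ two_pos, Nat.mul_mod_right, Nat.cast_zero,
      zero_smul, N.zero, one_smul]
  have e2 : dec2 20 (bas D P e0) (2 ^ (2 * i + 1)) 0 = P (uu i) • D (ee 2 3) • e0 := by
    rw [dec2_two_pow _ (by omega), bas, show (2 * i + 1) / 2 = i by omega, show (2 * i + 1) % 2 = 1 by omega,
      Nat.cast_one, one_smul]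
  unfold cd
  split_ifs with h h'
  · rw [e1, (B.mem a ha).1 h]
  · rw [e2, N.same ha h3 (h'.trans (by decide)) B.mem]
  · rw [dec2_xor h2, e1, e2, ← smul_add, ← (N.four h2 h3 B.ne ((B.mem _ h3).2 (by decide))).2.2.1, ← mul_smul (D _),
      ← N.add _ _ h3 h3, N.same ha (sum_add' h3 h3) _ B.mem]
    exact ((by decide : ∀ x : ZMod 3, x ≠ 0 → x ≠ 1 → x = 2) _ h h').trans (by decide)

theorem act2_mono {b : A6} (hb : ∑ i, b i = 0) {σ : Perm (Fin 6)} {T H M : List ℕ} (hM : ok2 20 M = true)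
    (h : ∀ k < 20, let h := [sp 0, sp 1, sp 3, sp 4, rr].getD (H.getD (k / 2) 0) 1
      T.getD (k / 2) 0 < 10 ∧ (∀ x, (σ * uu (k / 2)) x = (uu (T.getD (k / 2) 0) * h) x) ∧ M.getD k 0 =
        cd (T.getD (k / 2) 0) (c0 ⬝ᵥ (b ∘ uu (T.getD (k / 2) 0) + (((k % 2 : ℕ) : ZMod 3) • ee 2 3) ∘ h.symm))) :
    Act2 20 (bas D P e0) M (D b * P σ) := by
  refine ⟨(ok2_sound hM).1, (ok2_sound hM).2, fun k hk => ?_⟩
  obtain ⟨h3, h4, h5⟩ := h k hk
  generalize hh : [sp 0, sp 1, sp 3, sp 4, rr].getD (H.getD (k / 2) 0) 1 = h at h4 h5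
  have h6 : P h • e0 = e0 := B.fix h (by
    rw [← hh, ← nth_eq_getD]
    exact (nth_mem_or _ _ _).elim (List.mem_append_left [1]) fun e => by rw [e]; simp)
  have ha := sum_smul' (sum_ee 2 3) ((k % 2 : ℕ) : ZMod 3)
  have h7 := N.pd h _ (sum_comp ha h.symm)
  rw [Function.comp_assoc, Equiv.symm_comp_self, Function.comp_id] at h7
  rw [h5, ← N.dec_cd h2 B h3 (sum_add' (sum_comp hb _) (sum_comp ha _)), bas, mul_smul, ← mul_smul (P σ), ← map_mul,
    Equiv.ext h4, map_mul, mul_smul, ← mul_smul (P h), ← h7, mul_smul, h6, ← mul_smul, N.pd _ _ hb, mul_smul,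
    N.add _ _ (sum_comp hb _) (sum_comp ha _), mul_smul]

theorem act2_gam {γ : K} (hP : ∀ σ, γ * P σ = P σ * γ) (hD : ∀ a, ∑ i, a i = 0 → γ * D a = D (-a) * γ) {M : List ℕ}
    (hM : ok2 20 M = true)
    (h : ∀ k < 20, M.getD k 0 = cd (k / 2) (c0 ⬝ᵥ (-(((k % 2 : ℕ) : ZMod 3) • ee 2 3)))) :
    Act2 20 (bas D P e0) M γ := by
  have hn : ∀ {a : A6}, ∑ i, a i = 0 → ∑ i, (-a) i = 0 := fun h => by simp [h]
  have h3 := sum_ee 2 3
  have c1 : ∀ a : A6, ∑ i, a i = 0 → ∀ w : V, D a • γ • w = γ • D (-a) • w := fun a ha w => by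
    rw [← mul_smul γ, hD _ (hn ha), neg_neg, mul_smul]
  have h4 : γ • e0 ∈ Wt D V c0 := fun a ha => by
    have := B.mem _ (hn ha)
    rw [dotProduct_neg, neg_eq_zero, ne_eq, neg_eq_zero] at this
    refine ⟨fun e => by rw [c1 a ha, this.1 e], fun e => ?_⟩
    rw [tr3, c1 a ha, c1 a ha, ← smul_add, ← smul_add]
    exact (congrArg _ (this.2 e)).trans (smul_zero _)
  have h5 : P rr • e0 = e0 := B.fix _ (by simp)
  have h6 : P rr • γ • e0 = γ • e0 := by rw [← mul_smul, ← hP, mul_smul, h5]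
  have h7 : P rr • D (ee 2 3) • e0 = e0 + D (ee 2 3) • e0 := by
    have := N.pd rr _ (sum_comp h3 rr)
    rw [show (ee 2 3 ∘ rr) ∘ rr = ee 2 3 by decide +kernel] at this
    rw [← mul_smul, ← this, mul_smul, h5, N.same (sum_comp h3 rr) (sum_add' h3 h3) (by decide +kernel) B.mem,
      N.add _ _ h3 h3, mul_smul, (N.four h2 h3 B.ne ((B.mem _ h3).2 (by decide))).2.2.1]
  have h8 : γ • e0 = e0 := by
    rcases B.all _ h4 ((smul_ne_zero_iff_ne _).2 B.ne) with e | e | e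
    · exact e
    · rw [e, h7] at h6
      exact absurd (by simpa using h6) B.ne
    · rw [e, smul_add, h5, h7, add_right_inj] at h6
      exact absurd (by simpa using h6) B.ne
  refine ⟨(ok2_sound hM).1, (ok2_sound hM).2, fun k hk => ?_⟩
  have ha := sum_smul' h3 ((k % 2 : ℕ) : ZMod 3)
  rw [h k hk, ← N.dec_cd h2 B (by omega) (hn ha), bas, ← mul_smul, hP, mul_smul, ← mul_smul γ, hD _ ha, mul_smul, h8]

theorem inj {x y : ℕ} (h : dec2 20 (bas D P e0) x 0 = dec2 20 (bas D P e0) y 0) : x % 2 ^ 20 = y % 2 ^ 20 := by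
  have h3 := sum_ee 2 3
  have h4 : dec2 20 (bas D P e0) (x ^^^ y) 0 = 0 := by rw [dec2_xor h2, h, h2]
  rw [dec2, sum_two_mul _ 10, Finset.sum_range] at h4
  have e : ∀ i : ℕ, bas D P e0 (2 * i) = P (uu i) • e0 ∧ bas D P e0 (2 * i + 1) = P (uu i) • D (ee 2 3) • e0 :=
    fun i => ⟨by rw [bas, Nat.mul_div_cancel_left _ two_pos, Nat.mul_mod_right, Nat.cast_zero, zero_smul, N.zero,
      one_smul], by rw [bas, show (2 * i + 1) / 2 = i by omega, show (2 * i + 1) % 2 = 1 by omega, Nat.cast_one,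
      one_smul]⟩
  have h5 := indep h2 (D := D) (c := fun i : Fin 10 => c0 ∘ (uu i).symm) (by decide +kernel) univ (fun i => by
    have m0 : P (uu i) • e0 ∈ Wt D V (c0 ∘ (uu i).symm) := N.mem_P (by funext x; simp) B.mem
    have m1 : P (uu i) • D (ee 2 3) • e0 ∈ Wt D V (c0 ∘ (uu i).symm) := N.mem_P (by funext x; simp) (N.mem_D h3 B.mem)
    rw [(e i).1, (e i).2]
    refine add_mem ?_ ?_ <;> split_ifs <;> first | assumption | exact zero_mem _) h4
  obtain ⟨f1, f2, f3, f4⟩ := N.four h2 h3 B.ne ((B.mem _ h3).2 (by decide))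
  have h6 : ∀ i < 10, (x ^^^ y).testBit (2 * i) = false ∧ (x ^^^ y).testBit (2 * i + 1) = false := fun i hi => by
    have := h5 ⟨i, hi⟩ (mem_univ _)
    rw [(e i).1, (e i).2, zero_mul, zero_add, zero_add] at this
    revert this
    cases (x ^^^ y).testBit (2 * i) <;> cases (x ^^^ y).testBit (2 * i + 1) <;>
      simp only [if_true, Bool.false_eq_true, if_false, zero_add, add_zero, ← smul_add, smul_eq_zero_iff_eq, B.ne, f1,
        and_self, imp_self, false_imp_iff]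
    exact fun e => absurd (by rw [← f4, e, smul_zero]) B.ne
  refine Nat.eq_of_testBit_eq fun k => ?_
  rw [Nat.testBit_mod_two_pow, Nat.testBit_mod_two_pow]
  by_cases hk : k < 20
  · have : (x ^^^ y).testBit k = false := by
      rcases Nat.mod_two_eq_zero_or_one k with h7 | h7
      · rw [← (h6 (k / 2) (by omega)).1]; congr 1; omega
      · rw [← (h6 (k / 2) (by omega)).2]; congr 1; omega
    rw [Nat.testBit_xor] at this
    rw [bne_eq_false_iff_eq.1 this]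
  · simp [hk]

theorem surj [Finite V] (hV : Nat.card V = 2 ^ 20) (v : V) : ∃ x, dec2 20 (bas D P e0) x 0 = v := by
  have := (Nat.bijective_iff_injective_and_card fun x : Fin (2 ^ 20) => dec2 20 (bas D P e0) x 0).2
    ⟨fun x y h => Fin.ext (by simpa only [Nat.mod_eq_of_lt x.2, Nat.mod_eq_of_lt y.2] using N.inj h2 B h),
      by rw [hV, Nat.card_eq_fintype_card, Fintype.card_fin]⟩
  obtain ⟨x, hx⟩ := this.2 v
  exact ⟨x, hx⟩

end ND

end CfsgLib.E62.S38
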