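import Mathlib
import Cfsg.Agent.Lib.E62.SBas
import Cfsg.Agent.Lib.FiType.UCheck
import Cfsg.Agent.Lib.FiTool.PM

/-!
# The action of a transvection centralising a complement `S₆` of the monomial group
-/

set_option autoImplicit false
set_option maxRecDepth 100000

namespace CfsgLib.E62.S38

open Finset CfsgLib.Comput CfsgLib.FiTool CfsgLib.FiType

variable {K V : Type*} [Group K] [AddCommGroup V] [DistribMulAction K V]

/-- the span of `n` vectors -/
def Sp (h2 : ∀ v : V, v + v = 0) (n : ℕ) (b : ℕ → V) : AddSubgroup V where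
  carrier := {v | ∃ c < 2 ^ n, v = dec2 n b c 0}
  add_mem' := by
    rintro _ _ ⟨c, hc, rfl⟩ ⟨c', hc', rfl⟩
    exact ⟨_, Nat.xor_lt_two_pow hc hc', (dec2_xor h2 _ _ _ _ _).symm⟩
  zero_mem' := ⟨0, by positivity, (dec2_zero _ _ _).symm⟩
  neg_mem' := fun {v} h => by rwa [neg_eq_of_add_eq_zero_left (h2 v)]

/-- a matrix applied to one vector -/
noncomputable abbrev ap (d : ℕ) : List ℕ → ℕ → ℕ := app2 (ones d 1)

theorem dec2_ap (h2 : ∀ v : V, v + v = 0) {d : ℕ} (hd : 0 < d) (e : ℕ → V) {B : List ℕ} (hB : ∀ c ∈ B, c < 2 ^ d)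
    (c : ℕ) : dec2 d e (ap d B c) 0 = dec2 B.length (fun k => dec2 d e (B.getD k 0) 0) c 0 := by
  rw [ap, app2, ones_eq hd, dec2_app2L h2 e hB c 0 Nat.one_pos, dec2_zero, zero_add]
  simp only [dec2, zero_mul]

/-- `1 + f + f²` on codes -/
noncomputable def tc (f : ℕ → ℕ) (x : ℕ) : ℕ := force (f x) fun y => Nat.xor (Nat.xor x y) (f y)

/-- the matrices of the monomial generators -/
def gN : List (List ℕ) := [[1, 2, 4, 8, 256, 512, 64, 128, 16, 32, 16384, 32768, 4096, 8192, 1024, 2048, 262144, 786432, 65536, 196608],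
  [1, 2, 16, 32, 4, 8, 1024, 2048, 256, 512, 64, 128, 262144, 524288, 16384, 32768, 65536, 131072, 4096, 8192],
  [4, 8, 1, 2, 16, 32, 64, 128, 256, 512, 65536, 131072, 4096, 8192, 262144, 786432, 1024, 2048, 16384, 49152],
  [1, 2, 64, 128, 1024, 2048, 4, 8, 16384, 32768, 16, 32, 4096, 8192, 256, 512, 65536, 131072, 262144, 524288],
  [1, 2, 4, 8, 16, 32, 4096, 8192, 256, 512, 262144, 524288, 64, 128, 65536, 196608, 16384, 49152, 1024, 2048],
  [1, 2, 4, 8, 512, 768, 64, 128, 48, 16, 32768, 49152, 4096, 8192, 3072, 1024, 786432, 524288, 196608, 131072]]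

/-- words for the basis vectors -/
def ws : List ℕ := [0x0, 0x0, 0x3, 0x3, 0x203, 0x203, 0x403, 0x403, 0x10203, 0x10203, 0x40203, 0x40203, 0x50403, 0x50403,
  0x4010203, 0x4010203, 0x3040203, 0x3040203, 0x5040203, 0x5040203]

/-- the letters commuting with the transvection -/
noncomputable def stU (us : List ℕ) : ℕ → ℕ → ℕ := stepW (stepL (ap 20) gN) us

/-- the matrix determined by the images `x`, `y` of the first two basis vectors -/
noncomputable def cand (us js : List ℕ) (x y : ℕ) : List ℕ :=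
  (ws.zip js).map fun p => act (stU us) p.1 (ap 20 [x, y] p.2)

/-- the braid relation on one vector -/
noncomputable def braid (M : List ℕ) : Bool :=
  Nat.beq (Nat.mod (iterN (fun z => ap 20 M (stepL (ap 20) gN 5 z)) 3 16) (2 ^ 20)) 16

/-- the test -/
noncomputable def tauOK (us js : List ℕ) (x0 y0 : ℕ) : Bool :=
  band (band (band (blt x0 (2 ^ 20)) (blt y0 (2 ^ 20))) (Nat.beq (lenL js) 20))
  (band (allLt (fun k => force (tc (act (stU us) 0x102) (tc (act (stU us) 0x405) (Nat.shiftLeft 1 k))) fun z =>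
    Comput.anyL (fun c => band (blt c 16) (Nat.beq z (ap 20 [1, 2, x0, y0] c))) (List.range 16)) 20)
  (band (allL (fun w => band (Nat.beq (act (stU us) w 1) 1) (Nat.beq (act (stU us) w 2) 2)) [0x102, 0x405])
  (band (allLt (fun k => band (blt (nth 0 js k) 4) (Nat.beq (act (stU us) (nth 0 ws k) (nth 0 js k)) (Nat.shiftLeft 1 k))) 20)
  (allLt (fun c => force (ap 20 [1, 2, x0, y0] c) fun x => allLt (fun c' => force (ap 20 [1, 2, x0, y0] c') fun y =>
    band (band (blt x (2 ^ 20)) (blt y (2 ^ 20))) (band (ok2 20 (cand us js x y))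
      (bimp (braid (cand us js x y)) (band (Nat.beq x x0) (Nat.beq y y0))))) 16) 16))))

theorem act2_tau (h2 : ∀ v : V, v + v = 0) {e : ℕ → V} {g : ℕ → K} (hL : ActL (Act2 20 e) gN g)
    (inj : ∀ {x y}, dec2 20 e x 0 = dec2 20 e y 0 → x % 2 ^ 20 = y % 2 ^ 20) (surj : ∀ v, ∃ x, dec2 20 e x 0 = v)
    {τ : K} {us js : List ℕ} {x0 y0 : ℕ} (hc : ∀ u ∈ us, ev g u * τ = τ * ev g u) (hb : (τ * g 5) ^ 3 = 1)
    (h : tauOK us js x0 y0 = true) : Act2 20 e (cand us js x0 y0) τ := by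
  simp only [tauOK, band_eq_true] at h
  obtain ⟨⟨⟨hx0, hy0⟩, hj⟩, h1, h3, h4, h5⟩ := h
  have hw : ∀ w x, ev (lw g us) w • dec2 20 e x 0 = dec2 20 e (act (stU us) w x) 0 := fun w x => by
    have := act_rel (g := lw g us) (step := stU us) (St := fun y a => a • dec2 20 e x 0 = dec2 20 e y 0)
      (fun m y a h => by
        rw [mul_smul, h]
        exact (congrArg (· • _) (evL_one g _).symm).trans (smul_dec2_actL h2 (by norm_num) hL [nth 0 us m] y)) w (x := x) (a := 1) (one_smul _ _)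
    rwa [mul_one] at this
  have hcom : ∀ w (v : V), ev (lw g us) w • τ • v = τ • ev (lw g us) w • v := fun w v => by
    have : ev (lw g us) w ∈ Subgroup.centralizer {τ} :=
      ev_mem_of_all (ev_nth_mem fun u hu => Subgroup.mem_centralizer_singleton_iff.2 (hc u hu)) w
    rw [← mul_smul, Subgroup.mem_centralizer_singleton_iff.1 this, mul_smul]
  have ht : ∀ w x, tr3 (ev (lw g us) w) (dec2 20 e x 0) = dec2 20 e (tc (act (stU us) w) x) 0 := fun w x => by
    rw [tr3, hw, hw, ← dec2_xor h2, ← dec2_xor h2, tc, force_eq]; rfl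
  have hB : ∀ c ∈ [1, 2, x0, y0], c < 2 ^ 20 := by simpa using ⟨lt_of_blt hx0, lt_of_blt hy0⟩
  have hE : ∀ v, tr3 (ev (lw g us) 0x102) (tr3 (ev (lw g us) 0x405) v) ∈
      Sp h2 4 fun k => dec2 20 e ([1, 2, x0, y0].getD k 0) 0 := fun v => by
    obtain ⟨x, rfl⟩ := surj v
    rw [dec2]
    refine Finset.sum_induction _ (fun v => tr3 (ev (lw g us) 0x102) (tr3 (ev (lw g us) 0x405) v) ∈ Sp h2 4 _)
      (fun a b ha hb => by rw [tr3_add, tr3_add]; exact add_mem ha hb) (by rw [tr3_zero, tr3_zero]; exact zero_mem _)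
      fun k hk => ?_
    split_ifs
    · have h6 := allLt_sound h1 k (mem_range.1 hk)
      rw [force_eq] at h6
      obtain ⟨c, -, h7⟩ := Comput.anyL_sound h6
      obtain ⟨h7, h8⟩ := band_eq_true.1 h7
      rw [← dec2_two_pow e (mem_range.1 hk), ht, ht, ← Nat.one_shiftLeft]
      exact ⟨c, lt_of_blt h7, (congrArg (dec2 20 e · 0) (Nat.eq_of_beq_eq_true h8)).trans
        (dec2_ap h2 (by norm_num) e hB c)⟩
    · rw [tr3_zero, tr3_zero]; exact zero_mem _
  have hf : ∀ j, (∀ w ∈ [0x102, 0x405], act (stU us) w j = j) → ∃ c < 16,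
      τ • dec2 20 e j 0 = dec2 20 e (ap 20 [1, 2, x0, y0] c) 0 := fun j hj => by
    have h6 : ∀ w ∈ [0x102, 0x405], tr3 (ev (lw g us) w) (τ • dec2 20 e j 0) = τ • dec2 20 e j 0 := fun w hw' =>
      tr3_fix h2 (by rw [hcom, hw, hj w hw'])
    obtain ⟨c, hc, e1⟩ := hE (τ • dec2 20 e j 0)
    rw [h6 _ (by simp), h6 _ (by simp)] at e1
    exact ⟨c, hc, e1.trans (dec2_ap h2 (by norm_num) e hB c).symm⟩
  obtain ⟨c, hc, e1⟩ := hf 1 fun w hw => Nat.eq_of_beq_eq_true (band_eq_true.1 (allL_sound h3 w hw)).1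
  obtain ⟨c', hc', e2⟩ := hf 2 fun w hw => Nat.eq_of_beq_eq_true (band_eq_true.1 (allL_sound h3 w hw)).2
  have h6 := allLt_sound h5 c hc
  rw [force_eq] at h6
  have h7 := allLt_sound h6 c' hc'
  rw [force_eq] at h7
  generalize ap 20 [1, 2, x0, y0] c = x at *
  generalize ap 20 [1, 2, x0, y0] c' = y at *
  simp only [band_eq_true] at h7
  obtain ⟨⟨hx, hy⟩, h8, h9⟩ := h7
  have hj : js.length = 20 := (lenL_eq js).symm.trans (Nat.eq_of_beq_eq_true hj)
  have hA : Act2 20 e (cand us js x y) τ := by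
    refine ⟨(ok2_sound h8).1, (ok2_sound h8).2, fun k hk => ?_⟩
    obtain ⟨h10, h11⟩ := band_eq_true.1 (allLt_sound h4 k hk)
    have h12 : k < ws.length := hk
    have e3 : (cand us js x y).getD k 0 = act (stU us) (nth 0 ws k) (ap 20 [x, y] (nth 0 js k)) := by
      rw [List.getD_eq_getElem _ _ ((ok2_sound h8).1 ▸ hk), nth_eq_getD, nth_eq_getD, List.getD_eq_getElem _ _ h12,
        List.getD_eq_getElem _ _ (hj ▸ hk)]
      simp [cand]
    rw [e3, ← hw, ← dec2_two_pow e hk, ← Nat.one_shiftLeft, ← show _ = 1 <<< k from Nat.eq_of_beq_eq_true h11, ← hw,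
      ← hcom, dec2_ap h2 (by norm_num) e (by simpa using ⟨lt_of_blt hx, lt_of_blt hy⟩)]
    congr 1
    have h13 := lt_of_blt h10
    have e4 : dec2 20 e 3 0 = dec2 20 e 1 0 + dec2 20 e 2 0 := dec2_xor h2 20 e 1 2 0
    have e5 := dec2_two_pow (d := 2) (k := 0) (fun k => dec2 20 e ([x, y].getD k 0) 0) two_pos
    have e6 := dec2_two_pow (d := 2) (k := 1) (fun k => dec2 20 e ([x, y].getD k 0) 0) one_lt_two
    generalize nth 0 js k = j at h13
    interval_cases j
    · rw [dec2_zero, dec2_zero, smul_zero]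
    · rw [e1]; exact e5.symm
    · rw [e2]; exact e6.symm
    · rw [e4, smul_add, e1, e2]
      exact (congrArg₂ _ e5.symm e6.symm).trans (dec2_xor h2 2 _ 1 2 0).symm
  have h10 : ∀ n z, dec2 20 e (iterN (fun z => ap 20 (cand us js x y) (stepL (ap 20) gN 5 z)) n z) 0 =
      (τ * g 5) ^ n • dec2 20 e z 0 := fun n => by
    induction n with
    | zero => exact fun z => (one_smul _ _).symm.trans (by rw [pow_zero]; rfl)
    | succ n ih =>
      intro z
      rw [show iterN _ (n + 1) z = iterN _ n _ from force_eq _ _, ih, dec2_app2 h2 (by norm_num) hA _ Nat.one_pos,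
        stepL_of_lt _ (show 5 < gN.length by decide), dec2_app2 h2 (by norm_num) (hL.1 5 (by decide)) _ Nat.one_pos,
        pow_succ, mul_smul, mul_smul]
  have h11 := h10 3 16
  rw [hb, one_smul] at h11
  obtain ⟨h12, h13⟩ := band_eq_true.1 (bimp_sound h9 (Nat.beq_eq.symm ▸ inj h11))
  rwa [← Nat.eq_of_beq_eq_true h12, ← Nat.eq_of_beq_eq_true h13]

/-- the matrix of the transvection with vector `(1, 1, 1, 1, 1, 1)` -/
def m6 : List ℕ := [349524, 764584, 349521, 978594, 349509, 719562, 349461, 961338, 349269, 1031402, 348501, 701358,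
  345429, 774074, 333141, 998078, 283989, 850859, 87381, 257006]

/-- the matrix of the transvection with vector `(ω, 1, 1, 1, 1, 1)` -/
def m7 : List ℕ := [448340, 616872, 613201, 452002, 354181, 710986, 644389, 420634, 349290, 1031423, 385369, 676774,
  412005, 640922, 334230, 999167, 550230, 318377, 152985, 125798]

theorem chk6 : tauOK [1, 2, 3, 4, 5] [1, 2, 1, 2, 1, 2, 1, 2, 1, 2, 1, 2, 1, 2, 1, 2, 1, 2, 1, 2] 349524 764584 = true := by
  decide +kernel

theorem chk6' : cand [1, 2, 3, 4, 5] [1, 2, 1, 2, 1, 2, 1, 2, 1, 2, 1, 2, 1, 2, 1, 2, 1, 2, 1, 2] 349524 764584 = m6 := by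
  decide +kernel

theorem chk7 : tauOK [0x10601, 2, 3, 4, 5] [1, 2, 1, 2, 1, 2, 1, 2, 2, 3, 1, 2, 1, 2, 2, 3, 1, 2, 1, 2] 448340 616872 = true := by
  decide +kernel

theorem chk7' : cand [0x10601, 2, 3, 4, 5] [1, 2, 1, 2, 1, 2, 1, 2, 2, 3, 1, 2, 1, 2, 2, 3, 1, 2, 1, 2] 448340 616872 = m7 := by
  decide +kernel

end CfsgLib.E62.S38
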