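import Mathlib
import Cfsg.Agent.Lib.E62.STau
import Cfsg.Agent.Lib.U62K.Model

/-!
# The module of order `2²⁰` of `U₆(2)`: matrices of eight generating transvections
-/

set_option autoImplicit false
set_option maxRecDepth 100000

namespace CfsgLib.E62.S38

open Finset Equiv Matrix Cfsg CfsgLib.Comput CfsgLib.FiTool CfsgLib.FiType CfsgLib.Unitary CfsgLib.Transv3 CfsgLib.U62K

/-- a further letter -/
def snoc {G : Type*} (g : ℕ → G) (n : ℕ) (a : G) (m : ℕ) : G := if m = n then a else g m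

theorem actL_snoc {G : Type*} [Group G] {D : Type} {R : D → G → Prop} {ML : List D} {g : ℕ → G} (h : ActL R ML g)
    {M : D} {a : G} (ha : R M a) : ActL R (ML ++ [M]) (snoc g ML.length a) := by
  refine ⟨fun m hm => ?_, fun m hm => ?_⟩
  · rw [snoc]
    split_ifs with e
    · subst e; simpa using ha
    · have : m < ML.length := by rw [List.length_append, List.length_singleton] at hm; omega
      rw [List.getElem_append_left this]
      exact h.1 m this
  · rw [List.length_append, List.length_singleton] at hm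
    rw [snoc, if_neg (by omega), h.2 m (by omega)]

variable {F : Type*} [Field F] [Fintype F] {ω : F} (C : Ctx ω)
include C

theorem om3 : ω ^ 3 = 1 := omega_pow_three C.om'

theorem pw_add (x y : ZMod 3) : ω ^ (x + y).val = ω ^ x.val * ω ^ y.val := by
  rw [ZMod.val_add, ← pow_add, ← pow_eq_pow_mod _ (om3 C)]

theorem pw_norm (x : ZMod 3) : ω ^ x.val * (ω ^ x.val) ^ 2 = 1 := by
  rw [← pow_succ', ← pow_mul, mul_comm, pow_mul, om3 C, one_pow]

theorem pw_el (x : ZMod 3) : ω ^ x.val = el ω (x.val + 1) := by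
  have := ZMod.val_lt x
  generalize x.val = n at this
  interval_cases n
  · rw [pow_zero, el_one]
  · rw [pow_one, el_two]
  · rw [el_three]; linear_combination C.om - ω * C.two

/-- diagonal matrices -/
noncomputable def Dg (a : A6) : SU 6 F 2 :=
  if h : ∑ i, a i = 0 then mkSU (diagonal fun i => ω ^ (a i).val) (by
    rw [det_diagonal, Fin.prod_univ_six]
    simp only [← pw_add C]
    rw [← Fin.sum_univ_six, h, ZMod.val_zero, pow_zero]) (fun u v => by
    simp only [herm_def, mulVec_diagonal]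
    exact sum_congr rfl fun i _ => by linear_combination (u i * v i ^ 2) * pw_norm C (a i)) else 1

theorem Dg_smul {a : A6} (h : ∑ i, a i = 0) (v : Fin 6 → F) (i : Fin 6) : (Dg C a • v) i = ω ^ (a i).val * v i := by
  rw [su_smul_def, Dg, dif_pos h, coe_mkSU, mulVec_diagonal]

omit C [Fintype F] in
theorem su_ext {g h : SU 6 F 2} (e : ∀ (v : Fin 6 → F) i, (g • v) i = (h • v) i) : g = h :=
  Subtype.ext (Subtype.ext (Matrix.ext fun i j => by simpa [su_smul_def] using e (Pi.single j 1) i))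

/-- permutation matrices -/
noncomputable def Pg0 (σ : Perm (Fin 6)) : SU 6 F 2 :=
  mkSU (σ⁻¹.permMatrix F) (by
    rw [det_permutation]
    rcases Int.units_eq_one_or (Perm.sign σ⁻¹) with h | h <;> rw [h] <;> simp
    linear_combination -C.two) (fun u v => by
    simp only [herm_def, permMatrix_mulVec]
    exact Equiv.sum_comp σ⁻¹ fun i => u i * v i ^ 2)

theorem Pg0_smul (σ : Perm (Fin 6)) (v : Fin 6 → F) (i : Fin 6) : (Pg0 C σ • v) i = v (σ⁻¹ i) := by
  rw [su_smul_def, Pg0, coe_mkSU, permMatrix_mulVec]; rfl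

/-- permutation matrices -/
noncomputable def Pg : Perm (Fin 6) →* SU 6 F 2 :=
  MonoidHom.mk' (Pg0 C) fun σ τ => su_ext fun v i => by simp [mul_smul, Pg0_smul]

theorem Pg_smul (σ : Perm (Fin 6)) (v : Fin 6 → F) (i : Fin 6) : (Pg C σ • v) i = v (σ⁻¹ i) := Pg0_smul C σ v i

theorem eq_mono {g : SU 6 F 2} {M : List ℕ} (hA : Act2 12 (e4 ω idx) M g) {b : A6} (hb : ∑ i, b i = 0)
    (σ : Perm (Fin 6)) (h : ∀ k < 12, ∀ i : Fin 6, dg (M.getD k 0) i = m4 ((b i).val + 1) (dg (1 <<< k) (σ⁻¹ i))) :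
    g = Dg C b * Pg C σ := by
  refine Subtype.ext (Subtype.ext (eq_of_smul_e4 (ω := ω) hE fun k hk => funext fun i => ?_))
  change (g • e4 ω idx k) i = ((Dg C b * Pg C σ) • e4 ω idx k) i
  rw [hA.2.2 k hk, dec_eq, e4_eq ω hk, mul_smul, Dg_smul C hb, Pg_smul, vecF, vecF, h k hk, pw_el C,
    el_m4 C.two C.om (by have := ZMod.val_lt (b i); omega) (dg_lt _ _)]

theorem iso7 : vecF ω 6 1366 ≠ 0 ∧ hermForm 6 F 2 (vecF ω 6 1366) (vecF ω 6 1366) = 0 :=
  ⟨C.ne_zero (by norm_num) (by norm_num), C.herm_zero.2 (by decide +kernel)⟩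

/-- the generators -/
noncomputable def g8 : ℕ → SU 6 F 2 := snoc C.g0 7 (uT C.card ⟨_, iso7 C⟩)

/-- their matrices on the natural module -/
def gW : List (List ℕ) := gens ++ [[4092, 1364, 1362, 2723, 1350, 2699, 1302, 2603, 1110, 2219, 342, 683]]

theorem actW : ActL (Act2 12 (e4 ω idx)) gW (g8 C) :=
  actL_snoc C.actL0 (C.act2_tv (c := 1) (v := 1366) (by norm_num) (fun y => by rw [uT_smul, el_one, one_mul])
    (by decide +kernel))

theorem relW : AllHold (g8 C) [([1, 7], [7, 1]), ([2, 7], [7, 2]), ([3, 7], [7, 3]), ([4, 7], [7, 4]), ([5, 7], [7, 5]),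
    ([0x10601, 8], [8, 0x10601]), ([2, 8], [8, 2]), ([3, 8], [8, 3]), ([4, 8], [8, 4]), ([5, 8], [8, 5]),
    ([7, 6, 7, 6, 7, 6], []), ([8, 6, 8, 6, 8, 6], [])] :=
  (wm2 C.vv (by norm_num) (actW C) (MonoidHom.id _) fun a h => Subtype.ext (Subtype.ext
    (eq_of_smul_e4 (ω := ω) hE fun k hk => (h k hk).trans (one_smul _ _).symm))).allHold (by decide +kernel)

theorem g8_sp {m : ℕ} (hm : m < 5) : g8 C m = Dg C 0 * Pg C (sp m) :=
  eq_mono C ((actW C).1 m (hm.trans (by decide))) (by simp) _ (by revert m; decide +kernel)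

theorem g8_five : g8 C 5 = Dg C (ee 1 0) * Pg C (sp 0) :=
  eq_mono C ((actW C).1 5 (by decide)) (sum_ee _ _) _ (by decide +kernel)

variable {K V : Type*} [Group K] [AddCommGroup V] [DistribMulAction K V] {ι : SU 6 F 2 →* K}

theorem nd (hz : Subgroup.center _ ≤ ι.ker) : ND (fun a => ι (Dg C a)) (ι.comp (Pg C)) where
  add a b ha hb := by
    rw [← map_mul]
    exact congrArg ι (su_ext fun v i => by
      rw [mul_smul, Dg_smul C (sum_add' ha hb), Dg_smul C ha, Dg_smul C hb, Pi.add_apply, pw_add C, mul_assoc])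
  one := hz (Subgroup.mem_center_iff.2 fun g => su_ext fun v i => by
    have e : ∀ w : Fin 6 → F, Dg C 1 • w = ω • w := fun w => funext fun j => by
      rw [Dg_smul C (by decide)]; exact congrArg (· * w j) (pow_one ω)
    rw [mul_smul, mul_smul, e, e, su_smul_def, su_smul_def, mulVec_smul])
  pd σ a ha := by
    simp only [MonoidHom.comp_apply, ← map_mul]
    exact congrArg ι (su_ext fun v i => by simp [mul_smul, Dg_smul C ha, Dg_smul C (sum_comp ha σ), Pg_smul])

/-- the matrix of the field automorphism -/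
def mg : List ℕ := [1, 3, 4, 12, 16, 48, 64, 192, 256, 768, 1024, 3072, 4096, 12288, 16384, 49152, 65536, 196608, 262144,
  786432]

theorem exists_mod [Finite V] (h2 : ∀ v : V, v + v = 0) (hV : Nat.card V = 2 ^ 20) (hz : Subgroup.center _ ≤ ι.ker)
    (hf : ∀ g, (∀ v : V, ι g • v = v) → g ∈ Subgroup.center _) :
    ∃ e : ℕ → V, ActL (Act2 20 e) (gN ++ [m6, m7]) (fun m => ι (g8 C m)) ∧
      (∀ {x y}, dec2 20 e x 0 = dec2 20 e y 0 → x % 2 ^ 20 = y % 2 ^ 20) ∧ (∀ v, ∃ x, dec2 20 e x 0 = v) ∧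
      ∀ γ : K, (∀ s s' : SU 6 F 2, (∀ v : Fin 6 → F, s' • (fun i => v i ^ 2) = fun i => (s • v) i ^ 2) →
        γ * ι s = ι s' * γ) → Act2 20 e mg γ := by
  have N := nd C hz
  obtain ⟨e0, B⟩ := N.exists_base h2 hV (by
    by_contra hn
    push Not at hn
    obtain ⟨t, ht⟩ := center_smul C.card (by norm_num) (hf _ hn)
    have e0 := congrFun (ht 1) 0
    have e2 := congrFun (ht 1) 2
    rw [Dg_smul C (sum_ee _ _)] at e0 e2
    exact omega_ne_one C.two C.om' (by simpa [show (ee 0 1 0).val = 1 by decide, show (ee 0 1 2).val = 0 by decide] using (e0.trans e2.symm)))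
  have h5 : ∀ m (_ : m < 6), Act2 20 (bas (fun a => ι (Dg C a)) (ι.comp (Pg C)) e0) (gN.getD m []) (ι (g8 C m)) := by
    intro m hm
    rcases Nat.lt_succ_iff_lt_or_eq.1 hm with h | rfl
    · rw [g8_sp C h, map_mul]
      exact N.act2_mono h2 B (by simp)
        (T := [[0, 1, 4, 3, 2, 7, 6, 5, 9, 8], [0, 2, 1, 5, 4, 3, 9, 7, 8, 6], [1, 0, 2, 3, 4, 8, 6, 9, 5, 7],
          [0, 3, 5, 1, 7, 2, 6, 4, 8, 9], [0, 1, 2, 6, 4, 9, 3, 8, 7, 5]].getD m [])
        (H := [[0, 0, 5, 0, 5, 5, 0, 5, 4, 4], [1, 5, 5, 5, 0, 5, 5, 0, 2, 5], [5, 5, 1, 2, 1, 5, 2, 4, 5, 4],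
          [2, 5, 5, 5, 5, 5, 3, 5, 1, 3], [3, 3, 3, 5, 3, 5, 5, 4, 4, 5]].getD m [])
        (by interval_cases m <;> decide +kernel) (by interval_cases m <;> decide +kernel)
    · rw [g8_five C, map_mul]
      exact N.act2_mono h2 B (sum_ee _ _) (T := [0, 1, 4, 3, 2, 7, 6, 5, 9, 8]) (H := [0, 0, 5, 0, 5, 5, 0, 5, 4, 4])
        (by decide +kernel) (by decide +kernel)
  have hL : ActL (Act2 20 (bas (fun a => ι (Dg C a)) (ι.comp (Pg C)) e0)) gN fun m => if m < 6 then ι (g8 C m) else 1 :=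
    ⟨fun m hm => by beta_reduce; rw [if_pos (show m < 6 from hm), ← List.getD_eq_getElem _ [] hm]; exact h5 m hm, fun m hm => if_neg (not_lt.2 hm)⟩
  have hR := (relW C).map ι
  have ec : ∀ u, inA 63 u = true → ev (fun m => if m < 6 then ι (g8 C m) else 1) u = ev (fun m => ι (g8 C m)) u :=
    fun u hu => ev_congr (fun m hm => if_pos (by
      by_contra h
      rw [Nat.testBit_lt_two_pow ((show 63 < 2 ^ 6 by norm_num).trans_le
        (Nat.pow_le_pow_right two_pos (not_lt.1 h)))] at hm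
      exact absurd hm (by simp))) hu
  have hc : ∀ u k, inA 63 u = true → k < 255 → Eqn.Holds (fun m => ι (g8 C m)) ([u, k + 1], [k + 1, u]) →
      ev (fun m => if m < 6 then ι (g8 C m) else 1) u * ι (g8 C k) = ι (g8 C k) * ev _ u := fun u k hu hk h => by
    rw [ec u hu]; simpa only [Eqn.Holds, evL_two, ev_letter _ hk] using h
  have hb : ∀ k, k < 255 → Eqn.Holds (fun m => ι (g8 C m)) ([k + 1, 5 + 1, k + 1, 5 + 1, k + 1, 5 + 1], []) →
      (ι (g8 C k) * if 5 < 6 then ι (g8 C 5) else 1) ^ 3 = 1 := fun k hk h => by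
    simpa only [Eqn.Holds, evL_cons, evL_nil, ev_letter _ hk, ev_letter _ (show 5 < 255 by norm_num), mul_one,
      if_pos (show 5 < 6 by norm_num), pow_succ, pow_zero, one_mul, mul_assoc] using h
  have h6 := chk6' ▸ act2_tau h2 hL (N.inj h2 B) (N.surj h2 B hV) (τ := ι (g8 C 6)) (fun u hu => by
    simp only [List.mem_cons, List.not_mem_nil, or_false] at hu
    rcases hu with rfl | rfl | rfl | rfl | rfl <;> exact hc _ 6 (by decide +kernel) (by norm_num) (hR _ (by simp)))
    (hb 6 (by norm_num) (hR _ (by simp))) chk6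
  have h7 := chk7' ▸ act2_tau h2 hL (N.inj h2 B) (N.surj h2 B hV) (τ := ι (g8 C 7)) (fun u hu => by
    simp only [List.mem_cons, List.not_mem_nil, or_false] at hu
    rcases hu with rfl | rfl | rfl | rfl | rfl <;> exact hc _ 7 (by decide +kernel) (by norm_num) (hR _ (by simp)))
    (hb 7 (by norm_num) (hR _ (by simp))) chk7
  refine ⟨_, ⟨fun m hm => ?_, fun m hm => (congrArg ι ((actW C).2 m hm)).trans (map_one ι)⟩, N.inj h2 B, N.surj h2 B hV, fun γ hγ => ?_⟩
  · have hm' : m < 8 := hm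
    by_cases h : m < 6
    · rw [List.getElem_append_left (show m < gN.length from h), ← List.getD_eq_getElem _ [] h]; exact h5 m h
    · interval_cases m
      exacts [h6, h7]
  · refine N.act2_gam h2 B (fun σ => hγ _ _ fun v => funext fun i => by rw [Pg_smul, Pg_smul])
      (fun a ha => hγ _ _ fun v => funext fun i => ?_) (by decide +kernel) (by decide +kernel)
    rw [Dg_smul C ha, Dg_smul C (by simp [ha]), mul_pow, pow_two (ω ^ _), ← pw_add C, Pi.neg_apply,
      (by decide : ∀ x : ZMod 3, -x = x + x)]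

end CfsgLib.E62.S38
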