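import Mathlib
import Cfsg.Agent.Lib.E62.SMod
import Cfsg.Agent.Lib.ClAut.MainSU
import Cfsg.Agent.Lib.ClAut.FieldU
import Cfsg.Agent.Lib.Unitary.Simple
import Cfsg.Agent.Lib.Unitary.Center
import Cfsg.Agent.Lib.FiType.U6Class
import Cfsg.Agent.Lib.Tech.SylowIn

/-!
# The groups `U₆(2)` and `U₆(2) : 2`, and the subgroups of involutions of rank two
-/

set_option autoImplicit false

namespace CfsgLib.E62.S38

open Subgroup Matrix MulAction Cfsg CfsgLib.Comput CfsgLib.FiType CfsgLib.Unitary CfsgLib.U62K CfsgLib.ClAut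
open scoped Pointwise

variable {F : Type*} [Field F] [Fintype F] {ω : F} (C : Ctx ω) {K : Type*} [Group K]

/-- `K` is `U₆(2)`, or its extension by the field automorphism -/
structure UK (ι : SU 6 F 2 →* K) : Prop where
  ker : ι.ker = center _
  min : ∀ N : Subgroup K, N.Normal → N = ⊥ ∨ ι.range ≤ N
  out : ι.range = ⊤ ∨ ∃ γ ∉ ι.range, γ * γ = 1 ∧ ι.range.index = 2 ∧ ∀ s s' : SU 6 F 2,
    (∀ v : Fin 6 → F, s' • (fun i => v i ^ 2) = fun i => (s • v) i ^ 2) → γ * ι s = ι s' * γ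

theorem cen_sq {a b : K} (ha : a * a = 1) (hb : b * b = 1) (h : a * b * (a * b) ∈ center K) :
    a * b * (a * b) * (a * b * (a * b)) = 1 := by
  have e : a * b * (a * b) = (a * b * (a * b))⁻¹ := by
    calc _ = a * (a * (a * b * (a * b))) := by rw [← mul_assoc a a, ha, one_mul]
      _ = a * a * (b * a * (b * a)) := by rw [mem_center_iff.1 h a]; simp only [mul_assoc]
      _ = _ := by simp only [ha, one_mul, _root_.mul_inv_rev, inv_eq_of_mul_eq_one_right ha, inv_eq_of_mul_eq_one_right hb]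
  exact mul_eq_one_iff_eq_inv.2 e

include C

theorem aut_cases (σ : F ≃+* F) : σ = 1 ∨ σ = conjE C.card := by
  have h1 : ∀ y : F, y * ((y - 1) * ((y - ω) * (y - ω ^ 2))) = 0 := fun y => by
    have := FiniteField.pow_card y
    rw [C.card] at this
    linear_combination this + (y ^ 2 - y ^ 3) * C.om' + (y ^ 2 - y) * om3 C
  have h2 : (σ ω - ω) * (σ ω - ω ^ 2) = 0 := by
    have := congrArg σ C.om'
    rw [map_add, map_add, map_pow, map_one, map_zero] at this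
    linear_combination this - σ ω * C.om' + om3 C
  simp only [mul_eq_zero, sub_eq_zero] at h1 h2
  refine h2.imp (fun h => RingEquiv.ext fun y => ?_) fun h => RingEquiv.ext fun y => ?_ <;>
    rcases h1 y with rfl | rfl | rfl | rfl <;> simp [h, conjE_apply]

theorem min_of {ι : SU 6 F 2 →* K} (hk : ι.ker = center _) [ι.range.Normal] (hc : ∀ N : Subgroup K, N.Normal →
    N ⊓ ι.range = ⊥ → N = ⊥) (N : Subgroup K) (hN : N.Normal) : N = ⊥ ∨ ι.range ≤ N := by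
  rcases su_le_center_or_eq_top C.card (by norm_num) (by norm_num) (N.comap ι) with h | h
  · refine .inl (hc N hN (eq_bot_iff.2 ?_))
    rintro _ ⟨h1, s, rfl⟩
    exact hk.ge (h h1)
  · exact .inr (by rintro _ ⟨s, rfl⟩; exact h.ge (mem_top s))

theorem exists_UK (hK : Nonempty (K ≃* PSU 6 F 2) ∨ ∃ K₀ : Subgroup K, K₀.Normal ∧ K₀.index = 2 ∧
    Nonempty (K₀ ≃* PSU 6 F 2) ∧ centralizer (K₀ : Set K) = ⊥) : ∃ ι : SU 6 F 2 →* K, UK ι := by
  rcases hK with ⟨⟨e⟩⟩ | ⟨K₀, _, hi, ⟨e⟩, hc⟩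
  · have h1 : (e.symm.toMonoidHom.comp (QuotientGroup.mk' _)).range = ⊤ :=
      MonoidHom.range_eq_top.2 (e.symm.surjective.comp (QuotientGroup.mk'_surjective _))
    have h2 : (e.symm.toMonoidHom.comp (QuotientGroup.mk' _)).ker = center _ := by
      ext s; simp
    have : (e.symm.toMonoidHom.comp (QuotientGroup.mk' _)).range.Normal := h1 ▸ inferInstance
    exact ⟨_, h2, min_of C h2 fun N _ h => by rwa [h1, inf_top_eq] at h, .inl h1⟩
  obtain ⟨β, hβ⟩ : ∃ β : K →* MulAut (PSU 6 F 2), ∀ k x, (e.symm (β k x) : K) = k * e.symm x * k⁻¹ :=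
    ⟨(MulAut.congr e).toMonoidHom.comp MulAut.conjNormal, fun k x => by simp⟩
  have inj : Function.Injective β := (injective_iff_map_eq_one β).2 fun k h => hc.le (mem_centralizer_iff.2 fun y hy => by
    have := hβ k (e ⟨y, hy⟩)
    rw [h] at this
    simpa [eq_mul_inv_iff_mul_eq] using this)
  have inn : ∀ g : GL (Fin 6) F, ∀ h : g ∈ GU 6 F 2, g.val.det = 1 →
      ∃ k ∈ K₀, β k = psuInd 6 F 2 ⟨.inl g, mem_gamU.2 h⟩ := fun g h hd => by
    obtain ⟨s, rfl⟩ := mem_range_suTau.2 ⟨h, hd⟩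
    refine ⟨_, (e.symm s).2, Eq.trans (MulEquiv.ext fun x => e.symm.injective (Subtype.ext ?_)) (gamInd_inl s _).symm⟩
    rw [hβ]; simp
  obtain ⟨k, hk⟩ : ∃ k, k ∉ K₀ := not_forall.1 fun h => by rw [(eq_top_iff' _).2 h] at hi; simp at hi
  obtain ⟨⟨⟨g, σ⟩, hx⟩, ex⟩ := psuInd_surjective C.card (n := 6) (by norm_num) (by norm_num) (β k)
  have hg : g ∈ GU 6 F 2 := mem_gamU.1 hx
  have hd : g.val.det ^ 3 = 1 := det_norm_of_pres C.card hg
  rcases aut_cases C σ with rfl | rfl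
  · obtain ⟨k0, h0, e0⟩ := inn (g ^ 3) (pow_mem hg 3) (by rw [Units.val_pow_eq_pow_val, det_pow, hd])
    have e1 : k0 = k * k * k := inj (by
      rw [e0, map_mul, map_mul, ← ex, ← map_mul, ← map_mul]
      exact congrArg _ (Subtype.ext (by simp only [pow_three', map_mul]; rfl)))
    exact absurd ((mul_mem_cancel_left (mul_self_mem_of_index_two hi k)).1 (e1 ▸ h0)) hk
  obtain ⟨φ, hφ⟩ : ∃ φ : gamU 6 F 2, φ = ⟨_, inr_mem_gamU (conjE C.card)⟩ := ⟨_, rfl⟩
  obtain ⟨y, hy⟩ : ∃ y : gamU 6 F 2, y = ⟨.inl g⁻¹, mem_gamU.2 (inv_mem hg)⟩ := ⟨_, rfl⟩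
  obtain ⟨k0, h0, e0⟩ := inn (y * φ * y⁻¹ * (⟨_, hx⟩ : gamU 6 F 2)⁻¹).1.left (mem_gamU.1 (Subtype.prop _)) (by
    have : (y * φ * y⁻¹ * (⟨_, hx⟩ : gamU 6 F 2)⁻¹).1.left = g⁻¹ * glField _ F (conjE C.card) g * g⁻¹ := by
      simp [hφ, hy]
    rw [this, Units.val_mul, Units.val_mul, det_mul, det_mul, coe_glField, ← RingEquiv.mapMatrix_apply,
      ← RingEquiv.map_det, conjE_apply, coe_units_inv, det_nonsing_inv, Ring.inverse_eq_inv']
    have : g.val.det ≠ 0 := fun h => by simp [h] at hd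
    field_simp)
  have e1 : β (k0 * k) = psuInd 6 F 2 (y * φ * y⁻¹) := by
    rw [map_mul, e0, ← ex, ← map_mul]
    exact congrArg _ (eq_mul_inv_iff_mul_eq.1 (Subtype.ext (eq_inl_of_right_eq_one (by simp [hφ, hy])).symm))
  obtain ⟨ι, hι⟩ : ∃ ι : SU 6 F 2 →* K, ∀ s, ι s = e.symm (psuInd 6 F 2 y s) :=
    ⟨K₀.subtype.comp (e.symm.toMonoidHom.comp ((psuInd 6 F 2 y).toMonoidHom.comp (QuotientGroup.mk' _))), fun _ => rfl⟩
  have h1 : ι.range = K₀ := le_antisymm (by rintro _ ⟨s, rfl⟩; rw [hι]; exact Subtype.prop _) fun x hx => by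
    obtain ⟨s, hs⟩ := QuotientGroup.mk_surjective ((psuInd 6 F 2 y).symm (e ⟨x, hx⟩))
    exact ⟨s, by rw [hι, hs]; simp⟩
  have h2 : ι.ker = center _ := by
    ext s; simp [hι]
  subst h1
  refine ⟨ι, h2, min_of C h2 fun N _ h => eq_bot_iff.2 (hc ▸ ?_), .inr ⟨k0 * k, by rwa [mul_mem_cancel_left h0],
    inj ?_, hi, fun s s' h => ?_⟩⟩
  · exact commutator_eq_bot_iff_le_centralizer.1 (eq_bot_iff.2 (h ▸ commutator_le_inf _ _))
  · rw [map_mul, e1, ← map_mul, map_one, show y * φ * y⁻¹ * (y * φ * y⁻¹) = y * (φ * φ) * y⁻¹ by group,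
      show φ * φ = 1 from Subtype.ext (by simp [hφ, ← map_mul, conjE_mul_self])]
    simp
  · rw [← mul_inv_eq_iff_eq_mul, hι, hι, ← hβ, e1, ← MulAut.mul_apply, ← map_mul, inv_mul_cancel_right, map_mul,
      MulAut.mul_apply, hφ, show psuInd 6 F 2 _ _ = _ from gamInd_mk _ (s' := s') ?_]
    refine Units.ext (Matrix.toLin'.injective (LinearMap.ext fun v => ?_))
    obtain ⟨v, rfl⟩ := gamAct_surjective (.inr (conjE C.card)) v
    rw [toLin'_apply, toLin'_apply, gamAut_mulVec, gamAct_inr, gamAct_inr]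
    exact h v

theorem card_fix : Nat.card (fixedBy (Fin 6 → F) (g8 C 0 * g8 C 2)) = 256 := by
  have h : ∀ v : Fin 6 → F, v ∈ fixedBy (Fin 6 → F) (g8 C 0 * g8 C 2) ↔ v 1 = v 0 ∧ v 3 = v 2 := fun v => by
    have e : (g8 C 0 * g8 C 2) • v = ![v 1, v 0, v 3, v 2, v 4, v 5] := funext fun i => by
      rw [g8_sp C (by norm_num), g8_sp C (by norm_num)]
      simp only [mul_smul, Dg_smul C (show ∑ i, (0 : A6) i = 0 by simp), Pg_smul, Pi.zero_apply, ZMod.val_zero, pow_zero,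
        one_mul]
      fin_cases i <;> rfl
    rw [mem_fixedBy, e]
    exact ⟨fun h => ⟨congrFun h 0, congrFun h 2⟩, fun h => funext fun i => by fin_cases i <;> simp [h.1, h.2]⟩
  rw [Nat.card_congr (β := F × F × F × F) ⟨fun v => (v.1 0, v.1 2, v.1 4, v.1 5),
    fun p => ⟨![p.1, p.1, p.2.1, p.2.1, p.2.2.1, p.2.2.2], (h _).2 ⟨rfl, rfl⟩⟩,
    fun v => Subtype.ext (funext fun i => by fin_cases i <;> simp [((h _).1 v.2).1, ((h _).1 v.2).2]), fun _ => rfl⟩]
  simp [C.card]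

theorem card_le_of_conj {ι : SU 6 F 2 →* K} (hk : ι.ker = center _) {Q : Subgroup K}
    (h : ∀ x ∈ Q, x ≠ 1 → ∃ u, x = ι (u * (g8 C 0 * g8 C 2) * u⁻¹)) : Nat.card Q ≤ 2 ^ 8 := by
  classical
  have t2 : g8 C 0 * g8 C 2 * (g8 C 0 * g8 C 2) = 1 := by
    have e : ∀ m < 5, g8 C m = Pg C (sp m) := fun m hm => (g8_sp C hm).trans (su_ext fun v i => by
      rw [mul_smul, Dg_smul C (by simp)]; simp)
    rw [e 0 (by norm_num), e 2 (by norm_num), ← map_mul, ← map_mul, show sp 0 * sp 2 * (sp 0 * sp 2) = 1 by decide, map_one]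
  have z1 : ∀ z, ι z = 1 → z * z = 1 → z = 1 := fun z h1 h2 => by
    rw [← center_cube C.card (by norm_num) (hk.le h1), pow_three', h2, one_mul]
  have q2 : ∀ x ∈ Q, x * x = 1 := fun x hx => by
    by_cases h1 : x = 1
    · rw [h1, one_mul]
    obtain ⟨u, rfl⟩ := h x hx h1
    rw [← map_mul, conj_mul, t2, mul_one, mul_inv_cancel, map_one]
  let R : Subgroup (SU 6 F 2) :=
    { carrier := {s | ι s ∈ Q ∧ s * s = 1}
      one_mem' := ⟨by simp, one_mul _⟩
      inv_mem' := fun {s} hs => by rwa [inv_eq_of_mul_eq_one_right hs.2]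
      mul_mem' := fun {a b} ha hb => by
        have h1 : ι (a * b) ∈ Q := by rw [map_mul]; exact mul_mem ha.1 hb.1
        have h2 : ι (a * b * (a * b)) = 1 := by rw [map_mul]; exact q2 _ h1
        exact ⟨h1, z1 _ h2 (cen_sq ha.2 hb.2 (hk.le h2))⟩ }
  have h1 : Nat.card Q ≤ Nat.card R := by
    refine Nat.le_of_dvd Nat.card_pos ((card_dvd_of_le fun x hx => ?_).trans (card_map_dvd R ι))
    by_cases h1 : x = 1
    · rw [h1]; exact one_mem _
    obtain ⟨u, e⟩ := h x hx h1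
    exact ⟨_, ⟨e ▸ hx, by rw [conj_mul, t2, mul_one, mul_inv_cancel]⟩, e.symm⟩
  have := Fintype.ofFinite R
  have := Fintype.ofFinite (orbitRel.Quotient R (Fin 6 → F))
  have h2 := sum_card_fixedBy_eq_card_orbits_mul_card_group R (Fin 6 → F)
  rw [← Finset.add_sum_erase _ _ (Finset.mem_univ 1), Finset.sum_congr rfl (g := fun _ => 256) fun s hs => ?_] at h2
  · obtain ⟨n, hn⟩ := (Tech.isPGroup_iff_mem (p := 2).2 fun x (hx : x ∈ R) => ⟨1, by rw [pow_one, pow_two, hx.2]⟩).exists_card_eq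
    have h3 : 2 ^ n ∣ 2 ^ 8 * 15 := by
      rw [← Nat.card_eq_fintype_card, fixedBy_one_eq_univ, Finset.sum_const, Finset.card_erase_of_mem (Finset.mem_univ _),
        Finset.card_univ, ← Nat.card_eq_fintype_card (α := R), hn, Nat.card_univ, Nat.card_eq_fintype_card,
        Fintype.card_fun, C.card, Fintype.card_fin, smul_eq_mul] at h2
      have := Nat.one_le_two_pow (n := n)
      exact (Nat.dvd_add_left (dvd_mul_left (2 ^ n) 256)).1 (Dvd.intro_left _ (h2.symm.trans (by omega)))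
    exact h1.trans (hn ▸ Nat.le_of_dvd (by norm_num) (Nat.Coprime.dvd_of_dvd_mul_right (Nat.Coprime.pow_left n (by norm_num)) h3))
  · have h3 : s.1 ≠ 1 := fun e => Finset.ne_of_mem_erase hs (Subtype.ext e)
    obtain ⟨u, e⟩ := h _ s.2.1 fun e => h3 (z1 _ e s.2.2)
    have h4 : ι (s * (u * (g8 C 0 * g8 C 2) * u⁻¹)) = 1 := by rw [map_mul, ← e]; exact q2 _ s.2.1
    have h5 : u * (g8 C 0 * g8 C 2) * u⁻¹ * (u * (g8 C 0 * g8 C 2) * u⁻¹) = 1 := by
      rw [conj_mul, t2, mul_one, mul_inv_cancel]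
    have h6 := eq_inv_of_mul_eq_one_left (z1 _ h4 (R.mul_mem s.2 ⟨e ▸ s.2.1, h5⟩).2)
    rw [← Nat.card_eq_fintype_card, ← card_fix C, ← Set.natCard_smul_set u (fixedBy _ (g8 C 0 * g8 C 2)), smul_fixedBy, 
      ← inv_eq_of_mul_eq_one_right h5, ← h6]
    rfl

end CfsgLib.E62.S38
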