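import Mathlib
import Cfsg.Agent.Lib.E62.SFactA
import Cfsg.Agent.Lib.Rec3B.Abs

/-!
# An elementary abelian subgroup whose normaliser is strongly three-embedded is normal
-/

set_option autoImplicit false

namespace CfsgLib.E62.S38

open Subgroup Cfsg CfsgLib.Tech CfsgLib.W2

variable {G X : Type*} [Group G] [Group X]

/-- the facts used about the normaliser -/
structure Loc (A : Subgroup G) (J : G) : Prop where
  sq : ∀ x ∈ A, x * x = 1
  good : ∀ x ∈ A, Good x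
  inv : ∀ z, z * z = 1 → z ∈ A ∨ Good z ∨ ∃ u, u * z * u⁻¹ = J
  weak : ∀ E : Subgroup G, J ∈ E → (∀ x ∈ E, x * x = 1) → (∀ x ∈ E, x ∉ A → ¬ Good x) → Nat.card E < Nat.card A
  strong : ∃ (R : Subgroup G) (n : ℕ), IsPGroup 2 R ∧ R ≤ Cx J ∧ J ∈ R ∧
    (∀ Q : Subgroup G, IsPGroup 2 Q → Nat.card Q ≤ Nat.card (Q ⊓ A : Subgroup G) * n) ∧ ∀ Y ≤ R, J ∈ Y →
      R ≤ normalizer (Y : Set G) → (∀ x ∈ Y, x * x = 1) → (∀ x ∈ Y, x ∉ A → ¬ Good x) → Nat.card Y * n < Nat.card R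
  nrm : ∀ N : Subgroup G, N.Normal → A < N → ∃ j ∈ N, j ∉ A ∧ j * j = 1

theorem card_comap_of_le {ψ : G →* X} (hi : Function.Injective ψ) {E : Subgroup X} (h : E ≤ ψ.range) :
    Nat.card (E.comap ψ) = Nat.card E := by
  rw [← card_map_of_injective hi, map_comap_eq_self h]

theorem Loc.normal [Finite X] {ψ : G →* X} (hi : Function.Injective ψ) {V : Subgroup X}
    (hr : ψ.range = normalizer (V : Set X)) {J : G} (L : Loc (V.comap ψ) J) (hO : oddCore X = ⊥)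
    (hU : ∀ g d, d ^ 3 = 1 → d ≠ 1 → g * ψ d * g⁻¹ ∈ ψ.range → g ∈ ψ.range) : V.Normal := by
  have : Fact (Nat.Prime 3) := ⟨by norm_num⟩
  have := Finite.of_injective ψ hi
  have hVr : V ≤ ψ.range := hr ▸ le_normalizer
  have hV : ∀ v ∈ V, v * v = 1 := fun v hv => by
    obtain ⟨a, rfl⟩ := hVr hv
    rw [← map_mul, L.sq a hv, map_one]
  have hab : ∀ x ∈ V, ∀ y ∈ V, x * y = y * x := fun x hx y hy => by
    have e := inv_eq_of_mul_eq_one_right (hV _ (mul_mem hx hy))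
    rw [mul_inv_rev, inv_eq_of_mul_eq_one_right (hV x hx), inv_eq_of_mul_eq_one_right (hV y hy)] at e
    exact e.symm
  have h2 : IsPGroup 2 V := isPGroup_iff_mem.2 fun x hx => ⟨1, by rw [pow_one, pow_two, hV x hx]⟩
  have p3 : ∀ {d : G} (g : X), d ^ 3 = 1 → IsPGroup 3 (zpowers (g * ψ d * g⁻¹)) := fun g h =>
    isPGroup_zpowers_of_pow (k := 1) (by rw [pow_one, conj_pow, ← map_pow, h, map_one]; group)
  have ng : ∀ {g : X} {x : G}, ψ x ∈ cj g V → x ∉ V.comap ψ → ¬ Good x := by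
    rintro g x ⟨v, hv, e⟩ hx ⟨d', h1, h3, h4⟩
    replace e : g * v * g⁻¹ = ψ x := e
    obtain ⟨a, rfl⟩ := hVr hv
    obtain ⟨d, h5, h6, h7⟩ := L.good a hv
    obtain ⟨T, hT, h8⟩ := exists_isSylowIn_ge (H := Cx (ψ x)) (p3 1 h1)
      (zpowers_le.2 (mem_Cx.2 (by simpa using congrArg ψ h4)))
    have h9 : T ≤ ψ.range := by
      by_contra hn
      obtain ⟨y, hy, h10, h11⟩ := exists_mem_normalizer_of_lt hT.pgroup (inf_lt_left.2 hn)
      exact h10 ⟨hy, hU y d' h1 h3 (conj_mem_of_mem_normalizer h11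
        ⟨by simpa using h8 (mem_zpowers _), d', rfl⟩).2⟩
    obtain ⟨c, hc, h10⟩ := hT.exists_conj_mem (e ▸ conj_mem_Cx.2 (mem_Cx.2 (by simpa using congrArg ψ h7))) (p3 g h5)
    have h11 := hr.le (hU (c * g) d h5 h6 (h9 (by simpa only [mul_inv_rev, mul_assoc] using h10)))
    refine hx (mem_comap.2 ?_)
    rw [← mem_Cx'.1 hc, ← e]
    simpa only [mul_inv_rev, mul_assoc] using conj_mem_of_mem_normalizer h11 hv
  have sq' : ∀ {g : X} {x : G}, ψ x ∈ cj g V → x * x = 1 := fun {g x} h => hi (by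
    have := congrArg (g * · * g⁻¹) (hV _ (mem_cj.1 h))
    simpa [mul_assoc] using this)
  have toJ : ∀ {g : X} {x : G}, ψ x ∈ cj g V → x ∉ V.comap ψ → ∃ u, ψ u * ψ x * (ψ u)⁻¹ = ψ J := fun h hx => by
    obtain ⟨u, e⟩ := ((L.inv _ (sq' h)).resolve_left hx).resolve_left (ng h hx)
    exact ⟨u, by rw [← e, map_mul, map_mul, map_inv]⟩
  have s1 : ∀ {g : X}, cj g V ≤ normalizer (V : Set X) → g ∈ normalizer (V : Set X) := fun {g} h => by
    refine mem_normalizer_of_cj_le fun y hy => by_contra fun hn => ?_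
    obtain ⟨x, rfl⟩ := hr.ge (h hy)
    obtain ⟨u, e⟩ := toJ hy hn
    have h3 := L.weak ((cj (ψ u * g) V).comap ψ) (by rw [mem_comap, ← e, cj_mul]; exact conj_mem_cj.2 hy)
      (fun _ => sq') fun _ => ng
    rw [card_comap_of_le hi hVr, card_comap_of_le hi, card_cj] at h3
    · exact h3.false
    · rw [cj_mul, ← cj_eq_of_mem (H := ψ.range) ⟨u, rfl⟩]
      exact cj_mono _ (h.trans hr.ge)
  have s2 : ∀ {P : Subgroup X}, IsPGroup 2 P → V ≤ P → P ≤ normalizer (V : Set X) := fun {P} hP hVP => by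
    by_contra hn
    obtain ⟨x, hxP, hx, hx'⟩ := exists_mem_normalizer_of_lt hP (inf_lt_left.2 hn)
    refine hx (mem_inf.2 ⟨hxP, s1 ?_⟩)
    exact ((cj_mono x (le_inf hVP le_normalizer)).trans (mem_normalizer_iff_cj.1 hx').le).trans inf_le_right
  refine Rec3B.abs_normal (fun _ => True) hV (fun _ _ _ => trivial) (fun v hv => subset_closure ⟨hv, trivial⟩)
    (fun v hv g hg hn => False.elim ?_) (fun W _ _ _ _ => ⟨1, one_mem _, trivial⟩) hO fun N h3 h4 h5 => ?_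
  · obtain ⟨x, e⟩ := hr.ge hg
    obtain ⟨u, e1⟩ := toJ (e ▸ conj_mem_cj.2 hv) (by rwa [mem_comap, e])
    replace e1 : (ψ u * g)⁻¹ * ψ J * (ψ u * g)⁻¹⁻¹ = v := by rw [← e1, e]; group
    obtain ⟨R, n, h3, h4, h5, h6, h7⟩ := L.strong
    obtain ⟨T, hT, hVT⟩ := exists_isSylowIn_ge (H := Cx v) h2 fun x hx => mem_Cx.2 (hab x hx v hv)
    obtain ⟨c, hc, h8⟩ := hT.exists_cj_le (isPGroup_cj (ψ u * g)⁻¹ (h3.map ψ)) (by
      rw [← e1, ← cj_Cx]
      exact cj_mono _ (map_le_iff_le_comap.2 fun y hy => mem_Cx.2 (by simpa using congrArg ψ (mem_Cx.1 (h4 hy)))))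
    replace h8 := h8.trans (s2 hT.pgroup hVT)
    rw [← cj_mul] at h8
    replace e1 : c * (ψ u * g)⁻¹ * ψ J * (c * (ψ u * g)⁻¹)⁻¹ = v := by rw [← mem_Cx'.1 hc, ← e1]; group
    generalize c * (ψ u * g)⁻¹ = k at h8 e1
    have h9 := h6 _ ((isPGroup_cj k (h3.map ψ)).comap_of_injective ψ hi)
    rw [card_comap_of_le hi (h8.trans hr.ge), card_cj, card_map_of_injective hi] at h9
    refine (h9.trans (Nat.mul_le_mul_right n ?_)).not_gt (h7 (R ⊓ (cj k⁻¹ V).comap ψ) inf_le_left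
      ⟨h5, mem_comap.2 (mem_cj.2 (by rwa [inv_inv, e1]))⟩ (fun r hr => mem_normalizer_of_forall fun y hy =>
        ⟨R.mul_mem (R.mul_mem hr hy.1) (R.inv_mem hr), mem_comap.2 ?_⟩) (fun _ h => sq' h.2) fun _ h => ng h.2)
    · rw [← comap_inf, card_comap_of_le hi (inf_le_right.trans hVr), ← card_map_of_injective hi, ← card_cj k (map _ _)]
      refine card_le_of_le ?_
      rintro _ ⟨⟨_, ⟨y, hy, rfl⟩, rfl⟩, h⟩
      exact conj_mem_cj.2 ⟨y, ⟨hy, mem_comap.2 (mem_cj.2 (by rwa [inv_inv]))⟩, rfl⟩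
    · have := h8 (conj_mem_cj.2 ⟨r, hr, rfl⟩)
      rw [map_mul, map_mul, map_inv]
      refine conj_mem_of_mem_normalizer ?_ hy.2
      rw [← cj_normalizer, mem_cj, inv_inv]
      exact this
  · obtain ⟨j, h6, h7, h8⟩ := L.nrm (N.comap ψ) ⟨fun y hy g => mem_comap.2 (by
      rw [map_mul, map_mul, map_inv]; exact conj_mem_of_mem_normalizer (h5 (hr.le ⟨g, rfl⟩)) hy)⟩
      (lt_of_le_not_ge (comap_mono h3.le) fun h => h3.not_ge fun y hy => by
        obtain ⟨y, rfl⟩ := hr.ge (h4 hy)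
        exact h hy)
    exact ⟨ψ j, h6, h7, by rw [← map_mul, h8, map_one]⟩

end CfsgLib.E62.S38
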