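import Mathlib
import Cfsg.Agent.Lib.E62.SAff
import Cfsg.Agent.Lib.E62.SAut
import Cfsg.Agent.Lib.E62.SX

/-!
# The local facts about `2²⁰ : U₆(2)` and `2²⁰ : U₆(2) : 2`
-/

set_option autoImplicit false

namespace CfsgLib.E62.S38

open Subgroup Multiplicative Cfsg CfsgLib.Comput CfsgLib.FiTool CfsgLib.FiLoc CfsgLib.Tech CfsgLib.W2 CfsgLib.U62K
  CfsgLib.Unitary

variable {G K V : Type*} [Group G] [Group K] [AddCommGroup V] [DistribMulAction G V]

theorem syl_of_card [Finite G] {P L : Subgroup G} (hP : IsPGroup 2 P) (h : P ≤ L) {m n : ℕ}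
    (hc : Nat.card L = 2 ^ m * n) (hn : Nat.Coprime 2 n) (hm : 2 ^ m ≤ Nat.card P) :
    IsSylowIn 2 P L ∧ Nat.card P ≤ 2 ^ m := by
  obtain ⟨T, hT, h1⟩ := exists_isSylowIn_ge hP h
  obtain ⟨a, ha⟩ := hT.pgroup.exists_card_eq
  have h2 : Nat.card T ≤ 2 ^ m := Nat.le_of_dvd (by positivity)
    (Nat.Coprime.dvd_of_dvd_mul_right (ha ▸ hn.pow_left a) (hc ▸ card_dvd_of_le hT.le))
  exact ⟨hT.of_card_le hP h (h2.trans hm), (card_le_of_le h1).trans h2⟩

variable {F : Type*} [Field F] [Fintype F] {ω : F} {ι : SU 6 F 2 →* K} {p : G →* K} {j : K →* G}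
  {tr : Multiplicative V →* G}

omit [Fintype F] in
theorem UK.sd [Nontrivial V] (U : UK ι) (hp : ∀ k, p (j k) = k) (two : ∀ v : V, v + v = 0) (inj : Function.Injective tr)
    (ker : p.ker = tr.range) (conj : ∀ g v, g * tr (ofAdd v) * g⁻¹ = tr (ofAdd (g • v)))
    (hf : ∀ v : V, (∀ k, j k • v = v) → v = 0) : Sd (j.comp p) tr := by
  have hj : Function.Injective j := Function.LeftInverse.injective hp
  refine ⟨two, inj, by rw [← ker, MonoidHom.ker_comp_of_injective _ _ hj], fun x => by simp [hp], conj, fun g h => ?_⟩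
  rcases U.min ((MulAction.toPermHom G V).comp j).ker inferInstance with h1 | h1
  · obtain ⟨w, hw⟩ : g⁻¹ * j (p g) ∈ tr.range := by rw [← ker, MonoidHom.mem_ker]; simp [hp]
    have h2 : p g ∈ ((MulAction.toPermHom G V).comp j).ker := Equiv.ext fun v => by
      have := conj (tr w) v
      rw [← map_mul, mul_comm, map_mul, mul_inv_cancel_right, hw, mul_smul] at this
      exact (inv_smul_eq_iff.1 (ofAdd.injective (inj this)).symm).trans (h v)
    rw [MonoidHom.comp_apply, mem_bot.1 (h1.le h2), map_one]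
  obtain ⟨v, hv⟩ := exists_ne (0 : V)
  replace h1 : ∀ k ∈ ι.range, ∀ v : V, j k • v = v := fun k hk v => DFunLike.congr_fun (h1 hk) v
  rcases U.out with h2 | ⟨γ, h2, h3, h4, -⟩
  · exact absurd (hf v fun k => h1 k (h2.ge (mem_top k)) v) hv
  have h5 : ∀ w : V, j γ • w = w → w = 0 := fun w hw => hf w fun k => by
    by_cases hk : k ∈ ι.range
    · exact h1 k hk w
    · rw [← mul_one k, ← h3, ← mul_assoc, map_mul, mul_smul, hw]
      exact h1 _ ((mul_mem_iff_of_index_two h4).2 (iff_of_false hk h2)) w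
  refine absurd (h5 v ?_) hv
  have h6 := h5 (j γ • v + v) (by rw [smul_add, ← mul_smul, ← map_mul, h3, map_one, one_smul, add_comm])
  rwa [← two v, add_left_inj] at h6

theorem UK.loc [Finite G] [Finite V] (C : Ctx ω) (U : UK ι) (hp : ∀ k, p (j k) = k) (S : Sd (j.comp p) tr)
    (hV : Nat.card V = 2 ^ 20) : ∃ J, Loc p.ker J := by
  have hj : Function.Injective j := Function.LeftInverse.injective hp
  have := Finite.of_injective j hj
  have hk : (j.comp ι).ker = center _ := by rw [MonoidHom.ker_comp_of_injective _ _ hj, U.ker]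
  obtain ⟨α, T, h1, h2, h3⟩ := S.exists_St C hV (ι := j.comp ι) (fun s => by simp [hp]) hk
  have eA : p.ker = pcSub α 20 0 := by rw [← T.ker, MonoidHom.ker_comp_of_injective _ _ hj]
  have eK : (j.comp p).range = j.range := le_antisymm (by rintro _ ⟨x, rfl⟩; exact ⟨_, rfl⟩)
    (by rintro _ ⟨x, rfl⟩; exact ⟨j x, by simp [hp]⟩)
  have c0 : Nat.card ι.range = 2 ^ 15 * 280665 := by
    have := ι.ker.card_mul_index
    rw [index_ker, U.ker, card_center_SU C.card (by norm_num), C.card_SU6,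
      show Nat.gcd 6 (2 + 1) = 3 from rfl] at this
    omega
  have c1 : Nat.card (j.comp p).range = Nat.card ι.range * ι.range.index := by
    rw [eK, card_mul_index]; exact (Nat.card_congr (MonoidHom.ofInjective hj).toEquiv).symm
  have et : ev α 34 = j.comp ι (g8 C 0 * g8 C 2) := by
    rw [T.misc.1, map_mul, ← h1 0 (by norm_num), ← h1 2 (by norm_num), ev_letter α (m := 35) (by norm_num),
      ev_letter α (m := 37) (by norm_num)]
  have hP : ∀ i, pcSub (bt α) 15 i ≤ (j.comp ι).range := fun i => pcSub_le.2 fun m _ _ => h2 m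
  obtain ⟨γ, r, g1, g2, ⟨g3, g4, g5⟩, g6, g7, g8', g9, g10⟩ : ∃ (γ : G) (r : ℕ), γ * γ = 1 ∧ j.comp p γ = γ ∧
      (γ ∈ Cx (ev α 0x220c) ∧ γ ∈ Cx (ev α 34) ∧ ∀ i, γ ∈ normalizer (pcSub (bt α) 15 i : Set G)) ∧
      (∀ z, z * z = 1 → γ⁻¹ * j.comp p z ∈ pcSub (bt α) 15 0 →
        z ∈ pcSub α 20 0 ∨ Good z ∨ ∃ u, u * z * u⁻¹ = ev α 0x220c) ∧ ι.range.index = 2 ^ r ∧
      (∀ P ≤ (j.comp ι).range, 2 ^ r * Nat.card P ≤ Nat.card (zpowers γ ⊔ P : Subgroup G)) ∧
      (∀ k, j k ∈ (j.comp ι).range ∨ γ * j k ∈ (j.comp ι).range) ∧ (γ ∈ (j.comp ι).range → γ = 1) := by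
    rcases U.out with h | ⟨γ, h4, h5, h6, h7⟩
    · refine ⟨1, 0, one_mul _, map_one _, ⟨one_mem _, one_mem _, fun _ => one_mem _⟩,
        fun z hz h => T.inv_in hz (by simpa using h), by simp [h], fun P _ => by simp, fun k => .inl ?_, fun _ => rfl⟩
      obtain ⟨s, rfl⟩ := h.ge (mem_top k)
      exact ⟨s, rfl⟩
    have T1 := h3 (j γ) (by simp [hp]) fun s s' h => by simpa using congrArg j (h7 s s' h)
    have h8 : j γ ∉ (j.comp ι).range := fun ⟨s, e⟩ => h4 ⟨s, hj e⟩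
    refine ⟨j γ, 1, by rw [← map_mul, h5, map_one], T1.fix1, T1.gam, fun z hz h => .inr (.inl (T1.good_out hz h)), h6,
      fun P hP => two_mul_card_le le_sup_right (mem_sup_left (mem_zpowers _)) fun h => h8 (hP h), fun k => ?_,
      fun h => absurd h h8⟩
    by_cases hk : k ∈ ι.range
    · obtain ⟨s, rfl⟩ := hk
      exact .inl ⟨s, rfl⟩
    · obtain ⟨s, e⟩ := (mul_mem_iff_of_index_two h6).2 (iff_of_false h4 hk)
      exact .inr ⟨s, by rw [← map_mul, ← e]; rfl⟩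
  have p2 : ∀ i, IsPGroup 2 (zpowers γ ⊔ pcSub (bt α) 15 i : Subgroup G) := fun i =>
    (isPGroup_zpowers_of_pow (k := 1) (by rw [pow_one, pow_two, g1])).to_sup_of_normal_right' (T.serB.isPGroup i)
      (zpowers_le.2 (g5 i))
  have sp : ∀ i, ∀ x ∈ zpowers γ ⊔ pcSub (bt α) 15 i, x ∈ pcSub (bt α) 15 i ∨ γ⁻¹ * x ∈ pcSub (bt α) 15 i := fun i x hx => by
    obtain ⟨k, hk, y, hy, rfl⟩ := exists_pow_mul two_pos (by rw [pow_two, g1]; exact one_mem _) (g5 i) hx
    interval_cases k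
    exacts [.inl (by simpa using hy), .inr (by simpa using hy)]
  obtain ⟨y1, y2⟩ := syl_of_card (p2 0) (sup_le (zpowers_le.2 (MonoidHom.mem_range.2 ⟨γ, g2⟩)) (T.pc_le 0)) (m := r + 15) (n := 280665)
    (by rw [c1, c0, g7]; ring) (by norm_num) (((pow_add _ _ _).trans_le (Nat.mul_le_mul_left _ T.card0)).trans (g8' _ (hP 0)))
  have hF : ∀ z, z * z = 1 → z ∈ pcSub α 20 0 ∨ Good z ∨ ∃ u, u * z * u⁻¹ = ev α 0x220c := fun z hz => by
    obtain ⟨c, hc, h4⟩ := y1.exists_conj_mem ⟨z, rfl⟩ (isPGroup_zpowers_of_pow (k := 1) (by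
      rw [pow_one, pow_two, ← map_mul, hz, map_one]))
    rw [← T.fix_of_mem hc, ← map_inv, ← map_mul, ← map_mul] at h4
    have h5 : c * z * c⁻¹ * (c * z * c⁻¹) = 1 := by simpa using hz
    refine ((sp 0 _ h4).elim (T.inv_in h5) (g6 _ h5)).imp (fun h => ?_)
      (Or.imp (fun h => h.of_conj rfl) fun ⟨u, hu⟩ => ⟨u * c, by rw [← hu]; group⟩)
    simpa [mul_assoc] using T.nrm c⁻¹ h
  have cjt : ∀ x, (∃ k ∈ (j.comp p).range, k * x * k⁻¹ = ev α 34) → ∃ u, x = j.comp ι (u * (g8 C 0 * g8 C 2) * u⁻¹) := by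
    rintro x ⟨_, hk, e⟩
    obtain ⟨k, rfl⟩ := eK.le hk
    rcases g9 k with ⟨s, h⟩ | ⟨s, h⟩ <;> refine ⟨s⁻¹, ?_⟩ <;> rw [map_mul, map_mul, ← et, inv_inv, map_inv, h]
    · rw [← e]; group
    · rw [← mem_Cx'.1 g4, ← e]; group
  rw [eA]
  refine ⟨_, T.sq, fun _ => T.good_A, hF, fun E h4 h5 h6 => T.card ▸ T.weak hF
    (fun Q _ h => card_le_of_conj C hk fun x hx h1 => cjt x (h x hx h1)) h4 h5 h6, ?_, fun N hN h => ?_⟩
  · obtain ⟨R, h4, h5, h6, h7, h8⟩ := T.strong hF (p2 1) le_sup_right (sup_le (zpowers_le.2 ⟨γ, g3, g2⟩)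
      (pcSub_le.2 fun m h4 h5 => by
        obtain ⟨a, ha, h⟩ := (T.lift h4 h5).1
        exact ⟨_, h, by rw [map_mul, T.fix, (T.ker ▸ ha : a ∈ (j.comp p).ker), one_mul]⟩))
      fun x hx h => (sp 1 x hx).elim id fun h4 => by
        obtain ⟨u, rfl⟩ := cjt x h
        have := g10 (inv_mem_iff.1 ((mul_mem_cancel_right (MonoidHom.mem_range.2 ⟨_, rfl⟩)).1 (hP 1 h4)))
        simpa [this] using h4
    refine ⟨R, 2 ^ (r + 15), h4, h5, h6, fun Q hQ => ?_, fun Y a b c d e => ?_⟩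
    · rw [card_ker_map (j.comp p) Q, T.ker]
      exact Nat.mul_le_mul_left _ ((y1.card_le (hQ.map _) (map_le_range _ _)).trans y2)
    · have := (Nat.mul_le_mul_left _ T.card1).trans (g8' _ (hP 1))
      have := Nat.mul_le_mul_right (2 ^ (r + 15)) (h8 Y a b c d e)
      have := Nat.one_le_two_pow (n := r)
      rw [pow_add] at *
      omega
  · refine ⟨ev α 34, ?_, fun h4 => T.pi_t.2.2.1 (T.pi_t.1.symm.trans (T.ker.ge h4)), T.misc.2.1⟩
    rcases U.min (N.map p) (hN.map p fun k => ⟨j k, hp k⟩) with h4 | h4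
    · exact absurd (eA ▸ (Subgroup.map_eq_bot_iff _).1 h4) h.not_ge
    obtain ⟨y, hy, e⟩ := h4 ⟨g8 C 0 * g8 C 2, rfl⟩
    exact inv_mem_iff.1 ((mul_mem_cancel_right hy).1 (h.le (T.split ((congrArg j e).trans et.symm))))

end CfsgLib.E62.S38
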